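import Cfsg.Agent.Lib.U43T.General3
import Mathlib.GroupTheory.IndexNormal

/-!
Elementary facts about an involution normalising a group.
-/

set_option autoImplicit false
set_option linter.unusedSectionVars false

namespace Cfsg.Agent.U43T

open Subgroup

variable {G : Type*} [Group G] [Finite G]

/-- An involution normalising a group of even order fixes one of its involutions. -/
theorem exists_invol_fixed {X : Subgroup G} {z : G} (hzz : z * z = 1) (hn : ∀ x ∈ X, z * x * z⁻¹ ∈ X)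
    (he : Even (Nat.card X)) : ∃ y ∈ involSet X, Commute y z := by
  classical
  haveI := Fintype.ofFinite G
  haveI : Fact (Nat.Prime 2) := ⟨Nat.prime_two⟩
  let σ : Function.End X := fun x => ⟨z * x * z⁻¹, hn x x.2⟩
  have hσ : σ ^ 2 ^ 1 = 1 := by
    funext x
    refine Subtype.ext ?_
    show z * (z * x * z⁻¹) * z⁻¹ = x
    calc z * (z * x * z⁻¹) * z⁻¹ = (z * z) * x * (z * z)⁻¹ := by group
      _ = x := by rw [hzz]; group
  have h := Equiv.Perm.card_fixedPoints_modEq hσ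
  have hfix : Fintype.card σ.fixedPoints = Nat.card ↥(X ⊓ centralizer ({z} : Set G)) := by
    rw [← Nat.card_eq_fintype_card]
    refine Nat.card_congr
      { toFun := fun p => ⟨p.1.1, mem_inf.2 ⟨p.1.2, mem_centralizer_singleton_iff.2 ?_⟩⟩
        invFun := fun p => ⟨⟨p.1, (mem_inf.1 p.2).1⟩, ?_⟩
        left_inv := fun p => rfl
        right_inv := fun p => rfl }
    · exact (mul_inv_eq_iff_eq_mul.1 (congrArg Subtype.val p.2 : z * p.1.1 * z⁻¹ = p.1.1)).symm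
    · exact Subtype.ext (mul_inv_eq_iff_eq_mul.2 (mem_centralizer_singleton_iff.1 (mem_inf.1 p.2).2).symm :
        z * p.1 * z⁻¹ = p.1)
  rw [hfix, ← Nat.card_eq_fintype_card] at h
  have h2 : 2 ∣ Nat.card ↥(X ⊓ centralizer ({z} : Set G)) :=
    Nat.modEq_zero_iff_dvd.1 (h.symm.trans (Nat.modEq_zero_iff_dvd.2 (even_iff_two_dvd.1 he)))
  obtain ⟨⟨y, hy⟩, ho⟩ := exists_prime_orderOf_dvd_card' 2 h2
  replace ho : orderOf y = 2 := (Subgroup.orderOf_coe ⟨y, hy⟩).trans ho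
  obtain ⟨hyX, hyz⟩ := mem_inf.1 hy
  refine ⟨y, ⟨hyX, by rw [← pow_two, ← ho, pow_orderOf_eq_one], fun e => ?_⟩, mem_centralizer_singleton_iff.1 hyz⟩
  rw [e, orderOf_one] at ho
  omega

/-- A fixed-point-free involution inverts. -/
theorem inverted_of_fixed_free {X : Subgroup G} {z : G} (hzz : z * z = 1) (hn : ∀ x ∈ X, z * x * z⁻¹ ∈ X)
    (hfree : ∀ x ∈ X, z * x * z⁻¹ = x → x = 1) :
    Odd (Nat.card X) ∧ ∀ x ∈ X, z * x * z⁻¹ = x⁻¹ := by
  have hodd : Odd (Nat.card X) := by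
    by_contra h
    obtain ⟨y, hy, hyz⟩ := exists_invol_fixed hzz hn (Nat.not_odd_iff_even.1 h)
    exact hy.2.2 (hfree y hy.1 (mul_inv_eq_iff_eq_mul.2 hyz.symm.eq))
  refine ⟨hodd, fun x hx => ?_⟩
  obtain ⟨a, b, ha, haz, ⟨-, hbz⟩, rfl⟩ := RankOne.exists_decomp hzz hodd hn hx
  rw [hfree a ha haz, one_mul]
  exact hbz

theorem commute_of_inverted {X : Subgroup G} {z : G} (h : ∀ x ∈ X, z * x * z⁻¹ = x⁻¹) {x y : G} (hx : x ∈ X)
    (hy : y ∈ X) : Commute x y := by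
  have e := h _ (mul_mem hx hy)
  rw [← conj_mul, h x hx, h y hy, mul_inv_rev] at e
  exact Commute.inv_inv_iff.1 e

/-- An element of odd order does not invert a non-trivial element of odd order. -/
theorem not_odd_inverts {g u : G} (hg : Odd (orderOf g)) (hu : Odd (orderOf u)) (hu1 : u ≠ 1)
    (h : g * u * g⁻¹ = u⁻¹) : False := by
  have h2 : Commute (g * g) u := mul_inv_eq_iff_eq_mul.1 (by
    rw [show g * g * u * (g * g)⁻¹ = g * (g * u * g⁻¹) * g⁻¹ by group, h, ← conj_inv, h, inv_inv])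
  obtain ⟨m, hm⟩ := RankOne.exists_sqrt hg
  have h3 : Commute g u := by rw [← hm, ← (Commute.refl g).mul_pow]; exact h2.pow_left m
  rw [mul_inv_eq_iff_eq_mul.2 h3.eq] at h
  exact hu1 (RankOne.sq_inj hu (by simp) (by rw [one_mul]; exact mul_eq_one_iff_eq_inv.2 h))

/-- Being of three-power order. -/
def IsThree (x : G) : Prop := ∃ k : ℕ, x ^ 3 ^ k = 1

theorem isThree_one : IsThree (1 : G) := ⟨0, one_pow _⟩

theorem isThree_of_cube {x : G} (h : x * x * x = 1) : IsThree x :=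
  ⟨1, by rw [pow_one, pow_succ, pow_two, h]⟩

theorem IsThree.inv {x : G} (h : IsThree x) : IsThree x⁻¹ := by
  obtain ⟨k, hk⟩ := h
  exact ⟨k, by rw [inv_pow, hk, inv_one]⟩

theorem IsThree.mul {x y : G} (hx : IsThree x) (hy : IsThree y) (hc : Commute x y) : IsThree (x * y) := by
  obtain ⟨i, hi⟩ := hx
  obtain ⟨j, hj⟩ := hy
  refine ⟨i + j, ?_⟩
  rw [hc.mul_pow, pow_add, pow_mul, hi, one_pow, one_mul, mul_comm, pow_mul, hj, one_pow]

theorem IsThree.eq_one {x : G} (h : IsThree x) (hc : Nat.Coprime (orderOf x) 3) : x = 1 := by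
  obtain ⟨k, hk⟩ := h
  exact orderOf_eq_one_iff.1 (Nat.Coprime.eq_one_of_dvd (hc.pow_right k) (orderOf_dvd_of_pow_eq_one hk))

/-- The part of order prime to three. -/
theorem exists_coprime_part (x : G) :
    ∃ m k : ℕ, Nat.Coprime (orderOf (x ^ 3 ^ k)) 3 ∧ (x ^ 3 ^ k = 1 ↔ IsThree x) ∧ Nat.Coprime m 3 ∧
      IsThree (x ^ m) := by
  obtain ⟨a, m, hm, e⟩ := Nat.exists_eq_pow_mul_and_not_dvd (orderOf_pos x).ne' 3 (by norm_num)
  have hm3 : Nat.Coprime m 3 := Nat.coprime_comm.1 (Nat.prime_three.coprime_iff_not_dvd.2 hm)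
  refine ⟨m, a, Nat.Coprime.coprime_dvd_left
    (orderOf_dvd_of_pow_eq_one (by rw [← pow_mul, ← e, pow_orderOf_eq_one])) hm3,
    ⟨fun h => ⟨a, h⟩, ?_⟩, hm3, ⟨a, by rw [← pow_mul, mul_comm, ← e, pow_orderOf_eq_one]⟩⟩
  rintro ⟨k, hk⟩
  have h := orderOf_dvd_of_pow_eq_one hk
  rw [e] at h
  have hm1 : m = 1 := Nat.Coprime.eq_one_of_dvd (hm3.pow_right k) (dvd_trans (dvd_mul_left m _) h)
  have := pow_orderOf_eq_one x
  rwa [e, hm1, mul_one] at this

/-- A 3-group of order `3 ^ 4` normalised by a larger one. -/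
theorem exists_normalising {X R : Subgroup G} (hR : R ≤ X) {n : ℕ} (hc : Nat.card R = 3 ^ n)
    (hX : 3 ^ (n + 1) ∣ Nat.card X) :
    ∃ K : Subgroup G, K ≤ X ∧ R ≤ K ∧ Nat.card K = 3 ^ (n + 1) ∧ ∀ g ∈ K, ∀ r ∈ R, g * r * g⁻¹ ∈ R := by
  haveI : Fact (Nat.Prime 3) := ⟨Nat.prime_three⟩
  have hc' : Nat.card ↥(R.subgroupOf X) = 3 ^ n := by
    rw [Nat.card_congr (subgroupOfEquivOfLe hR).toEquiv, hc]
  obtain ⟨K, hK, hKle⟩ := Sylow.exists_subgroup_card_pow_succ hX hc'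
  have hnormal : ((R.subgroupOf X).subgroupOf K).Normal := by
    refine normal_of_index_eq_minFac_card ?_
    have h2 := ((R.subgroupOf X).subgroupOf K).card_mul_index
    rw [Nat.card_congr (subgroupOfEquivOfLe hKle).toEquiv, hc', hK, pow_succ] at h2
    rw [hK, Nat.pow_minFac (Nat.succ_ne_zero n), Nat.prime_three.minFac_eq]
    exact Nat.eq_of_mul_eq_mul_left (by positivity) h2
  refine ⟨K.map X.subtype, by rintro _ ⟨g, -, rfl⟩; exact g.2, ?_, ?_, ?_⟩
  · intro r hr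
    exact ⟨⟨r, hR hr⟩, hKle (show (⟨r, hR hr⟩ : X) ∈ R.subgroupOf X from hr), rfl⟩
  · rw [card_map_of_injective Subtype.val_injective, hK]
  · rintro _ ⟨g, hg, rfl⟩ r hr
    exact hnormal.conj_mem ⟨⟨r, hR hr⟩, hKle (show (⟨r, hR hr⟩ : X) ∈ R.subgroupOf X from hr)⟩
      (show (⟨r, hR hr⟩ : X) ∈ R.subgroupOf X from hr) ⟨g, hg⟩

end Cfsg.Agent.U43T
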