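import Cfsg.Agent.Lib.U43T.Model
import Mathlib.LinearAlgebra.Matrix.SpecialLinearGroup
import Mathlib.Algebra.Field.ZMod
import Mathlib.Data.Fintype.Basic

/-!
The coding of `SL(2,3)` by the numbers below 24.
-/

set_option autoImplicit false

namespace Cfsg.Agent.U43T

/-- `SL(2,3)`. -/
abbrev SL23 := Matrix.SpecialLinearGroup (Fin 2) (ZMod 3)

theorem mat_det : ∀ k : Fin 24, (!![(((matTab >>> (8 * k.val)) % 256 : ℕ) : ZMod 3),
    (((matTab >>> (8 * k.val)) % 256 / 3 : ℕ) : ZMod 3);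
    (((matTab >>> (8 * k.val)) % 256 / 9 : ℕ) : ZMod 3),
    (((matTab >>> (8 * k.val)) % 256 / 27 : ℕ) : ZMod 3)] : Matrix (Fin 2) (Fin 2) (ZMod 3)).det = 1 := by
  decide +kernel

/-- Decoding. -/
def decS (k : Fin 24) : SL23 := ⟨_, mat_det k⟩

theorem sMul_lt : ∀ s : Fin 24, ∀ t : Fin 24, sMul s t < 24 := by decide +kernel
theorem sRef_lt : ∀ s : Fin 24, sRef s < 24 := by decide +kernel
theorem sInv_lt : ∀ s : Fin 24, sInv s < 24 := by decide +kernel

theorem decS_mul' : ∀ s t : Fin 24, decS s * decS t = decS ⟨sMul s t, sMul_lt s t⟩ := by decide +kernel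

theorem decS_inj' : ∀ s t : Fin 24, decS s = decS t → s = t := by decide +kernel

theorem decS_surj : ∀ g : SL23, ∃ k : Fin 24, decS k = g := by decide +kernel

theorem decS_neg : ∀ k : Fin 24, decS ⟨sNeg k, Nat.mod_lt _ (by omega)⟩ = decS 12 * decS k := by
  decide +kernel

theorem decS_zero : decS 0 = 1 := by decide +kernel

theorem decS_central : ∀ k : Fin 24, decS 12 * decS k = decS k * decS 12 := by decide +kernel

theorem involution_eq : ∀ g : SL23, g * g = 1 → g ≠ 1 → g = decS 12 := by decide +kernel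

/-- The pullback of a homomorphism to the numbers. -/
def pull {G : Type*} [Group G] (φ : SL23 →* G) (s : ℕ) : G :=
  if h : s < 24 then φ (decS ⟨s, h⟩) else 1

section

variable {G : Type*} [Group G] (φ : SL23 →* G)

theorem pull_mul {s t : ℕ} (hs : s < 24) (ht : t < 24) : pull φ (sMul s t) = pull φ s * pull φ t := by
  rw [pull, dif_pos (sMul_lt ⟨s, hs⟩ ⟨t, ht⟩), pull, dif_pos hs, pull, dif_pos ht, ← map_mul,
    decS_mul' ⟨s, hs⟩ ⟨t, ht⟩]

theorem pull_zero : pull φ 0 = 1 := by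
  rw [pull, dif_pos (by norm_num)]; exact (congrArg φ decS_zero).trans (map_one φ)

theorem pull_inj {s t : ℕ} (hφ : Function.Injective φ) (hs : s < 24) (ht : t < 24)
    (h : pull φ s = pull φ t) : s = t := by
  rw [pull, dif_pos hs, pull, dif_pos ht] at h
  exact congrArg Fin.val (decS_inj' _ _ (hφ h))

theorem exists_pull {g : G} (hg : g ∈ φ.range) : ∃ s, s < 24 ∧ pull φ s = g := by
  obtain ⟨a, rfl⟩ := hg
  obtain ⟨k, rfl⟩ := decS_surj a
  exact ⟨k, k.2, by rw [pull, dif_pos k.2]⟩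

theorem pull_neg {s : ℕ} (hs : s < 24) : pull φ (sNeg s) = pull φ 12 * pull φ s := by
  rw [pull, dif_pos (show sNeg s < 24 from Nat.mod_lt _ (by omega)), decS_neg ⟨s, hs⟩, map_mul, pull,
    dif_pos (by norm_num), pull, dif_pos hs]
  rfl

end

end Cfsg.Agent.U43T
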