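import Cfsg.Agent.Lib.U43T.BOne

/-!
The centraliser of `144`: orders and the structure of the odd normal subgroup.
-/

set_option autoImplicit false
set_option linter.unusedSectionVars false

namespace Cfsg.Agent.U43T

open Subgroup

variable {G : Type*} [Group G] [Finite G] {z z₀ : G}

namespace Cycle

variable {F : Frame z} (C : Cycle F)

include C in
/-- A subgroup of order 243 of the centraliser of `150` has centre of order at most nine. -/
theorem centre_le_nine (S : Setting z₀) {X : Subgroup G} (hX : X ≤ F.cu) (hc : Nat.card X = 243) :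
    {c | c ∈ X ∧ ∀ x ∈ X, Commute c x}.ncard ≤ 9 := by
  obtain ⟨T⟩ := C.exists_sylU S
  obtain ⟨h, -, hhR⟩ := sylow3_conj (T.le.trans F.lu_le_cu) T.card T.not729 hX (IsPGroup.of_card (n := 5) hc)
  have hmap : X.map (MulAut.conj h).toMonoidHom = T.R := by
    refine eq_of_le_of_card_ge ?_ (by rw [card_map_of_injective (MulEquiv.injective _), hc, T.card])
    rintro _ ⟨x, hx, rfl⟩
    exact hhR x hx
  have himg : (fun c => h * c * h⁻¹) '' {c | c ∈ X ∧ ∀ x ∈ X, Commute c x} ⊆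
      {c | c ∈ T.R ∧ ∀ x ∈ T.R, Commute c x} := by
    rintro _ ⟨c, ⟨hcX, hcc⟩, rfl⟩
    refine ⟨hhR c hcX, fun y hy => ?_⟩
    rw [← hmap] at hy
    obtain ⟨x, hx, rfl⟩ := hy
    exact (hcc x hx).map (MulAut.conj h).toMonoidHom
  rw [← Set.ncard_image_of_injective _ (show Function.Injective (fun c => h * c * h⁻¹) from
    fun a b e => mul_left_cancel (mul_right_cancel e))]
  refine (Set.ncard_le_ncard himg (Set.toFinite _)).trans ?_
  -- the centre lies in `esub`
  obtain ⟨g, hgR, hgE⟩ : ∃ g ∈ T.R, g ∉ F.esub := by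
    by_contra hne
    push Not at hne
    have := card_le_of_le (hne : T.R ≤ F.esub)
    rw [T.card, C.card_esub S] at this
    omega
  refine (Set.ncard_le_ncard ?_ (Set.toFinite _)).trans (T.fix g hgR hgE)
  rintro c ⟨hcR, hcc⟩
  refine ⟨?_, hcc g hgR⟩
  by_contra hcE
  have h9 := T.fix c hcR hcE
  rw [show {e | e ∈ F.esub ∧ Commute e c} = (F.esub : Set G) from Set.ext fun e =>
    ⟨fun he => he.1, fun he => ⟨he, (hcc e (T.E_le he)).symm⟩⟩,
    show (F.esub : Set G).ncard = 81 from (Nat.card_coe_set_eq _).symm.trans (C.card_esub S)] at h9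
  omega

end Cycle

namespace Frame.OData

variable {F : Frame z} (D : F.OData)

include D in
theorem dsplit : Split D.O z (F.f 144) :=
  Split.of_decomp F.centre_sq D.odd F.u1_cube (fun _ hx => F.mem_k1.1 (D.le hx)) (F.comm 144 (by norm_num)).symm
    (fun x hx => D.normal z F.z_mem_k1 x hx) D.fixed

/-- The inverted part. -/
def jset (D : F.OData) : Set G := {w | w ∈ D.O ∧ z * w * z⁻¹ = w⁻¹}

include D in
theorem jset_eq : D.jset = invSet F.k1 z :=
  Set.ext fun w => ⟨fun h => ⟨D.le h.1, RankOne.odd_orderOf D.odd h.1, h.2⟩, fun h => ⟨D.inv_mem w h, h.2.2⟩⟩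

include D in
theorem card_O_eq : Nat.card D.O = 3 * D.jset.ncard := by
  rw [RankOne.card_decomp F.centre_sq D.O D.odd (fun x hx => D.normal z F.z_mem_k1 x hx), Nat.card_coe_set_eq]
  congr 1
  have : D.O ⊓ centralizer ({z} : Set G) = zpowers (F.f 144) := by
    refine le_antisymm (fun x hx => D.fixed x hx.1 (RankOne.mem_centralizer_iff_conj.1 hx.2))
      (zpowers_le.2 (mem_inf.2 ⟨D.u_mem, mem_centralizer_singleton_iff.2 (F.comm 144 (by norm_num))⟩))
  rw [this, Nat.card_zpowers, orderOf_cube F.u1_cube F.u1_ne]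

include D in
theorem einv_sub (S : Setting z₀) (C : Cycle F) {e : G} (he : e ∈ F.esub) (hi : z * e * z⁻¹ = e⁻¹) : e ∈ D.jset := by
  rw [D.jset_eq]
  exact ⟨F.mem_k1.2 (F.cp_comm_psub (F.mem_esub.1 he).1 ⟨144, by decide, rfl⟩), (F.mem_esub.1 he).2, hi⟩

include D in
theorem isPGroup (S : Setting z₀) : IsPGroup 3 D.O := by
  haveI : Fact (Nat.Prime 3) := ⟨Nat.prime_three⟩
  obtain ⟨C⟩ := S.exists_cycle F
  have hxt := D.einv_sub S C (C.xt_mem_esub S) C.xt_rel.2.1
  intro ⟨x, hx⟩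
  obtain ⟨a, m, hm, e⟩ := Nat.exists_eq_pow_mul_and_not_dvd (orderOf_pos x).ne' 3 (by norm_num)
  refine ⟨a, Subtype.ext ?_⟩
  show x ^ 3 ^ a = 1
  have hp : x ^ 3 ^ a ∈ D.O := pow_mem hx _
  have hord : orderOf (x ^ 3 ^ a) ∣ m :=
    orderOf_dvd_of_pow_eq_one (by rw [← pow_mul, ← e, pow_orderOf_eq_one])
  have hc3 : Nat.Coprime (orderOf (x ^ 3 ^ a)) 3 :=
    Nat.Coprime.coprime_dvd_left hord (Nat.coprime_comm.1 (Nat.prime_three.coprime_iff_not_dvd.2 hm))
  have hcom := D.dsplit.commute_coprime hp hxt.1 hc3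
  have hdvd : orderOf (x ^ 3 ^ a) ∣ 972 := by
    rw [← S.card_uty C.uty_xt]
    rw [← Subgroup.orderOf_mk _ (mem_centralizer_singleton_iff.2 hcom :
      x ^ 3 ^ a ∈ centralizer ({C.xt} : Set G))]
    exact orderOf_dvd_natCard _
  have h2 : Nat.Coprime (orderOf (x ^ 3 ^ a)) 2 := Nat.coprime_two_right.2 (RankOne.odd_orderOf D.odd hp)
  refine orderOf_eq_one_iff.1 (Nat.Coprime.eq_one_of_dvd ?_ hdvd)
  rw [show (972 : ℕ) = 2 ^ 2 * 3 ^ 5 by norm_num]
  exact (h2.pow_right 2).mul_right (hc3.pow_right 5)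

/-- The Sylow 2-subgroup of the centraliser of `144` in the frame. -/
def qsub (F : Frame z) : Subgroup G where
  carrier := {x | ∃ a ∈ qEight, F.f a = x}
  one_mem' := ⟨0, by decide, F.f0⟩
  mul_mem' := by
    rintro _ _ ⟨a, ha, rfl⟩ ⟨b, hb, rfl⟩
    exact ⟨_, qEight_facts.2.1 a ha b hb, F.mul a b (qEight_facts.1 a ha).1 (qEight_facts.1 b hb).1⟩
  inv_mem' := by
    rintro _ ⟨a, ha, rfl⟩
    refine ⟨iH a, (show ∀ a ∈ qEight, iH a ∈ qEight by decide +kernel) a ha, F.f_iH (qEight_facts.1 a ha).1⟩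

theorem card_qsub (F : Frame z) : Nat.card (qsub F) = 8 := by
  classical
  have hset : ((qsub F : Subgroup G) : Set G) = ↑(qEight.toFinset.image F.f) := by
    ext x; simp [qsub]
  rw [show Nat.card (qsub F) = ((qsub F : Subgroup G) : Set G).ncard from Nat.card_coe_set_eq _, hset,
    Set.ncard_coe_finset, Finset.card_image_of_injOn, List.toFinset_card_of_nodup qEight_facts.2.2.2.2.2.2.2.2.2,
    qEight_facts.2.2.1]
  intro a ha b hb e
  simp only [List.coe_toFinset, Set.mem_ofPred_eq] at ha hb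
  exact F.inj a b (qEight_facts.1 a ha).1 (qEight_facts.1 b hb).1 e

include D in
theorem eight_dvd (S : Set G) (hS : S ⊆ D.jset) (hinv : ∀ q ∈ qsub F, ∀ w ∈ S, q * w * q⁻¹ ∈ S) :
    8 ∣ (S \ {1}).ncard := by
  have h := index_dvd_ncard (Q := qsub F) (S \ {1}) 1 ?_ ?_
  · rwa [card_qsub, one_mul] at h
  · rintro q hq w ⟨hw, hw1⟩
    exact ⟨hinv q hq w hw, fun e => hw1 (conj_eq_one_iff.1 e)⟩
  · rintro w ⟨hw, hw1⟩
    rw [Subgroup.card_eq_one, Subgroup.eq_bot_iff_forall]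
    intro q hq
    obtain ⟨hqQ, hqw⟩ := mem_inf.1 hq
    obtain ⟨a, ha, rfl⟩ := hqQ
    by_contra hne
    obtain ⟨ha', -, h0 | h12 | hsq⟩ := qEight_facts.1 a ha
    · exact hne (by rw [h0, F.f0])
    all_goals
      have hzw : Commute z w := by
        first
        | (rw [h12, F.fz] at hqw; exact mem_centralizer_singleton_iff.1 hqw)
        | (have h' : F.f a * F.f a = z := by
            rw [← F.mul _ _ ha' ha', show mulH a a = 12 from hsq]; exact F.fz
           rw [← h']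
           exact (show Commute (F.f a) w from mem_centralizer_singleton_iff.1 hqw).mul_left
            (mem_centralizer_singleton_iff.1 hqw))
      have h2 := (hS hw).2
      rw [conj_eq_iff_commute.2 hzw] at h2
      exact hw1 (RankOne.sq_inj (RankOne.odd_orderOf D.odd (hS hw).1) (by simp)
        (by rw [mul_eq_one_iff_eq_inv.2 h2, one_mul]))

theorem qsub_le (F : Frame z) : qsub F ≤ F.k1 ⊓ centralizer ({z} : Set G) := by
  rintro _ ⟨a, ha, rfl⟩
  obtain ⟨ha', hac, -⟩ := qEight_facts.1 a ha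
  exact mem_inf.2 ⟨F.code_mem_k1 ha' hac, mem_centralizer_singleton_iff.2 (F.comm a ha')⟩

include D in
theorem jset_conj {g w : G} (hg : g ∈ F.k1) (hz : Commute g z) (hw : w ∈ D.jset) : g * w * g⁻¹ ∈ D.jset := by
  refine ⟨D.normal g hg w hw.1, ?_⟩
  rw [show z * (g * w * g⁻¹) * z⁻¹ = (z * g) * w * (z * g)⁻¹ by group, ← hz.eq,
    show g * z * w * (g * z)⁻¹ = g * (z * w * z⁻¹) * g⁻¹ by group, hw.2, conj_inv]

include D in
theorem jset_one : (1 : G) ∈ D.jset := ⟨one_mem _, by simp⟩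

include D in
/-- The order of the odd normal subgroup. -/
theorem card_O (S : Setting z₀) : Nat.card D.O = 243 := by
  classical
  haveI : Fact (Nat.Prime 3) := ⟨Nat.prime_three⟩
  obtain ⟨C⟩ := S.exists_cycle F
  obtain ⟨r, hr⟩ := IsPGroup.iff_card.1 (D.isPGroup S)
  -- the lower bound
  set u := F.f 144 with hu
  set i := F.f 1 with hi
  have hik : i ∈ F.k1 := F.code_mem_k1 (by norm_num) qEight_facts.2.2.2.2.2.1
  have hiz : Commute i z := F.comm 1 (by norm_num)
  have h6 : ∀ e, e ∈ F.esub → Commute e (F.f 6) := fun e he => F.cp_comm_psub (F.mem_esub.1 he).1 ⟨6, by decide, rfl⟩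
  have h5 : ∀ e, e ∈ F.esub → Commute (i * e * i⁻¹) (F.f 5) := fun e he => by
    rw [show F.f 5 = i * F.f 6 * i⁻¹ by
      rw [hi, ← F.f_cjH (by norm_num) (by norm_num), qEight_facts.2.2.2.2.2.2.1]]
    show _ = _
    rw [conj_mul, conj_mul, (h6 e he).eq]
  have hu6 : Commute u (F.f 6) := (F.commute_iff (by norm_num) (by norm_num)).2 (by decide +kernel)
  have hu5 : Commute u (F.f 5) := (F.commute_iff (by norm_num) (by norm_num)).2 qEight_facts.2.2.2.2.1.symm
  have honly : ∀ d, d ∈ D.jset → Commute d (F.f 6) → Commute d (F.f 5) → d = 1 := by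
    intro d hd c6 c5
    have hdz : Commute d z := by
      have hz : F.f (mulH 6 5) * F.f (mulH 6 5) * F.f (mulH 6 5) = z := by
        rw [← F.mul _ _ (mulH_lt _ _) (mulH_lt _ _), ← F.mul _ _ (mulH_lt _ _) (mulH_lt _ _),
          qEight_facts.2.2.2.2.2.2.2.2.1, F.fz]
      have c65 : Commute d (F.f (mulH 6 5)) := by
        rw [F.mul _ _ (by norm_num) (by norm_num)]; exact c6.mul_right c5
      rw [← hz]; exact (c65.mul_right c65).mul_right c65
    have h := hd.2
    rw [conj_eq_iff_commute.2 hdz.symm] at h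
    exact RankOne.sq_inj (RankOne.odd_orderOf D.odd hd.1) (by simp) (by rw [mul_eq_one_iff_eq_inv.2 h, one_mul])
  have hlow : 243 ≤ Nat.card D.O := by
    set W := C.einv S with hW
    let φ : Fin 3 × W × W → D.O := fun p =>
      ⟨u ^ (p.1 : ℕ) * ((p.2.1 : G) * (i * (p.2.2 : G) * i⁻¹)),
        mul_mem (pow_mem D.u_mem _) (mul_mem (D.einv_sub S C p.2.1.2.1 p.2.1.2.2).1
          (D.normal i hik _ (D.einv_sub S C p.2.2.2.1 p.2.2.2.2).1))⟩
    have hφ : Function.Injective φ := by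
      rintro ⟨k, ⟨e, he⟩, ⟨f, hf⟩⟩ ⟨k', ⟨e', he'⟩, ⟨f', hf'⟩⟩ h
      have h0 : u ^ (k : ℕ) * (e * (i * f * i⁻¹)) = u ^ (k' : ℕ) * (e' * (i * f' * i⁻¹)) :=
        congrArg (fun x : D.O => (x : G)) h
      have hde : e'⁻¹ * e ∈ W := mul_mem (Subgroup.inv_mem _ he') he
      have hd : e'⁻¹ * e = (u ^ (k : ℕ))⁻¹ * u ^ (k' : ℕ) * (i * f' * i⁻¹ * (i * f * i⁻¹)⁻¹) := by
        have hc : Commute e' (u ^ (k' : ℕ)) :=
          (F.cp_comm_psub (F.mem_esub.1 he'.1).1 ⟨144, by decide, rfl⟩).pow_right _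
        have hce : Commute e'⁻¹ (u ^ (k : ℕ))⁻¹ :=
          ((F.cp_comm_psub (F.mem_esub.1 he'.1).1 ⟨144, by decide, rfl⟩).pow_right _).inv_inv
        calc e'⁻¹ * e = e'⁻¹ * (u ^ (k : ℕ))⁻¹ * (u ^ (k : ℕ) * (e * (i * f * i⁻¹))) * (i * f * i⁻¹)⁻¹ := by group
          _ = (u ^ (k : ℕ))⁻¹ * (e'⁻¹ * u ^ (k' : ℕ)) * e' * (i * f' * i⁻¹ * (i * f * i⁻¹)⁻¹) := by
              rw [h0, hce.eq]; group
          _ = _ := by rw [hc.inv_left.eq]; group
      have hd1 : e'⁻¹ * e = 1 := by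
        refine honly _ (D.einv_sub S C hde.1 hde.2) ((h6 _ (hde.1))) ?_
        rw [hd]
        exact (((hu5.pow_left _).inv_left).mul_left (hu5.pow_left _)).mul_left
          ((h5 f' hf'.1).mul_left (h5 f hf.1).inv_left)
      have hee : e = e' := (inv_mul_eq_one.1 hd1).symm
      subst hee
      rw [inv_mul_cancel] at hd
      have hdf : f' * f⁻¹ ∈ W := mul_mem hf' (Subgroup.inv_mem _ hf)
      have hpow : i * (f' * f⁻¹) * i⁻¹ = (u ^ (k' : ℕ))⁻¹ * u ^ (k : ℕ) := by
        calc i * (f' * f⁻¹) * i⁻¹ = (u ^ (k' : ℕ))⁻¹ * u ^ (k : ℕ) *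
              ((u ^ (k : ℕ))⁻¹ * u ^ (k' : ℕ) * (i * f' * i⁻¹ * (i * f * i⁻¹)⁻¹)) := by group
          _ = _ := by rw [← hd, mul_one]
      have hj := D.jset_conj hik hiz (D.einv_sub S C hdf.1 hdf.2)
      rw [hpow] at hj
      have hh := hj.2
      rw [conj_eq_iff_commute.2 (((F.comm 144 (by norm_num)).symm.pow_right _).inv_right.mul_right
        ((F.comm 144 (by norm_num)).symm.pow_right _))] at hh
      have h1 : (u ^ (k' : ℕ))⁻¹ * u ^ (k : ℕ) = 1 :=
        RankOne.sq_inj (RankOne.odd_orderOf D.odd hj.1) (by simp) (by rw [mul_eq_one_iff_eq_inv.2 hh, one_mul])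
      rw [h1, conj_eq_one_iff] at hpow
      have hk : k' = k := Cycle.fin_three_pow F.u1_cube F.u1_ne (inv_mul_eq_one.1 h1)
      subst hk
      have hff : f' = f := mul_inv_eq_one.1 hpow
      subst hff
      rfl
    have := Nat.card_le_card_of_injective φ hφ
    rw [Nat.card_prod, Nat.card_prod, Nat.card_eq_fintype_card, C.card_einv S] at this
    simpa using this
  -- the upper bound
  have hxt := D.einv_sub S C (C.xt_mem_esub S) C.xt_rel.2.1
  have hup := D.dsplit.card_le_cent hxt.1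
  have hdvd : Nat.card ↥(D.O ⊓ centralizer ({C.xt} : Set G)) ∣ 972 := by
    rw [← S.card_uty C.uty_xt]; exact card_dvd_of_le inf_le_right
  obtain ⟨s, hs⟩ := IsPGroup.iff_card.1 ((D.isPGroup S).to_le (inf_le_left :
    D.O ⊓ centralizer ({C.xt} : Set G) ≤ D.O))
  rw [hs] at hdvd hup
  have hs5 : s ≤ 5 := by
    by_contra h
    exact absurd (dvd_trans (pow_dvd_pow 3 (show 6 ≤ s by omega)) hdvd) (by norm_num)
  have h243 : 3 ^ s ≤ 243 := le_trans (Nat.pow_le_pow_right (by norm_num) hs5) (by norm_num)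
  rw [hr] at hup hlow ⊢
  have hr5 : 5 ≤ r := by
    by_contra h
    have := Nat.pow_le_pow_right (show 0 < 3 by norm_num) (show r ≤ 4 by omega)
    omega
  have hr6 : r ≤ 6 := by
    by_contra h
    have := Nat.pow_le_pow_right (show 0 < 3 by norm_num) (show 7 ≤ r by omega)
    omega
  interval_cases r
  · norm_num
  · exfalso
    have h8 := D.eight_dvd D.jset subset_rfl fun q hq w hw => by
      obtain ⟨h1, h2⟩ := mem_inf.1 (qsub_le F hq)
      exact D.jset_conj h1 (mem_centralizer_singleton_iff.1 h2) hw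
    rw [Set.ncard_sdiff_singleton_of_mem D.jset_one] at h8
    have := D.card_O_eq
    rw [hr] at this
    omega

include D in
theorem card_jset (S : Setting z₀) : D.jset.ncard = 81 := by
  have := D.card_O_eq
  rw [D.card_O S] at this
  omega

include D in
/-- The order of the centraliser of `144`. -/
theorem card_k1 (S : Setting z₀) : Nat.card F.k1 = 5832 := by
  have h := card_mul_ncard_conj F.z_mem_k1 (involSet F.k1) fun y => ⟨fun hy => F.k1_conj hy, by
    rintro ⟨x, hx, rfl⟩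
    exact ⟨mul_mem (mul_mem hx F.z_mem_k1) (Subgroup.inv_mem _ hx),
      by rw [conj_mul, F.centre_sq, mul_one, mul_inv_cancel], fun e => F.centre_ne (conj_eq_one_iff.1 e)⟩⟩
  have hev : evenSet F.k1 z = ∅ :=
    Set.eq_empty_of_forall_notMem fun y hy => Nat.not_even_iff_odd.2 (F.k1_even hy.1) hy.2
  have hc : Nat.card ↥(F.k1 ⊓ centralizer ({z} : Set G)) = 72 := by
    rw [show Nat.card ↥(F.k1 ⊓ centralizer ({z} : Set G)) =
      ((F.k1 ⊓ centralizer ({z} : Set G) : Subgroup G) : Set G).ncard from Nat.card_coe_set_eq _,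
      F.ncard_codes (fun g => mulH g 144 == mulH 144 g) _ (fun x hx => mem_centralizer_singleton_iff.1 hx.2) ?_,
      qEight_facts.2.2.2.1]
    intro g hg
    rw [beq_iff_eq, ← F.commute_iff hg (by norm_num), ← F.mem_k1]
    exact ⟨fun h => h.1, fun h => ⟨h, mem_centralizer_singleton_iff.2 (F.comm g hg)⟩⟩
  rw [h, hc, ncard_involSet F.z_mem_k1 F.centre_sq F.centre_ne, hev, Set.ncard_empty, ← D.jset_eq, D.card_jset S]

include D in
/-- The centre of the odd normal subgroup. -/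
theorem centre_O (S : Setting z₀) {c : G} (hc : c ∈ D.O) (hcc : ∀ x ∈ D.O, Commute c x) :
    c ∈ zpowers (F.f 144) := by
  classical
  by_contra hne
  obtain ⟨C⟩ := S.exists_cycle F
  set ZJ := {w | w ∈ D.jset ∧ ∀ x ∈ D.O, Commute w x} with hZJ
  obtain ⟨i, w, hw, hwi, e⟩ := D.dsplit.split c hc
  have hw1 : w ≠ 1 := by
    rintro rfl
    exact hne ⟨i, by simp [e]⟩
  have hwZ : w ∈ ZJ := by
    refine ⟨⟨hw, hwi⟩, fun x hx => ?_⟩
    have h := ((D.dsplit.cent x hx).symm.zpow_left (-i)).mul_left (hcc x hx)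
    rwa [e, ← mul_assoc, ← zpow_add, neg_add_cancel, zpow_zero, one_mul] at h
  have hstab : ∀ g ∈ F.k1, Commute g z → ∀ v ∈ ZJ, g * v * g⁻¹ ∈ ZJ := by
    intro g hg hz v ⟨hv, hvc⟩
    refine ⟨D.jset_conj hg hz hv, fun x hx => ?_⟩
    have h := (hvc _ (D.normal g⁻¹ (Subgroup.inv_mem _ hg) x hx)).map (MulAut.conj g).toMonoidHom
    simpa [mul_assoc] using h
  have h1Z : (1 : G) ∈ ZJ := ⟨D.jset_one, fun x _ => Commute.one_left x⟩
  -- the centre as a subgroup
  let ZO : Subgroup G := D.O ⊓ centralizer (D.O : Set G)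
  have hZOmem : ∀ {x}, x ∈ ZO ↔ x ∈ D.O ∧ ∀ y ∈ D.O, Commute x y := fun {x} =>
    mem_inf.trans (and_congr_right fun _ =>
      ⟨fun h y hy => (mem_centralizer_iff.1 h y hy).symm, fun h => mem_centralizer_iff.2 fun y hy => (h y hy).symm⟩)
  have hZOc : Nat.card ZO = 3 * ZJ.ncard := by
    have hle : ZO ≤ D.O := inf_le_left
    have hnorm : ∀ x ∈ ZO, z * x * z⁻¹ ∈ ZO := by
      intro x hx
      obtain ⟨h1, h2⟩ := hZOmem.1 hx
      refine hZOmem.2 ⟨D.normal z F.z_mem_k1 x h1, fun y hy => ?_⟩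
      have h := (h2 _ (D.normal z⁻¹ (Subgroup.inv_mem _ F.z_mem_k1) y hy)).map (MulAut.conj z).toMonoidHom
      simpa [mul_assoc] using h
    rw [RankOne.card_decomp F.centre_sq ZO (D.odd.of_dvd_nat (card_dvd_of_le hle)) hnorm, Nat.card_coe_set_eq]
    congr 1
    · have : ZO ⊓ centralizer ({z} : Set G) = zpowers (F.f 144) := by
        refine le_antisymm (fun x hx => D.fixed x (hle hx.1) (RankOne.mem_centralizer_iff_conj.1 hx.2))
          (zpowers_le.2 (mem_inf.2 ⟨hZOmem.2 ⟨D.u_mem, fun y hy => (D.dsplit.cent y hy).symm⟩,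
            mem_centralizer_singleton_iff.2 (F.comm 144 (by norm_num))⟩))
      rw [this, Nat.card_zpowers, orderOf_cube F.u1_cube F.u1_ne]
    · congr 1
      ext x
      exact ⟨fun h => ⟨⟨hle h.1, h.2⟩, (hZOmem.1 h.1).2⟩, fun h => ⟨hZOmem.2 ⟨h.1.1, h.2⟩, h.1.2⟩⟩
  obtain ⟨s, -, hs⟩ : ∃ s, s ≤ 5 ∧ Nat.card ZO = 3 ^ s :=
    (Nat.dvd_prime_pow Nat.prime_three).1 (by
      have := card_dvd_of_le (inf_le_left : ZO ≤ D.O)
      rw [D.card_O S] at this
      exact (show _ ∣ 3 ^ 5 from this))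
  have h2 : 2 ≤ ZJ.ncard := by
    have : ({1, w} : Set G) ⊆ ZJ := Set.insert_subset_iff.2 ⟨h1Z, Set.singleton_subset_iff.2 hwZ⟩
    have h := Set.ncard_le_ncard this (Set.toFinite _)
    rwa [Set.ncard_pair (Ne.symm hw1)] at h
  have h8 : 8 ∣ (ZJ \ {1}).ncard := D.eight_dvd ZJ (fun v hv => hv.1) fun q hq v hv => by
    obtain ⟨a, b⟩ := mem_inf.1 (qsub_le F hq)
    exact hstab q a (mem_centralizer_singleton_iff.1 b) v hv
  rw [Set.ncard_sdiff_singleton_of_mem h1Z] at h8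
  -- a point fixed by the code `6`
  have h6k : F.f 6 ∈ F.k1 := F.code_mem_k1 (by norm_num) (by decide +kernel)
  obtain ⟨e₁, he₁, he₁1, he₁6⟩ : ∃ e₁ ∈ ZJ, e₁ ≠ 1 ∧ Commute e₁ (F.f 6) := by
    by_contra hno
    push Not at hno
    have h6o : orderOf (F.f 6) = 3 := orderOf_cube (F.cube_of_code (by norm_num) (by decide +kernel))
      (fun h => absurd ((F.eq_one_iff (by norm_num)).1 h) (by norm_num))
    have hd := index_dvd_ncard (Q := zpowers (F.f 6)) (ZJ \ {1}) 1 ?_ ?_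
    · rw [Nat.card_zpowers, h6o, one_mul, Set.ncard_sdiff_singleton_of_mem h1Z] at hd
      have h3 : 3 ∣ ZJ.ncard := by
        have hs2 : 2 ≤ s := by
          by_contra hlt
          have := Nat.pow_le_pow_right (show 0 < 3 by norm_num) (show s ≤ 1 by omega)
          omega
        have h9 : 3 ^ 2 ∣ 3 ^ s := pow_dvd_pow 3 hs2
        rw [← hs, hZOc] at h9
        omega
      omega
    · rintro q hq v ⟨hv, hv1⟩
      exact ⟨hstab q ((zpowers_le.2 h6k) hq) (by
        obtain ⟨j, rfl⟩ := hq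
        exact (F.comm 6 (by norm_num)).zpow_left j) v hv, fun e' => hv1 (conj_eq_one_iff.1 e')⟩
    · rintro v ⟨hv, hv1⟩
      rw [Subgroup.card_eq_one, Subgroup.eq_bot_iff_forall]
      intro q hq
      obtain ⟨hq6, hqv⟩ := mem_inf.1 hq
      by_contra hq1
      obtain ⟨j, hj⟩ := mem_powers_iff_mem_zpowers.2 hq6
      dsimp only at hj
      refine hno v hv hv1 ?_
      have hqv' : Commute v q := (show Commute q v from mem_centralizer_singleton_iff.1 hqv).symm
      rw [← hj, Cycle.pow_mod_three (F.cube_of_code (by norm_num) (by decide +kernel))] at hqv' hq1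
      have hlt := Nat.mod_lt j (show 0 < 3 by norm_num)
      interval_cases hjm : j % 3
      · exact absurd (pow_zero _) hq1
      · rwa [pow_one] at hqv'
      · have h' := hqv'.mul_right hqv'
        rw [← pow_add, show F.f 6 ^ (2 + 2) = F.f 6 by
          rw [show 2 + 2 = 4 from rfl, Cycle.pow_mod_three (F.cube_of_code (by norm_num) (by decide +kernel)),
            pow_one]] at h'
        exact h'
  -- it is an element commuting with a four group
  have he₁E : e₁ ∈ F.esub := F.mem_esub.2 ⟨F.mem_cp.2 ⟨D.dsplit.cent e₁ he₁.1.1, he₁6⟩,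
    RankOne.odd_orderOf D.odd he₁.1.1⟩
  obtain ⟨h3, h1, a, b, a2, a1, b2, b1, hab, cab, cax, cbx⟩ := C.inverted_uty S he₁E he₁.1.2 he₁1
  obtain ⟨F₁⟩ := S.exists_frame a2 a1
  obtain ⟨F₂, -, h150⟩ := F₁.normalise b2 b1 (fun e' => hab e'.symm) cab.symm h3 h1 cax.symm cbx.symm
  obtain ⟨C₂⟩ := S.exists_cycle F₂
  have hOcu : D.O ≤ F₂.cu := fun x hx => F₂.mem_cu.2 (by
    rcases h150 with e' | e' <;> rw [e']
    · exact (he₁.2 x hx).symm
    · exact (he₁.2 x hx).symm.inv_right)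
  have h9 := C₂.centre_le_nine S hOcu (D.card_O S)
  rw [show {c | c ∈ D.O ∧ ∀ x ∈ D.O, Commute c x} = (ZO : Set G) from Set.ext fun x => hZOmem.symm,
    show (ZO : Set G).ncard = Nat.card ZO from (Nat.card_coe_set_eq _).symm, hZOc] at h9
  omega

end Frame.OData

end Cfsg.Agent.U43T
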