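import Mathlib.Algebra.BigOperators.Ring.Finset
import Mathlib.Algebra.BigOperators.Associated
import Mathlib.Data.Nat.GCD.BigOperators
import Mathlib.Algebra.Order.BigOperators.Group.Finset
import Mathlib.Tactic.Linarith
import Mathlib.Tactic.IntervalCases
import Mathlib.Tactic.NormNum

/-!
The Diophantine condition forcing the order of the group.
-/

set_option autoImplicit false

namespace Cfsg.Agent.U43T

/-- The finitely many candidates for two classes. -/
theorem two_small : ∀ a ∈ [5, 7, 11, 13, 17, 19, 23, 25, 29, 31], ∀ b ∈ [5, 7, 11, 13, 17, 19, 23, 25, 29, 31],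
    ∀ ma : Fin 16, ∀ mb : Fin 16, a < b → (a - 1) % (ma : ℕ) = 0 → ((a - 1) / (ma : ℕ)) % 2 = 0 →
      (b - 1) % (mb : ℕ) = 0 → ((b - 1) / (mb : ℕ)) % 2 = 0 → ((ma : ℕ) + mb) % 9 = 1 → (ma : ℕ) ≠ 0 →
      (mb : ℕ) ≠ 0 → (35 + 128 * (((ma : ℕ) + mb) / 9)) % (a * b) ≠ 0 := by
  decide +kernel

theorem one_class_num {i t W m r : ℕ} (hi : 1 ≤ i) (hm : m = 9 * i + 1) (hW : 2 ∣ W) (ht : W * m + 1 = t)
    (hr : r * t = 35 + 128 * i) (ht2 : 2 ≤ t) : False := by
  obtain ⟨w, rfl⟩ := hW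
  subst ht hm
  have hw : 1 ≤ w := by
    rcases Nat.eq_zero_or_pos w with rfl | h
    · simp at ht2
    · exact h
  have hr1 : 1 ≤ r := by
    rcases Nat.eq_zero_or_pos r with rfl | h
    · rw [Nat.zero_mul] at hr; omega
    · exact h
  have hb : r * w ≤ 8 := by
    by_contra h
    have h9 : 9 ≤ r * w := by omega
    nlinarith [Nat.mul_le_mul_right i h9]
  have hw8 : w ≤ 8 := le_trans (Nat.le_mul_of_pos_left w hr1) hb
  have hr8 : r ≤ 8 := le_trans (Nat.le_mul_of_pos_right r hw) hb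
  interval_cases r <;> interval_cases w <;> omega

theorem candidate_mem {a : ℕ} (h5 : 5 ≤ a) (h31 : a ≤ 31) (h2 : a % 2 = 1) (h3 : a % 3 ≠ 0) :
    a ∈ [5, 7, 11, 13, 17, 19, 23, 25, 29, 31] := by
  interval_cases a <;> simp_all

theorem two_class_num {i a b Wa Wb ma mb : ℕ} (hab : a < b) (ha5 : 5 ≤ a)
    (ha2 : a % 2 = 1) (ha3 : a % 3 ≠ 0) (hb2 : b % 2 = 1) (hb3 : b % 3 ≠ 0)
    (hWa : 2 ∣ Wa) (hWb : 2 ∣ Wb) (hma : Wa * ma + 1 = a) (hmb : Wb * mb + 1 = b) (hm : ma + mb = 9 * i + 1)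
    (hdvd : a * b ∣ 35 + 128 * i) : False := by
  obtain ⟨wa, rfl⟩ := hWa
  obtain ⟨wb, rfl⟩ := hWb
  obtain ⟨r, hr⟩ := hdvd
  have hma1 : 1 ≤ ma := by
    rcases Nat.eq_zero_or_pos ma with rfl | h
    · simp at hma; omega
    · exact h
  have hwa1 : 1 ≤ wa := by
    rcases Nat.eq_zero_or_pos wa with rfl | h
    · simp at hma; omega
    · exact h
  have hmb1 : 1 ≤ mb := by
    rcases Nat.eq_zero_or_pos mb with rfl | h
    · simp at hmb; omega
    · exact h
  have hwb1 : 1 ≤ wb := by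
    rcases Nat.eq_zero_or_pos wb with rfl | h
    · simp at hmb; omega
    · exact h
  have hr1 : 1 ≤ r := by
    rcases Nat.eq_zero_or_pos r with rfl | h
    · simp at hr
    · exact h
  have h2a : 2 * ma + 1 ≤ a := by nlinarith
  have h2b : 2 * mb + 1 ≤ b := by nlinarith
  have heq : 9 * (a * b * r) = 187 + 128 * (ma + mb) := by omega
  have hb31 : b ≤ 31 := by
    by_contra hb
    rcases Nat.lt_or_ge a 11 with ha | ha
    · rcases Nat.lt_or_ge wb 2 with hwb | hwb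
      · obtain rfl : wb = 1 := by omega
        rcases Nat.lt_or_ge r 2 with hr2 | hr2
        · obtain rfl : r = 1 := by omega
          interval_cases a <;> omega
        · have h1 : 9 * (a * b * 2) ≤ 9 * (a * b * r) := Nat.mul_le_mul_left _ (Nat.mul_le_mul_left _ hr2)
          interval_cases a <;> omega
      · have h4 : 4 * mb + 1 ≤ b := by nlinarith
        have h1 : 9 * (a * b * 1) ≤ 9 * (a * b * r) := Nat.mul_le_mul_left _ (Nat.mul_le_mul_left _ hr1)
        interval_cases a <;> omega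
    · have h1 : a * b * 1 ≤ a * b * r := Nat.mul_le_mul_left _ hr1
      nlinarith
  have hma15 : ma < 16 := by omega
  have hmb15 : mb < 16 := by omega
  refine two_small a (candidate_mem ha5 (by omega) ha2 ha3) b (candidate_mem (by omega) hb31 hb2 hb3) ⟨ma, hma15⟩
    ⟨mb, hmb15⟩ hab ?_ ?_ ?_ ?_ (by simp only; omega) (by simp only; omega) (by simp only; omega) ?_
  · simp only; rw [← hma, Nat.add_sub_cancel]; exact Nat.mul_mod_left _ _
  · simp only; rw [← hma, Nat.add_sub_cancel, Nat.mul_div_cancel _ hma1, Nat.mul_mod_right]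
  · simp only; rw [← hmb, Nat.add_sub_cancel]; exact Nat.mul_mod_left _ _
  · simp only; rw [← hmb, Nat.add_sub_cancel, Nat.mul_div_cancel _ hmb1, Nat.mul_mod_right]
  · simp only
    rw [hm, show (9 * i + 1) / 9 = i by omega, hr]
    exact Nat.mul_mod_right _ _

theorem three_class_num {a b c : ℕ} (ha : 5 ≤ a) (hb : 7 ≤ b) (hc : 5 ≤ c) :
    187 + 64 * ((a - 1) + (b - 1) + (c - 1)) < 9 * (a * b * c) := by
  obtain ⟨x, rfl⟩ := Nat.exists_eq_add_of_le ha
  obtain ⟨y, rfl⟩ := Nat.exists_eq_add_of_le hb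
  obtain ⟨w, rfl⟩ := Nat.exists_eq_add_of_le hc
  rw [show 5 + x - 1 = 4 + x by omega, show 7 + y - 1 = 6 + y by omega, show 5 + w - 1 = 4 + w by omega]
  nlinarith [Nat.zero_le (x * y * w), Nat.zero_le (x * y), Nat.zero_le (x * w), Nat.zero_le (y * w)]

theorem coprime_six {t : ℕ} (h : Nat.Coprime t 6) : t % 2 = 1 ∧ t % 3 ≠ 0 := by
  refine ⟨?_, fun e => ?_⟩
  · by_contra e
    have := Nat.dvd_gcd (Nat.dvd_of_mod_eq_zero (show t % 2 = 0 by omega)) (show (2 : ℕ) ∣ 6 by norm_num)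
    rw [h.gcd_eq_one] at this
    exact absurd this (by norm_num)
  · have := Nat.dvd_gcd (Nat.dvd_of_mod_eq_zero e) (show (3 : ℕ) ∣ 6 by norm_num)
    rw [h.gcd_eq_one] at this
    exact absurd this (by norm_num)

theorem five_le {t : ℕ} (h2 : 2 ≤ t) (h : Nat.Coprime t 6) : 5 ≤ t := by
  obtain ⟨h1, h3⟩ := coprime_six h
  omega

theorem prod_dvd_sum_le' {ι : Type*} [DecidableEq ι] (s : Finset ι) (f : ι → ℕ) (r : ℕ) (h1 : ∀ i ∈ s, 1 ≤ f i)
    (h : ∀ i ∈ s, f i ∣ r) (hc : ∀ i ∈ s, ∀ j ∈ s, i ≠ j → Nat.Coprime (f i) (f j)) :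
    (∏ i ∈ s, f i) ∣ r ∧ ∑ i ∈ s, (f i - 1) + 1 ≤ ∏ i ∈ s, f i := by
  induction s using Finset.induction with
  | empty => simp
  | insert a s ha ih =>
    obtain ⟨d, hd⟩ := ih (fun i hi => h1 i (Finset.mem_insert_of_mem hi)) (fun i hi => h i (Finset.mem_insert_of_mem hi))
      (fun i hi j hj => hc i (Finset.mem_insert_of_mem hi) j (Finset.mem_insert_of_mem hj))
    rw [Finset.prod_insert ha, Finset.sum_insert ha]
    refine ⟨Nat.Coprime.mul_dvd_of_dvd_of_dvd ?_ (h a (Finset.mem_insert_self a s)) d, ?_⟩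
    · exact Nat.Coprime.prod_right fun j hj => hc a (Finset.mem_insert_self a s) j (Finset.mem_insert_of_mem hj)
        (fun e => ha (e ▸ hj))
    · have ha1 := h1 a (Finset.mem_insert_self a s)
      have h2 : 1 ≤ ∏ i ∈ s, f i := le_trans (Nat.le_add_left 1 _) hd
      obtain ⟨p, hp⟩ := Nat.exists_eq_add_of_le h2
      obtain ⟨q, hq⟩ := Nat.exists_eq_add_of_le ha1
      rw [hq, hp, Nat.add_sub_cancel_left]
      rw [hp] at hd
      nlinarith

/-- The number of involutions is 2835. -/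
theorem count_eq {ι : Type*} [DecidableEq ι] (R : Finset ι) (t W o : ι → ℕ) {n : ℕ}
    (hn : n = 1683 + ∑ b ∈ R, o b * (t b - 1)) (ho : ∀ b ∈ R, o b * W b = 1152) (hW : ∀ b ∈ R, 2 ∣ W b)
    (hdvd : ∀ b ∈ R, W b ∣ t b - 1) (ht : ∀ b ∈ R, t b ∣ n) (ht2 : ∀ b ∈ R, 2 ≤ t b)
    (ht6 : ∀ b ∈ R, Nat.Coprime (t b) 6) (hc : ∀ a ∈ R, ∀ b ∈ R, a ≠ b → Nat.Coprime (t a) (t b))
    (h81 : 81 ∣ n) : n = 2835 := by
  set m : ι → ℕ := fun b => (t b - 1) / W b with hm
  have hWm : ∀ b ∈ R, W b * m b + 1 = t b := fun b hb => by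
    rw [hm, Nat.mul_div_cancel' (hdvd b hb)]
    have := ht2 b hb
    omega
  have hsum : ∑ b ∈ R, o b * (t b - 1) = 1152 * ∑ b ∈ R, m b := by
    rw [Finset.mul_sum]
    refine Finset.sum_congr rfl fun b hb => ?_
    rw [← ho b hb, mul_assoc, hm, Nat.mul_div_cancel' (hdvd b hb)]
  obtain ⟨i, hi⟩ : ∃ i, ∑ b ∈ R, m b = 9 * i + 1 := by
    obtain ⟨q, hq⟩ := h81
    exact ⟨(∑ b ∈ R, m b) / 9, by omega⟩
  have hn' : n = 81 * (35 + 128 * i) := by omega
  rcases Nat.eq_zero_or_pos i with rfl | hi1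
  · omega
  exfalso
  have htS : ∀ b ∈ R, t b ∣ 35 + 128 * i := fun b hb => by
    have h := ht b hb
    rw [hn'] at h
    refine Nat.Coprime.dvd_of_dvd_mul_left ?_ h
    exact (Nat.Coprime.coprime_dvd_right (show 3 ∣ 6 by norm_num) (ht6 b hb)).pow_right 4
  have hW2 : ∀ b ∈ R, 2 * m b + 1 ≤ t b := fun b hb => by
    have h := hWm b hb
    have h2 : 2 * m b ≤ W b * m b := by
      refine Nat.mul_le_mul_right _ (Nat.le_of_dvd (Nat.pos_of_ne_zero fun e => ?_) (hW b hb))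
      have := ho b hb
      rw [e, mul_zero] at this
      omega
    omega
  obtain ⟨a, ha⟩ : R.Nonempty := Finset.nonempty_iff_ne_empty.2 fun e => by rw [e, Finset.sum_empty] at hi; omega
  rcases (R.erase a).eq_empty_or_nonempty with he | ⟨b, hb⟩
  · rw [← Finset.add_sum_erase _ _ ha, he, Finset.sum_empty, add_zero] at hi
    obtain ⟨r, hr⟩ := htS a ha
    exact one_class_num hi1 hi (hW a ha) (hWm a ha) (by rw [hr, mul_comm]) (ht2 a ha)
  have hbR := Finset.mem_of_mem_erase hb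
  have hne : a ≠ b := (Finset.ne_of_mem_erase hb).symm
  have hta : t a ≠ t b := fun e => by
    have h := hc a ha b hbR hne
    rw [e, Nat.coprime_self] at h
    have := ht2 b hbR
    omega
  -- order the two classes
  obtain ⟨a, b, ha, hb, hlt, hne⟩ : ∃ x y, x ∈ R ∧ y ∈ R.erase x ∧ t x < t y ∧ x ≠ y := by
    rcases lt_or_gt_of_ne hta with h | h
    · exact ⟨a, b, ha, hb, h, hne⟩
    · exact ⟨b, a, hbR, Finset.mem_erase.2 ⟨hne, ha⟩, h, hne.symm⟩
  have hbR := Finset.mem_of_mem_erase hb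
  rw [← Finset.add_sum_erase _ _ ha, ← Finset.add_sum_erase _ _ hb] at hi
  set R' := (R.erase a).erase b with hR'
  have hR'sub : ∀ x ∈ R', x ∈ R := fun x hx => Finset.mem_of_mem_erase (Finset.mem_of_mem_erase hx)
  obtain ⟨hp, hps⟩ := prod_dvd_sum_le' R' t (35 + 128 * i) (fun x hx => by have := ht2 x (hR'sub x hx); omega)
    (fun x hx => htS x (hR'sub x hx)) (fun x hx y hy => hc x (hR'sub x hx) y (hR'sub y hy))
  have hab : t a * t b ∣ 35 + 128 * i := (hc a ha b hbR hne).mul_dvd_of_dvd_of_dvd (htS a ha) (htS b hbR)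
  rcases R'.eq_empty_or_nonempty with he | ⟨c, hcR'⟩
  · rw [he, Finset.sum_empty, add_zero] at hi
    obtain ⟨a2, a3⟩ := coprime_six (ht6 a ha)
    obtain ⟨b2, b3⟩ := coprime_six (ht6 b hbR)
    exact two_class_num hlt (five_le (ht2 a ha) (ht6 a ha)) a2 a3 b2 b3 (hW a ha) (hW b hbR) (hWm a ha) (hWm b hbR) hi hab
  · set P := ∏ x ∈ R', t x with hP
    have hP5 : 5 ≤ P := le_trans (five_le (ht2 c (hR'sub c hcR')) (ht6 c (hR'sub c hcR')))
      (Finset.single_le_prod' (f := t) (fun x hx => by have := ht2 x (hR'sub x hx); omega) hcR')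
    have hsum' : 2 * ∑ x ∈ R', m x ≤ ∑ x ∈ R', (t x - 1) := by
      rw [Finset.mul_sum]
      refine Finset.sum_le_sum fun x hx => ?_
      have := hW2 x (hR'sub x hx)
      omega
    have hcop : Nat.Coprime (t a * t b) P := Nat.Coprime.mul_left
      (Nat.Coprime.prod_right fun x hx => hc a ha x (hR'sub x hx)
        (Finset.ne_of_mem_erase (Finset.mem_of_mem_erase hx)).symm)
      (Nat.Coprime.prod_right fun x hx => hc b hbR x (hR'sub x hx) (Finset.ne_of_mem_erase hx).symm)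
    have hle : t a * t b * P ≤ 35 + 128 * i := Nat.le_of_dvd (by omega) (hcop.mul_dvd_of_dvd_of_dvd hab hp)
    have hb7 : 7 ≤ t b := by
      have := five_le (ht2 a ha) (ht6 a ha)
      obtain ⟨b2, b3⟩ := coprime_six (ht6 b hbR)
      omega
    have h3 := three_class_num (five_le (ht2 a ha) (ht6 a ha)) hb7 hP5
    have := hW2 a ha
    have := hW2 b hbR
    omega

end Cfsg.Agent.U43T
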