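import Cfsg.Agent.Lib.U43T.ETwo
import Cfsg.Agent.Lib.U43T.Numerics

/-!
The order of the group.
-/

set_option autoImplicit false
set_option linter.unusedSectionVars false

namespace Cfsg.Agent.U43T

open Subgroup

variable {G : Type*} [Group G] [Finite G] {z z₀ : G}

namespace Frame

variable (F : Frame z)

theorem small_cube (F : Frame z) (S : Setting z₀) {w : G} (hw : w ∈ smallSet z) : w * w * w = 1 := by
  obtain ⟨hw1, h, hz, hh, h1⟩ := hw
  obtain ⟨a, ha, hwa⟩ := F.real_cases S hw1 hz hh h1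
  obtain ⟨F', hF', -, -, -⟩ := F.exists_shift ha
  obtain ⟨D⟩ := F'.exists_odata
  refine D.jset_cube S ?_
  rw [D.jset_eq]
  exact ⟨F'.mem_k1.2 (hF' ▸ hwa), hw1.1, hw1.2.1⟩

theorem regs_large (F : Frame z) (S : Setting z₀) {a : G} (ha : a ∈ regs (⊤ : Subgroup G) z) : a ∈ largeSet z := by
  obtain ⟨-, hai, ha1, hac⟩ := ha
  have hr : a ∈ realSet z :=
    ⟨Nat.coprime_two_right.1 (Nat.Coprime.coprime_dvd_right (by norm_num) hac), hai, ha1⟩
  rcases small_or_large hr with hs | hl
  · exact absurd (IsThree.eq_one (isThree_of_cube (F.small_cube S hs))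
      (Nat.Coprime.coprime_dvd_right (by norm_num) hac)) ha1
  · exact hl

theorem large_regs (F : Frame z) (S : Setting z₀) {w : G} (hw : w ∈ largeSet z) : w ∈ regs (⊤ : Subgroup G) z :=
  ⟨mem_top w, hw.1.2.1, hw.1.2.2, F.large_coprime S hw⟩

theorem global_tori (F : Frame z) (S : Setting z₀) : Tori (⊤ : Subgroup G) z where
  zz := F.centre_sq
  norm x _ := mem_top _
  free a ha x _ hxa hxz := (F.regs_large S ha).2 x (mul_inv_eq_iff_eq_mul.1 hxz).symm hxa

theorem three_trivial (F : Frame z) (S : Setting z₀) {a : G} (ha : a ∈ regs (⊤ : Subgroup G) z) :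
    threeSet (U43T.tor (⊤ : Subgroup G) a) = {1} := by
  ext x
  refine ⟨fun ⟨hx, h3⟩ => ?_, fun hx => ?_⟩
  · by_contra h1
    exact F.large_not_three S (F.large_closed S (F.regs_large S ha) (U43T.mem_tor.1 hx).2 h1) h3
  · rw [Set.mem_singleton_iff.1 hx]; exact ⟨one_mem _, isThree_one⟩

theorem rset_large (F : Frame z) (S : Setting z₀) : rset (⊤ : Subgroup G) z = largeSet z := by
  ext w
  constructor
  · rintro ⟨a, ha, hw, h3⟩
    exact F.large_closed S (F.regs_large S ha) (U43T.mem_tor.1 hw).2 fun e => h3 (e ▸ isThree_one)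
  · intro hw
    exact ⟨w, F.large_regs S hw, U43T.mem_tor.2 ⟨mem_top w, Commute.refl w⟩, F.large_not_three S hw⟩

theorem stab_dvd (F : Frame z) (S : Setting z₀) {b : G} (hb : b ∈ regs (⊤ : Subgroup G) z) :
    Nat.card (stabT (⊤ : Subgroup G) z b) ∣ Nat.card (U43T.tor (⊤ : Subgroup G) b) - 1 ∧
      2 ∣ Nat.card (stabT (⊤ : Subgroup G) z b) := by
  have HT := F.global_tori S
  refine ⟨?_, ?_⟩
  · have h := index_dvd_ncard (Q := stabT (⊤ : Subgroup G) z b) ((U43T.tor (⊤ : Subgroup G) b : Set G) \ {1}) 1 ?_ ?_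
    · rwa [one_mul, Set.ncard_sdiff_singleton_of_mem (one_mem _), ← Nat.card_coe_set_eq] at h
    · rintro q hq w ⟨hw, hw1⟩
      exact ⟨(mem_normalizer_iff.1 (mem_inf.1 hq).2 w).1 hw, fun e => hw1 (conj_eq_one_iff.1 e)⟩
    · rintro w ⟨hw, hw1⟩
      rw [Subgroup.card_eq_one, Subgroup.eq_bot_iff_forall]
      intro q hq
      obtain ⟨h1, h2⟩ := mem_inf.1 hq
      have hqz : Commute q z := mem_centralizer_singleton_iff.1 (mem_inf.1 (mem_inf.1 h1).1).2
      exact (F.large_closed S (F.regs_large S hb) (U43T.mem_tor.1 hw).2 hw1).2 q hqz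
        (mem_centralizer_singleton_iff.1 h2)
  · have hz : z ∈ stabT (⊤ : Subgroup G) z b := by
      refine mem_inf.2 ⟨mem_inf.2 ⟨mem_top z, mem_centralizer_singleton_iff.2 rfl⟩,
        mem_normalizer_iff.2 fun x => ⟨fun hx => HT.tor_norm hb hx, fun hx => ?_⟩⟩
      have h := HT.tor_norm hb hx
      rwa [show z * (z * x * z⁻¹) * z⁻¹ = x by
        calc z * (z * x * z⁻¹) * z⁻¹ = (z * z) * x * (z * z)⁻¹ := by group
          _ = x := by rw [F.centre_sq]; group] at h
    rw [← F.orderOf_centre, ← Subgroup.orderOf_mk z hz]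
    exact orderOf_dvd_natCard _

theorem ncard_realSet (F : Frame z) (S : Setting z₀) : (realSet z).ncard = 512 + (largeSet z).ncard := by
  rw [← F.ncard_small S, ← Set.ncard_union_eq (Set.disjoint_left.2 fun w => not_small_large) (Set.toFinite _)
    (Set.toFinite _)]
  congr 1
  ext w
  exact ⟨small_or_large, fun h => h.elim (fun h => h.1) (fun h => h.1)⟩

/-- The order of the group. -/
theorem card_group (F : Frame z) (S : Setting z₀) : Nat.card G = 3265920 := by
  classical
  set n := (involSet (⊤ : Subgroup G)).ncard with hn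
  have hcard : Nat.card G = 1152 * n := by
    have h := card_mul_ncard_conj (X := (⊤ : Subgroup G)) (mem_top z) (involSet (⊤ : Subgroup G)) fun y => ⟨?_, ?_⟩
    · rwa [top_inf_eq, card_top, F.card_centraliser] at h
    · rintro ⟨-, hy2, hy1⟩
      obtain ⟨g, hg⟩ := isConj_iff.1 ((S.one_class F.centre_sq F.centre_ne).symm.trans (S.one_class hy2 hy1))
      exact ⟨g, mem_top g, hg⟩
    · rintro ⟨x, -, rfl⟩
      exact ⟨mem_top _, by rw [conj_mul, F.centre_sq, mul_one, mul_inv_cancel],
        fun e => F.centre_ne (conj_eq_one_iff.1 e)⟩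
  -- the real elements
  have hinv : (invSet (⊤ : Subgroup G) z).ncard = 1 + (realSet z).ncard := by
    have e : invSet (⊤ : Subgroup G) z \ {1} = realSet z := by
      ext w
      simp [invSet, realSet, and_assoc]
    rw [← e, Set.ncard_sdiff_singleton_of_mem (one_mem_invSet _ z)]
    have := (Set.ncard_pos (Set.toFinite _)).2 ⟨1, one_mem_invSet (⊤ : Subgroup G) z⟩
    omega
  have HT := F.global_tori S
  obtain ⟨R, hR1, hR2, -, hR4⟩ := HT.exists_reps
  set t : G → ℕ := fun b => Nat.card (U43T.tor (⊤ : Subgroup G) b) with ht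
  set W : G → ℕ := fun b => Nat.card (stabT (⊤ : Subgroup G) z b) with hW
  set o : G → ℕ := fun b => (orbT (⊤ : Subgroup G) z b).ncard with ho
  have hn' : n = 1683 + ∑ b ∈ R, o b * (t b - 1) := by
    rw [hn, ncard_involSet (mem_top z) F.centre_sq F.centre_ne, hinv, F.ncard_realSet S, F.ncard_even S,
      ← F.rset_large S, hR4, Finset.sum_congr rfl fun b hb => by
        rw [F.three_trivial S (hR1 b hb), Set.ncard_singleton]]
    ring
  have hq : ∀ b ∈ R, (qsetT (U43T.tor (⊤ : Subgroup G) b)).ncard = t b := fun b hb => by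
    show _ = Nat.card (U43T.tor (⊤ : Subgroup G) b)
    rw [HT.card_tor (hR1 b hb), F.three_trivial S (hR1 b hb), Set.ncard_singleton, mul_one]
  have hn2835 : n = 2835 := by
    refine count_eq R t W o hn' ?_ (fun b hb => (F.stab_dvd S (hR1 b hb)).2) (fun b hb => (F.stab_dvd S (hR1 b hb)).1)
      ?_ ?_ ?_ ?_ ?_
    · intro b _
      show (orbT (⊤ : Subgroup G) z b).ncard * Nat.card (stabT (⊤ : Subgroup G) z b) = 1152
      rw [Tori.orb_mul_stab, top_inf_eq, F.card_centraliser]
    · intro b hb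
      obtain ⟨-, h2, h3, h4⟩ := HT.qset_dvd (hR1 b hb)
      rw [hq b hb, card_top, hcard] at h2
      rw [hq b hb] at h3 h4
      refine Nat.Coprime.dvd_of_dvd_mul_left ?_ h2
      rw [show (1152 : ℕ) = 2 ^ 7 * 3 ^ 2 by norm_num]
      exact ((Nat.coprime_two_right.2 h3).pow_right 7).mul_right (h4.pow_right 2)
    · intro b hb
      have := (HT.qset_dvd (hR1 b hb)).1
      rwa [hq b hb] at this
    · intro b hb
      obtain ⟨-, -, h3, h4⟩ := HT.qset_dvd (hR1 b hb)
      rw [hq b hb] at h3 h4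
      exact (Nat.coprime_two_right.2 h3).mul_right h4
    · intro a ha b hb hne
      rw [← hq a ha, ← hq b hb]
      exact hR2 a ha b hb hne
    · have h := F.seven_twenty_nine S
      rw [hcard] at h
      omega
  rw [hcard, hn2835]

end Frame

end Cfsg.Agent.U43T
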