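import Cfsg.Agent.Lib.RankOne.Coprime
import Mathlib.GroupTheory.GroupAction.Quotient
import Mathlib.GroupTheory.GroupAction.ConjAct

/-!
Elementary lemmas on involutions acting on groups of odd order and on counting involutions.
-/

set_option autoImplicit false
set_option linter.unusedSectionVars false

namespace Cfsg.Agent.U43T

open Subgroup

variable {G : Type*} [Group G] [Finite G]

/-- The elements of odd order of `X` inverted by `z`. -/
def invSet (X : Subgroup G) (z : G) : Set G := {w | w ∈ X ∧ Odd (orderOf w) ∧ z * w * z⁻¹ = w⁻¹}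

/-- The involutions of `X`. -/
def involSet (X : Subgroup G) : Set G := {y | y ∈ X ∧ y * y = 1 ∧ y ≠ 1}

/-- The involutions `y` of `X` with `z * y` of even order. -/
def evenSet (X : Subgroup G) (z : G) : Set G := {y | y ∈ involSet X ∧ Even (orderOf (z * y))}

theorem one_mem_invSet (X : Subgroup G) (z : G) : (1 : G) ∈ invSet X z :=
  ⟨one_mem X, by simp, by simp⟩

theorem inv_mem_invSet {X : Subgroup G} {z w : G} (h : w ∈ invSet X z) : w⁻¹ ∈ invSet X z :=
  ⟨inv_mem h.1, by rw [orderOf_inv]; exact h.2.1, by rw [← conj_inv, h.2.2]⟩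

theorem pow_mem_invSet {X : Subgroup G} {z w : G} (h : w ∈ invSet X z) (n : ℕ) : w ^ n ∈ invSet X z :=
  ⟨pow_mem h.1 n, h.2.1.of_dvd_nat (orderOf_pow_dvd n), by rw [← conj_pow, h.2.2, inv_pow]⟩

/-- Counting involutions by the parity of the order of their product with `z`. -/
theorem ncard_involSet {X : Subgroup G} {z : G} (hz : z ∈ X) (hzz : z * z = 1) (hz1 : z ≠ 1) :
    (involSet X).ncard = (invSet X z).ncard + (evenSet X z).ncard := by
  classical
  have hzi : z⁻¹ = z := inv_eq_of_mul_eq_one_right hzz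
  have hsplit : involSet X = {y | y ∈ involSet X ∧ ¬ Even (orderOf (z * y))} ∪ evenSet X z := by
    ext y
    simp only [evenSet, Set.mem_union, Set.mem_ofPred_eq]
    tauto
  have hdisj : Disjoint {y | y ∈ involSet X ∧ ¬ Even (orderOf (z * y))} (evenSet X z) :=
    Set.disjoint_left.2 fun y h h' => h.2 h'.2
  rw [hsplit, Set.ncard_union_eq hdisj]
  congr 1
  have himg : invSet X z = (fun y => z * y) '' {y | y ∈ involSet X ∧ ¬ Even (orderOf (z * y))} := by
    ext w
    constructor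
    · rintro ⟨hw, hodd, hinv⟩
      refine ⟨z * w, ⟨⟨mul_mem hz hw, ?_, ?_⟩, ?_⟩, by simp only; rw [← mul_assoc, hzz, one_mul]⟩
      · calc z * w * (z * w) = (z * w * z⁻¹) * (z * z) * w := by group
          _ = 1 := by rw [hinv, hzz]; group
      · intro h
        have hwz : w = z := by rw [← hzi]; exact eq_inv_of_mul_eq_one_right h
        have h2 : orderOf w ∣ 2 := orderOf_dvd_of_pow_eq_one (by rw [hwz, pow_two, hzz])
        rcases (Nat.dvd_prime Nat.prime_two).1 h2 with h1 | h1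
        · exact hz1 (hwz ▸ orderOf_eq_one_iff.1 h1)
        · rw [h1] at hodd; exact absurd hodd (by decide)
      · rw [← mul_assoc, hzz, one_mul, Nat.not_even_iff_odd]; exact hodd
    · rintro ⟨y, ⟨⟨hyX, hy2, -⟩, hne⟩, rfl⟩
      refine ⟨mul_mem hz hyX, Nat.not_even_iff_odd.1 hne, ?_⟩
      rw [mul_inv_rev, inv_eq_of_mul_eq_one_right hy2, hzi, ← mul_assoc, hzz, one_mul]
  rw [himg, Set.ncard_image_of_injective _ (mul_right_injective z)]

/-- The number of conjugates. -/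
theorem card_mul_ncard_conj {X : Subgroup G} {z : G} (hz : z ∈ X) (S : Set G)
    (hS : ∀ y, y ∈ S ↔ ∃ x ∈ X, x * z * x⁻¹ = y) :
    Nat.card X = Nat.card ↥(X ⊓ centralizer ({z} : Set G)) * S.ncard := by
  classical
  have e := Nat.card_congr (MulAction.orbitEquivQuotientStabilizer (ConjAct X) (⟨z, hz⟩ : X))
  rw [← Nat.card_coe_set_eq]
  have hst : Nat.card (MulAction.stabilizer (ConjAct X) (⟨z, hz⟩ : X)) =
      Nat.card ↥(X ⊓ centralizer ({z} : Set G)) := by
    refine Nat.card_congr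
      { toFun := fun g => ⟨((ConjAct.ofConjAct (g : ConjAct X) : X) : G), ⟨(ConjAct.ofConjAct (g : ConjAct X)).2, ?_⟩⟩
        invFun := fun g => ⟨ConjAct.toConjAct ⟨g, g.2.1⟩, ?_⟩
        left_inv := fun g => rfl
        right_inv := fun g => rfl }
    · have := g.2
      rw [MulAction.mem_stabilizer_iff, ConjAct.smul_def] at this
      exact mem_centralizer_singleton_iff.2 (mul_inv_eq_iff_eq_mul.1 (congrArg Subtype.val this))
    · rw [MulAction.mem_stabilizer_iff, ConjAct.smul_def, ConjAct.ofConjAct_toConjAct]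
      refine Subtype.ext ?_
      show (g : G) * z * (g : G)⁻¹ = z
      rw [mem_centralizer_singleton_iff.1 g.2.2, mul_inv_cancel_right]
  have horb : Nat.card (MulAction.orbit (ConjAct X) (⟨z, hz⟩ : X)) = Nat.card S := by
    refine Nat.card_congr (Equiv.ofBijective (fun p => ⟨((p.1 : X) : G), ?_⟩) ⟨?_, ?_⟩)
    · obtain ⟨g, hg⟩ := MulAction.mem_orbit_iff.1 p.2
      refine (hS _).2 ⟨(ConjAct.ofConjAct g : X), (ConjAct.ofConjAct g).2, ?_⟩
      rw [← hg, ConjAct.smul_def]; rfl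
    · intro p q h
      exact Subtype.ext (Subtype.ext (congrArg (fun (s : S) => (s : G)) h))
    · rintro ⟨y, hy⟩
      obtain ⟨x, hx, rfl⟩ := (hS y).1 hy
      exact ⟨⟨⟨x * z * x⁻¹, mul_mem (mul_mem hx hz) (inv_mem hx)⟩,
        MulAction.mem_orbit_iff.2 ⟨ConjAct.toConjAct ⟨x, hx⟩, by rw [ConjAct.smul_def]; rfl⟩⟩, rfl⟩
  rw [← horb, e, ← hst]
  have := card_eq_card_quotient_mul_card_subgroup (MulAction.stabilizer (ConjAct X) (⟨z, hz⟩ : X))
  rw [show Nat.card (ConjAct X) = Nat.card X from rfl] at this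
  rw [this]; ring

/-- A group of odd order acted on by a four group is generated by the three centralisers. -/
theorem le_closure_fixed {E : Subgroup G} {z t : G} (hodd : Odd (Nat.card E)) (hzz : z * z = 1) (htt : t * t = 1)
    (hzt : Commute z t) (hz : ∀ e ∈ E, z * e * z⁻¹ ∈ E) (ht : ∀ e ∈ E, t * e * t⁻¹ ∈ E) :
    E ≤ closure {e | e ∈ E ∧ (Commute e z ∨ Commute e t ∨ Commute e (z * t))} := by
  intro e he
  have hsub : ∀ x, x ∈ E → (Commute x z ∨ Commute x t ∨ Commute x (z * t)) →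
      x ∈ closure {e | e ∈ E ∧ (Commute e z ∨ Commute e t ∨ Commute e (z * t))} :=
    fun x hx h => subset_closure ⟨hx, h⟩
  have comm_of : ∀ {x s : G}, s * x * s⁻¹ = x → Commute x s := fun {x s} h => (mul_inv_eq_iff_eq_mul.1 h).symm
  obtain ⟨c, w, hc, hcz, ⟨hw, hwz⟩, rfl⟩ := RankOne.exists_decomp hzz hodd hz he
  refine mul_mem (hsub c hc (Or.inl (comm_of hcz))) ?_
  obtain ⟨a, b, ha, hat, ⟨hb, hbt⟩, rfl⟩ := RankOne.exists_decomp htt hodd ht hw
  -- `a` is inverted by `z`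
  have htz : ∀ x, t * (z * x * z⁻¹) * t⁻¹ = z * (t * x * t⁻¹) * z⁻¹ := fun x => by
    calc t * (z * x * z⁻¹) * t⁻¹ = (t * z) * x * (t * z)⁻¹ := by group
      _ = (z * t) * x * (z * t)⁻¹ := by rw [hzt.eq]
      _ = _ := by group
  have h1 : z * a * z⁻¹ * (z * b * z⁻¹) = a⁻¹ * (a * b⁻¹ * a⁻¹) := by
    rw [conj_mul, hwz]; group
  have hfix : t * (z * a * z⁻¹) * t⁻¹ = z * a * z⁻¹ := by rw [htz, hat]
  have hfix' : t * a⁻¹ * t⁻¹ = a⁻¹ := by rw [← conj_inv, hat]
  have hm1 : z * b * z⁻¹ ∈ Cfsg.invertedBy E t :=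
    ⟨hz b hb, by rw [htz, hbt, ← conj_inv]⟩
  have hm2 : a * b⁻¹ * a⁻¹ ∈ Cfsg.invertedBy E t := by
    refine ⟨mul_mem (mul_mem ha (inv_mem hb)) (inv_mem ha), ?_⟩
    rw [← conj_mul, ← conj_mul, ← conj_inv, ← conj_inv, hat, hbt]
    group
  obtain ⟨ea, eb⟩ := RankOne.decomp_unique hodd hfix hfix' hm1 hm2 h1
  obtain ⟨m, hm⟩ := RankOne.exists_sqrt (RankOne.odd_orderOf hodd ha)
  set d := a ^ m with hd
  have hdt : Commute d t := (comm_of hat).pow_left m
  have hdE : d ∈ E := pow_mem ha m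
  have hdz : z * d * z⁻¹ = d⁻¹ := by rw [hd, ← conj_pow, ea, inv_pow]
  -- the conjugate `x` of `b`
  set x := d * b * d⁻¹ with hx
  have hxt : t * x * t⁻¹ = x⁻¹ := by
    rw [hx, ← conj_mul, ← conj_mul, hbt, ← conj_inv, ← hdt.eq, mul_inv_cancel_right]; group
  have hxz : z * x * z⁻¹ = x⁻¹ := by
    rw [hx, ← conj_mul, ← conj_mul, eb, show z * d⁻¹ * z⁻¹ = (z * d * z⁻¹)⁻¹ by group, hdz, ← hm]; group
  have hxzt : Commute x (z * t) := by
    refine comm_of ?_
    calc (z * t) * x * (z * t)⁻¹ = z * (t * x * t⁻¹) * z⁻¹ := by group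
      _ = x := by rw [hxt, ← conj_inv, hxz, inv_inv]
  have e1 : a * b = a * d⁻¹ * x * d := by rw [hx]; group
  rw [e1]
  exact mul_mem (mul_mem (mul_mem (hsub a ha (Or.inr (Or.inl (comm_of hat))))
    (inv_mem (hsub d hdE (Or.inr (Or.inl hdt)))))
    (hsub x (mul_mem (mul_mem hdE hb) (inv_mem hdE)) (Or.inr (Or.inr hxzt)))) (hsub d hdE (Or.inr (Or.inl hdt)))

end Cfsg.Agent.U43T
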