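import Cfsg.Agent.Lib.U43T.Normalise
import Cfsg.Agent.Lib.U43T.General
import Mathlib.GroupTheory.Transfer

/-!
The centralizer of the Sylow 3-subgroup of an involution centralizer: an elementary abelian group of order 81
extended by the involution.
-/

set_option autoImplicit false
set_option linter.unusedSectionVars false

namespace Cfsg.Agent.U43T

open Subgroup

variable {G : Type*} [Group G] [Finite G] {z : G}

theorem pList_lt : ∀ p ∈ pList, p < 1152 := by decide

theorem pList_mul : ∀ a ∈ pList, ∀ b ∈ pList, mulH a b ∈ pList := by decide +kernel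

theorem pList_inv : ∀ a ∈ pList, iH a ∈ pList := by decide +kernel

theorem pList_comm : ∀ a ∈ pList, ∀ b ∈ pList, mulH a b = mulH b a := by decide +kernel

theorem pList_fix : ∀ a ∈ pList, mulH a 576 = mulH 576 a → a ∈ [(0 : ℕ), 150, 225] := by decide +kernel

theorem pList_fix' : ∀ a ∈ pList, mulH a 588 = mulH 588 a → a ∈ [(0 : ℕ), 150, 225] := by decide +kernel

theorem conj_eq_iff_commute {a x : G} : a * x * a⁻¹ = x ↔ Commute a x := mul_inv_eq_iff_eq_mul

theorem orderOf_cube {x : G} (h : x * x * x = 1) (h1 : x ≠ 1) : orderOf x = 3 :=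
  haveI : Fact (Nat.Prime 3) := ⟨Nat.prime_three⟩
  orderOf_eq_prime (by rw [pow_succ, pow_two]; exact h) h1

namespace Frame

variable (F : Frame z)

/-- The Sylow 3-subgroup of the centraliser. -/
def psub : Subgroup G where
  carrier := {x | ∃ a ∈ pList, F.f a = x}
  one_mem' := ⟨0, by decide, F.f0⟩
  mul_mem' := by
    rintro _ _ ⟨a, ha, rfl⟩ ⟨b, hb, rfl⟩
    exact ⟨mulH a b, pList_mul a ha b hb, F.mul _ _ (pList_lt a ha) (pList_lt b hb)⟩
  inv_mem' := by
    rintro _ ⟨a, ha, rfl⟩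
    exact ⟨iH a, pList_inv a ha, F.f_iH (pList_lt a ha)⟩

theorem card_psub : Nat.card F.psub = 9 := by
  classical
  rw [show Nat.card F.psub = (F.psub : Set G).ncard from Nat.card_coe_set_eq _,
    show (F.psub : Set G) = ↑(pList.toFinset.image F.f) by ext x; simp [psub],
    Set.ncard_coe_finset, Finset.card_image_of_injOn]
  · decide +kernel
  · intro a ha b hb e
    simp only [List.coe_toFinset, Set.mem_ofPred_eq] at ha hb
    exact F.inj a b (pList_lt a ha) (pList_lt b hb) e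

theorem psub_comm {x y : G} (hx : x ∈ F.psub) (hy : y ∈ F.psub) : Commute x y := by
  obtain ⟨a, ha, rfl⟩ := hx
  obtain ⟨b, hb, rfl⟩ := hy
  exact (F.commute_iff (pList_lt a ha) (pList_lt b hb)).2 (pList_comm a ha b hb)

theorem psub_z {x : G} (hx : x ∈ F.psub) : Commute x z := by
  obtain ⟨a, ha, rfl⟩ := hx
  exact F.comm a (pList_lt a ha)

/-- The centraliser of the Sylow 3-subgroup. -/
def cp : Subgroup G := centralizer ({F.f 144} : Set G) ⊓ centralizer ({F.f 6} : Set G)

theorem mem_cp {x : G} : x ∈ F.cp ↔ Commute x (F.f 144) ∧ Commute x (F.f 6) := by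
  unfold cp
  rw [mem_inf, mem_centralizer_singleton_iff, mem_centralizer_singleton_iff]
  exact Iff.rfl

theorem z_mem_cp : z ∈ F.cp := F.mem_cp.2 ⟨(F.comm 144 (by norm_num)).symm, (F.comm 6 (by norm_num)).symm⟩

theorem psub_le_cp : F.psub ≤ F.cp := by
  rintro _ ⟨a, ha, rfl⟩
  exact F.mem_cp.2 ⟨(F.commute_iff (pList_lt a ha) (by norm_num)).2 (pList_comm a ha 144 (by decide)),
    (F.commute_iff (pList_lt a ha) (by norm_num)).2 (pList_comm a ha 6 (by decide))⟩

theorem cp_comm_psub {x p : G} (hx : x ∈ F.cp) (hp : p ∈ F.psub) : Commute x p := by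
  obtain ⟨h1, h2⟩ := F.mem_cp.1 hx
  obtain ⟨a, ha, rfl⟩ := hp
  have e144 : F.f 216 = F.f 144 * F.f 144 := by
    rw [← F.mul _ _ (by norm_num) (by norm_num), show mulH 144 144 = 216 by decide +kernel]
  have e6 : F.f 9 = F.f 6 * F.f 6 := by
    rw [← F.mul _ _ (by norm_num) (by norm_num), show mulH 6 6 = 9 by decide +kernel]
  have hx0 : Commute x (F.f 0) := by rw [F.f0]; exact Commute.one_right x
  have hx216 : Commute x (F.f 216) := e144 ▸ h1.mul_right h1
  have hx9 : Commute x (F.f 9) := e6 ▸ h2.mul_right h2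
  obtain ⟨i, j, hi, hj, rfl⟩ : ∃ i j : ℕ, i ∈ [(0 : ℕ), 144, 216] ∧ j ∈ [(0 : ℕ), 6, 9] ∧ a = mulH i j := by
    have : ∀ a ∈ pList, ∃ i ∈ [(0 : ℕ), 144, 216], ∃ j ∈ [(0 : ℕ), 6, 9], a = mulH i j := by decide +kernel
    obtain ⟨i, hi, j, hj, e⟩ := this a ha
    exact ⟨i, j, hi, hj, e⟩
  simp only [List.mem_cons, List.not_mem_nil, or_false] at hi hj
  rw [F.mul _ _ (by omega) (by omega)]
  refine Commute.mul_right ?_ ?_
  · rcases hi with rfl | rfl | rfl <;> assumption
  · rcases hj with rfl | rfl | rfl <;> assumption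

theorem exists_esub : ∃ E : Subgroup G, E ≤ F.cp ∧ Odd (Nat.card E) ∧
    (∀ x, x ∈ E ↔ x ∈ F.cp ∧ Odd (orderOf x)) ∧ (∀ x ∈ F.cp, x ∈ E ∨ x * z ∈ E) := by
  classical
  haveI : Fact (Nat.Prime 2) := ⟨Nat.prime_two⟩
  set X := F.cp with hX
  set zX : X := ⟨z, F.z_mem_cp⟩ with hzX
  set S0 : Subgroup X := zpowers zX with hS0
  have hcard0 : Nat.card S0 = 2 := by rw [Nat.card_zpowers, ← Subgroup.orderOf_coe]; exact F.orderOf_centre
  have hp0 : IsPGroup 2 S0 := IsPGroup.of_card (n := 1) (by rw [hcard0, pow_one])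
  -- the only two elements of two-power order commuting with `z`
  have hsmall : ∀ g : X, (∃ n, g ^ 2 ^ n = 1) → Commute g zX → g ∈ S0 := by
    rintro g ⟨n, hn⟩ hgz
    have hgz' : Commute (g : G) z := congrArg Subtype.val hgz
    obtain ⟨a, ha, hae⟩ := F.surj _ hgz'
    obtain ⟨h1, h2⟩ := F.mem_cp.1 g.2
    have m1 := (F.commute_iff ha (by norm_num)).1 (hae ▸ h1)
    have m2 := (F.commute_iff ha (by norm_num)).1 (hae ▸ h2)
    have key : ∀ p : G, p ∈ F.psub → p ^ 2 ^ n = 1 → p = 1 := by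
      intro p hp hpn
      have h3 : orderOf p ∣ 9 := F.card_psub ▸ (Subgroup.orderOf_mk p hp ▸ orderOf_dvd_natCard (⟨p, hp⟩ : F.psub))
      have := Nat.dvd_gcd h3 (orderOf_dvd_of_pow_eq_one hpn)
      rw [Nat.Coprime.gcd_eq_one ((Nat.Coprime.pow_right n (by norm_num : Nat.Coprime 9 2)))] at this
      exact orderOf_eq_one_iff.1 (Nat.eq_one_of_dvd_one this)
    have hn' : (g : G) ^ 2 ^ n = 1 := by rw [← Subgroup.coe_pow, hn]; rfl
    rcases cent_P ⟨a, ha⟩ m1 m2 with h | h
    · have := key (g : G) ⟨a, h, hae⟩ hn'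
      rw [show g = 1 from Subtype.ext this]
      exact one_mem _
    · have hmem : (g : G) * z ∈ F.psub :=
        ⟨_, h, by rw [F.mul _ _ ha (by norm_num), hae, F.fz]⟩
      rcases Nat.eq_zero_or_pos n with rfl | hnpos
      · rw [pow_zero, pow_one] at hn
        rw [hn]; exact one_mem _
      · have hz2 : z ^ 2 ^ n = 1 := by
          obtain ⟨m, rfl⟩ : ∃ m, n = m + 1 := ⟨n - 1, by omega⟩
          rw [pow_succ', pow_mul, pow_two, F.centre_sq, one_pow]
        have := key _ hmem (by rw [hgz'.mul_pow, hn', hz2, one_mul])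
        have hg : g = zX := Subtype.ext (by
          show (g : G) = z
          rw [eq_inv_of_mul_eq_one_left this, F.centre_inv])
        rw [hg]; exact mem_zpowers _
  -- `S0` is a Sylow subgroup
  obtain ⟨P, hP⟩ := hp0.exists_le_sylow
  have hPS : (P : Subgroup X) = S0 := by
    refine le_antisymm ?_ hP
    by_contra hne
    set W := S0.subgroupOf (P : Subgroup X) with hW
    have hWlt : W < ⊤ := lt_top_iff_ne_top.2 fun h => hne (subgroupOf_eq_top.1 h)
    haveI := P.isPGroup'.isNilpotent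
    obtain ⟨g, hg, hgW⟩ := SetLike.exists_of_lt (Group.normalizerCondition_of_isNilpotent W hWlt)
    refine hgW (hsmall g ?_ ?_)
    · obtain ⟨n, hn⟩ := P.isPGroup' g
      exact ⟨n, congrArg Subtype.val hn⟩
    · have hzW : (⟨zX, hP (mem_zpowers zX)⟩ : (P : Subgroup X)) ∈ W := mem_zpowers zX
      have hconj := (mem_normalizer_iff.1 hg _).1 hzW
      simp only [hW, mem_subgroupOf, Subgroup.coe_mul, InvMemClass.coe_inv] at hconj
      obtain ⟨k, hk⟩ := mem_zpowers_iff.1 hconj
      have hz2 : zX ^ (2 : ℤ) = 1 := by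
        rw [show (2 : ℤ) = ((2 : ℕ) : ℤ) from rfl, zpow_natCast, pow_two]
        exact Subtype.ext F.centre_sq
      rcases Int.even_or_odd' k with ⟨j, rfl | rfl⟩
      · rw [zpow_mul, hz2, one_zpow] at hk
        exact absurd (conj_eq_one_iff.1 hk.symm) fun h => F.centre_ne (congrArg Subtype.val h)
      · rw [zpow_add, zpow_mul, hz2, one_zpow, one_mul, zpow_one] at hk
        exact (conj_eq_iff_commute.1 hk.symm : _)
  have hNC : normalizer ((P : Subgroup X) : Set X) ≤ centralizer ((P : Subgroup X) : Set X) := by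
    intro g hg
    rw [hPS] at hg ⊢
    have hconj := (mem_normalizer_iff.1 hg zX).1 (mem_zpowers zX)
    have hz2 : zX * zX = 1 := Subtype.ext F.centre_sq
    have hgz : Commute g zX := by
      obtain ⟨k, hk⟩ := mem_zpowers_iff.1 hconj
      have hz2' : zX ^ (2 : ℤ) = 1 := by
        rw [show (2 : ℤ) = ((2 : ℕ) : ℤ) from rfl, zpow_natCast, pow_two, hz2]
      rcases Int.even_or_odd' k with ⟨j, rfl | rfl⟩
      · rw [zpow_mul, hz2', one_zpow] at hk
        exact absurd (conj_eq_one_iff.1 hk.symm) fun h => F.centre_ne (congrArg Subtype.val h)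
      · rw [zpow_add, zpow_mul, hz2', one_zpow, one_mul, zpow_one] at hk
        exact conj_eq_iff_commute.1 hk.symm
    refine mem_centralizer_iff.2 fun w hw => ?_
    obtain ⟨k, rfl⟩ := mem_zpowers_iff.1 hw
    exact (hgz.zpow_right k).symm
  set K := (MonoidHom.transferSylow P hNC).ker with hK
  have hcompl : K.IsComplement' (P : Subgroup X) := MonoidHom.ker_transferSylow_isComplement' P hNC
  have hKodd : Odd (Nat.card K) := by
    by_contra hev
    rw [Nat.not_odd_iff_even] at hev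
    have h1 := hcompl.card_mul
    rw [hPS, hcard0] at h1
    have h2 := P.not_dvd_index
    rw [hPS] at h2
    refine h2 ?_
    have h3 := S0.card_mul_index
    rw [hcard0, ← h1] at h3
    have : S0.index = Nat.card K := by omega
    exact this ▸ hev.two_dvd
  have hmem : ∀ g : X, g ∈ K ↔ Odd (orderOf (g : G)) := by
    intro g
    rw [Subgroup.orderOf_coe]
    constructor
    · intro hg
      exact hKodd.of_dvd_nat (Subgroup.orderOf_mk g hg ▸ orderOf_dvd_natCard (⟨g, hg⟩ : K))
    · intro hg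
      rw [hK, MonoidHom.mem_ker]
      set φ := MonoidHom.transferSylow P hNC
      have h1 : orderOf (φ g) ∣ 2 := by
        have := orderOf_dvd_natCard (φ g)
        have hc : Nat.card (P : Subgroup X) = 2 := by rw [hPS, hcard0]
        rwa [hc] at this
      have h2 := orderOf_map_dvd φ g
      refine orderOf_eq_one_iff.1 (Nat.eq_one_of_dvd_one ?_)
      rw [← (Nat.coprime_two_left.2 hg : Nat.Coprime 2 (orderOf g))]
      exact Nat.dvd_gcd h1 h2
  refine ⟨K.map X.subtype, map_subtype_le K, ?_, fun x => ?_, fun x hx => ?_⟩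
  · rw [card_map_of_injective X.subtype_injective]; exact hKodd
  · constructor
    · rintro ⟨g, hg, rfl⟩
      exact ⟨g.2, (hmem g).1 hg⟩
    · rintro ⟨hx, hodd⟩
      exact ⟨⟨x, hx⟩, (hmem ⟨x, hx⟩).2 hodd, rfl⟩
  · -- the kernel has index two
    have hcP : Nat.card (P : Subgroup X) = 2 := by rw [hPS, hcard0]
    have hidx : K.index = 2 := by
      have h1 := hcompl.card_mul
      rw [hcP] at h1
      have h2 := K.card_mul_index
      rw [← h1] at h2
      have hpos : 0 < Nat.card K := Nat.card_pos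
      exact Nat.eq_of_mul_eq_mul_left hpos h2
    have hzK : zX ∉ K := fun h => by
      have := (hmem zX).1 h
      rw [hzX, F.orderOf_centre] at this
      exact absurd this (by decide)
    by_cases h : (⟨x, hx⟩ : X) ∈ K
    · exact Or.inl ⟨_, h, rfl⟩
    · have hmem2 : (⟨x, hx⟩ : X) * zX ∈ K :=
        (Subgroup.mul_mem_iff_of_index_two hidx).2 ⟨fun a => absurd a h, fun a => absurd a hzK⟩
      exact Or.inr ⟨(⟨x, hx⟩ : X) * zX, hmem2, rfl⟩

/-- The odd part of the centraliser of the Sylow 3-subgroup. -/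
noncomputable def esub : Subgroup G := F.exists_esub.choose

theorem mem_esub {x : G} : x ∈ F.esub ↔ x ∈ F.cp ∧ Odd (orderOf x) := F.exists_esub.choose_spec.2.2.1 x

theorem cp_cases {x : G} (hx : x ∈ F.cp) : x ∈ F.esub ∨ x * z ∈ F.esub := F.exists_esub.choose_spec.2.2.2 x hx

theorem esub_odd : Odd (Nat.card F.esub) := F.exists_esub.choose_spec.2.1

theorem psub_le_esub : F.psub ≤ F.esub := fun x hx => F.mem_esub.2 ⟨F.psub_le_cp hx,
  (by norm_num : Odd 9).of_dvd_nat (F.card_psub ▸ (Subgroup.orderOf_mk x hx ▸ orderOf_dvd_natCard (⟨x, hx⟩ : F.psub)))⟩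

theorem esub_conj {a : G} (ha : ∀ p ∈ F.psub, a * p * a⁻¹ ∈ F.psub) {x : G} (hx : x ∈ F.esub) :
    a * x * a⁻¹ ∈ F.esub := by
  classical
  obtain ⟨h1, h2⟩ := F.mem_esub.1 hx
  refine F.mem_esub.2 ⟨?_, by rwa [← MulAut.conj_apply, MulEquiv.orderOf_eq]⟩
  -- `a` maps `psub` onto itself
  have honto : ∀ p ∈ F.psub, ∃ q ∈ F.psub, a * q * a⁻¹ = p := by
    intro p hp
    let f : F.psub → F.psub := fun q => ⟨a * q * a⁻¹, ha q q.2⟩
    have hf : Function.Injective f := fun q r h =>
      Subtype.ext (mul_left_cancel (mul_right_cancel (congrArg Subtype.val h)))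
    obtain ⟨q, hq⟩ := (Finite.injective_iff_surjective.1 hf) ⟨p, hp⟩
    exact ⟨q, q.2, congrArg Subtype.val hq⟩
  have key : ∀ p ∈ F.psub, Commute (a * x * a⁻¹) p := by
    intro p hp
    obtain ⟨q, hq, rfl⟩ := honto p hp
    show a * x * a⁻¹ * (a * q * a⁻¹) = a * q * a⁻¹ * (a * x * a⁻¹)
    rw [conj_mul, conj_mul, (F.cp_comm_psub h1 hq).eq]
  exact F.mem_cp.2 ⟨key _ ⟨144, by decide, rfl⟩, key _ ⟨6, by decide, rfl⟩⟩

theorem esub_fixed {x : G} (hx : x ∈ F.esub) (hz : Commute x z) : x ∈ F.psub := by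
  obtain ⟨h1, h2⟩ := F.mem_esub.1 hx
  obtain ⟨a, ha, rfl⟩ := F.surj x hz
  obtain ⟨m1, m2⟩ := F.mem_cp.1 h1
  rcases cent_P ⟨a, ha⟩ ((F.commute_iff ha (by norm_num)).1 m1) ((F.commute_iff ha (by norm_num)).1 m2) with h | h
  · exact ⟨a, h, rfl⟩
  · have hz' : z ∈ F.esub := by
      have hmem : F.f a * z ∈ F.esub :=
        F.psub_le_esub ⟨_, h, by rw [F.mul _ _ ha (by norm_num), F.fz]⟩
      simpa using mul_mem (inv_mem hx) hmem
    have hodd := (F.mem_esub.1 hz').2
    rw [F.orderOf_centre] at hodd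
    exact absurd hodd (by decide)

theorem cp_split {x : G} (hx : x ∈ F.cp) (hz : Commute x z) : x ∈ F.psub ∨ x * z ∈ F.psub := by
  obtain ⟨a, ha, rfl⟩ := F.surj x hz
  obtain ⟨m1, m2⟩ := F.mem_cp.1 hx
  rcases cent_P ⟨a, ha⟩ ((F.commute_iff ha (by norm_num)).1 m1) ((F.commute_iff ha (by norm_num)).1 m2) with h | h
  · exact Or.inl ⟨a, h, rfl⟩
  · exact Or.inr ⟨_, h, by rw [F.mul _ _ ha (by norm_num), F.fz]⟩

end Frame

end Cfsg.Agent.U43T
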