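import Cfsg.Agent.Lib.U43T.General2
import Cfsg.Agent.Lib.U43T.PLemma
import Mathlib.GroupTheory.Perm.Cycle.Type

/-!
Elementary lemmas on groups in which every element is a central element times an inverted one.
-/

set_option autoImplicit false
set_option linter.unusedSectionVars false

namespace Cfsg.Agent.U43T

open Subgroup

variable {G : Type*} [Group G] [Finite G]

/-- Counting a conjugation orbit. -/
theorem card_eq_orbit (Q : Subgroup G) (g : G) :
    Nat.card Q = Nat.card ↥(Q ⊓ centralizer ({g} : Set G)) * {y | ∃ q ∈ Q, q * g * q⁻¹ = y}.ncard := by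
  classical
  haveI := Fintype.ofFinite G
  have hf : ∀ y ∈ (Q : Set G).toFinite.toFinset.image (fun q => q * g * q⁻¹),
      ((Q : Set G).toFinite.toFinset.filter fun q => q * g * q⁻¹ = y).card =
        Nat.card ↥(Q ⊓ centralizer ({g} : Set G)) := by
    intro y hy
    obtain ⟨q, hq, rfl⟩ := Finset.mem_image.1 hy
    simp only [Set.Finite.mem_toFinset, SetLike.mem_coe] at hq
    rw [show Nat.card ↥(Q ⊓ centralizer ({g} : Set G)) =
      ((Q ⊓ centralizer ({g} : Set G) : Subgroup G) : Set G).ncard from Nat.card_coe_set_eq _,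
      Set.ncard_eq_toFinset_card _ (Set.toFinite _)]
    refine Finset.card_bij (fun x _ => q⁻¹ * x) (fun x hx => ?_) (fun a _ b _ h => mul_left_cancel h) (fun x hx => ?_)
    · simp only [Finset.mem_filter, Set.Finite.mem_toFinset, SetLike.mem_coe] at hx ⊢
      refine mem_inf.2 ⟨mul_mem (inv_mem hq) hx.1, mem_centralizer_singleton_iff.2 ?_⟩
      calc q⁻¹ * x * g = q⁻¹ * (x * g * x⁻¹) * x := by group
        _ = g * (q⁻¹ * x) := by rw [hx.2]; group
    · simp only [Set.Finite.mem_toFinset, SetLike.mem_coe] at hx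
      obtain ⟨hxQ, hxg⟩ := mem_inf.1 hx
      rw [mem_centralizer_singleton_iff] at hxg
      refine ⟨q * x, ?_, by group⟩
      simp only [Finset.mem_filter, Set.Finite.mem_toFinset, SetLike.mem_coe]
      refine ⟨mul_mem hq hxQ, ?_⟩
      calc q * x * g * (q * x)⁻¹ = q * (x * g) * x⁻¹ * q⁻¹ := by group
        _ = _ := by rw [hxg]; group
  have hset : {y | ∃ q ∈ Q, q * g * q⁻¹ = y}.ncard =
      ((Q : Set G).toFinite.toFinset.image (fun q => q * g * q⁻¹)).card := by
    rw [← Set.ncard_coe_finset]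
    congr 1
    ext y
    simp
  rw [hset, show Nat.card Q = (Q : Set G).ncard from Nat.card_coe_set_eq _,
    Set.ncard_eq_toFinset_card _ (Set.toFinite _), Finset.card_eq_sum_card_image (fun q => q * g * q⁻¹),
    Finset.sum_congr rfl hf, Finset.sum_const, smul_eq_mul, mul_comm]

/-- A subgroup all whose elements have odd order has odd order. -/
theorem odd_card_of_odd_orderOf (X : Subgroup G) (h : ∀ x ∈ X, Odd (orderOf x)) : Odd (Nat.card X) := by
  by_contra hodd
  haveI : Fact (Nat.Prime 2) := ⟨Nat.prime_two⟩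
  obtain ⟨⟨x, hx⟩, ho⟩ := exists_prime_orderOf_dvd_card' 2 (even_iff_two_dvd.1 (Nat.not_odd_iff_even.1 hodd))
  have := h x hx
  rw [(Subgroup.orderOf_coe ⟨x, hx⟩).trans ho] at this
  exact absurd this (by decide)

/-- Every element of `X` is a power of `u` times an element inverted by `z`. -/
structure Split (X : Subgroup G) (z u : G) : Prop where
  cube : u * u * u = 1
  cent : ∀ x ∈ X, Commute x u
  fix : Commute z u
  odd : Odd (Nat.card X)
  split : ∀ x ∈ X, ∃ i : ℤ, ∃ w : G, w ∈ X ∧ z * w * z⁻¹ = w⁻¹ ∧ x = u ^ i * w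

namespace Split

variable {X : Subgroup G} {z u : G}

theorem of_decomp (hzz : z * z = 1) (hodd : Odd (Nat.card X)) (hu : u * u * u = 1)
    (hcent : ∀ x ∈ X, Commute x u) (hfix : Commute z u) (hnorm : ∀ x ∈ X, z * x * z⁻¹ ∈ X)
    (hzf : ∀ x ∈ X, z * x * z⁻¹ = x → x ∈ zpowers u) : Split X z u where
  cube := hu
  cent := hcent
  fix := hfix
  odd := hodd
  split x hx := by
    obtain ⟨y, w, hy, hyz, ⟨hw, hwi⟩, rfl⟩ := RankOne.exists_decomp hzz hodd hnorm hx
    obtain ⟨i, hi⟩ := hzf y hy hyz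
    exact ⟨i, w, hw, hwi, by rw [← hi]⟩

variable (D : Split X z u)

include D in
theorem comm_inverted {a b : G} (ha : a ∈ X) (hai : z * a * z⁻¹ = a⁻¹) (hb : b ∈ X) (hbi : z * b * z⁻¹ = b⁻¹) :
    a * b * a⁻¹ * b⁻¹ ∈ zpowers u := by
  obtain ⟨i, w, hw, hwi, e⟩ := D.split _ (mul_mem ha hb)
  have e2 : a⁻¹ * b⁻¹ = u ^ i * w⁻¹ := by
    rw [← hai, ← hbi, ← hwi, conj_mul, e, ← conj_mul, conj_eq_iff_commute.2 (D.fix.zpow_right i)]
  refine ⟨2 * i, ?_⟩
  show u ^ (2 * i) = _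
  rw [mul_assoc (a * b), e2, e, mul_assoc, ← mul_assoc w, ((D.cent w hw).zpow_right i).eq,
    mul_assoc (u ^ i) w, mul_inv_cancel, mul_one, ← zpow_add]
  congr 1; omega

include D in
theorem comm_mem {g a : G} (hg : g ∈ X) (ha : a ∈ X) : g * a * g⁻¹ * a⁻¹ ∈ zpowers u := by
  obtain ⟨i, w, hw, hwi, rfl⟩ := D.split g hg
  obtain ⟨j, b, hb, hbi, rfl⟩ := D.split a ha
  obtain ⟨k, hk⟩ := D.comm_inverted hw hwi hb hbi
  dsimp only at hk
  refine ⟨k, ?_⟩
  have c1 : Commute (u ^ j) w := ((D.cent w hw).zpow_right j).symm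
  have c2 : Commute (u ^ i) (u ^ j) := Commute.zpow_zpow (Commute.refl u) i j
  have c3 : Commute (u ^ i) (w * b * w⁻¹) :=
    ((D.cent _ (mul_mem (mul_mem hw hb) (inv_mem hw))).zpow_right i).symm
  show u ^ k = _
  calc u ^ k = w * b * w⁻¹ * b⁻¹ := hk
    _ = u ^ j * (w * b * w⁻¹ * b⁻¹) * (u ^ j)⁻¹ := (conj_eq_iff_commute.2
        (by rw [← hk]; exact Commute.zpow_zpow (Commute.refl u) j k)).symm
    _ = u ^ j * (u ^ i * (w * b * w⁻¹) * (u ^ i)⁻¹) * (b⁻¹ * (u ^ j)⁻¹) := by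
        rw [conj_eq_iff_commute.2 c3]; group
    _ = u ^ i * w * (u ^ j * b) * (u ^ i * w)⁻¹ * (u ^ j * b)⁻¹ := by
        rw [show u ^ i * w * (u ^ j * b) * (u ^ i * w)⁻¹ =
          (u ^ i * (w * u ^ j * w⁻¹) * (u ^ i)⁻¹) * (u ^ i * (w * b * w⁻¹) * (u ^ i)⁻¹) by group,
          conj_eq_iff_commute.2 c1.symm, conj_eq_iff_commute.2 c2]
        group

include D in
theorem commute_coprime {a b : G} (ha : a ∈ X) (hb : b ∈ X) (hac : Nat.Coprime (orderOf a) 3) : Commute a b := by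
  obtain ⟨k, hk⟩ := D.comm_mem ha hb
  dsimp only at hk
  have hconj : a * b * a⁻¹ = u ^ k * b := by rw [hk]; group
  have hca : Commute a (u ^ k) := (D.cent a ha).zpow_right k
  have hn : ∀ n : ℕ, a ^ n * b * (a ^ n)⁻¹ = (u ^ k) ^ n * b := by
    intro n
    induction n with
    | zero => simp
    | succ n ih =>
      rw [show a ^ (n + 1) * b * (a ^ (n + 1))⁻¹ = a * (a ^ n * b * (a ^ n)⁻¹) * a⁻¹ by rw [pow_succ']; group, ih,
        ← conj_mul, conj_eq_iff_commute.2 (hca.pow_right n), hconj, pow_succ (u ^ k), mul_assoc]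
  have h := hn (orderOf a)
  rw [pow_orderOf_eq_one, one_mul, inv_one, mul_one] at h
  have h1 : orderOf (u ^ k) ∣ orderOf a := orderOf_dvd_of_pow_eq_one (right_eq_mul.1 h)
  have h2 : orderOf (u ^ k) ∣ 3 := by
    refine orderOf_dvd_of_pow_eq_one ?_
    rw [← zpow_natCast, ← zpow_mul, mul_comm, zpow_mul, zpow_natCast, pow_succ, pow_two, D.cube, one_zpow]
  have hc1 : u ^ k = 1 :=
    orderOf_eq_one_iff.1 (Nat.Coprime.eq_one_of_dvd (Nat.Coprime.coprime_dvd_left h1 hac) h2)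
  rw [hc1, one_mul] at hconj
  exact conj_eq_iff_commute.1 hconj

include D in
theorem orbit_le_three {g : G} (hg : g ∈ X) : {y | ∃ x ∈ X, x * g * x⁻¹ = y}.ncard ≤ 3 := by
  have hsub : {y | ∃ x ∈ X, x * g * x⁻¹ = y} ⊆ (fun c => c * g) '' (zpowers u : Set G) := by
    rintro _ ⟨x, hx, rfl⟩
    exact ⟨x * g * x⁻¹ * g⁻¹, D.comm_mem hx hg, by group⟩
  refine (Set.ncard_le_ncard hsub (Set.toFinite _)).trans ((Set.ncard_image_le (Set.toFinite _)).trans ?_)
  rw [← Nat.card_coe_set_eq]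
  show Nat.card (zpowers u) ≤ 3
  rw [Nat.card_zpowers]
  exact Nat.le_of_dvd (by norm_num) (orderOf_dvd_of_pow_eq_one (by rw [pow_succ, pow_two]; exact D.cube))

include D in
theorem card_le_cent {g : G} (hg : g ∈ X) :
    Nat.card X ≤ 3 * Nat.card ↥(X ⊓ centralizer ({g} : Set G)) := by
  rw [card_eq_orbit X g, mul_comm 3]
  exact Nat.mul_le_mul_left _ (D.orbit_le_three hg)

end Split

end Cfsg.Agent.U43T
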