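import Cfsg.Agent.Lib.U43T.Api

/-!
Frames: transport of equations, change of centre, twisting by the automorphism.
-/

set_option autoImplicit false
set_option linter.unusedSectionVars false

namespace Cfsg.Agent.U43T

variable {G : Type*} [Group G] [Finite G] {c : G}

theorem genH_lt : ∀ x ∈ genH, x < 1152 := by decide

namespace Frame

variable (F : Frame c)

theorem f0 : F.f 0 = 1 := by
  have h := F.mul 0 0 (by norm_num) (by norm_num)
  rw [show mulH 0 0 = 0 by decide +kernel] at h
  exact mul_left_cancel (a := F.f 0) (by rw [mul_one]; exact h.symm)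

theorem f_iH {g : ℕ} (hg : g < 1152) : F.f (iH g) = (F.f g)⁻¹ :=
  eq_inv_of_mul_eq_one_right (by rw [← F.mul _ _ hg (iH_lt g), iH_spec ⟨g, hg⟩, F.f0])

theorem f_cjH {g x : ℕ} (hg : g < 1152) (hx : x < 1152) :
    F.f (cjH g x) = F.f g * F.f x * (F.f g)⁻¹ := by
  rw [cjH, F.mul _ _ (mulH_lt _ _) (iH_lt g), F.mul _ _ hg hx, F.f_iH hg]

theorem commute_iff {a b : ℕ} (ha : a < 1152) (hb : b < 1152) :
    Commute (F.f a) (F.f b) ↔ mulH a b = mulH b a := by
  constructor
  · intro h
    exact F.inj _ _ (mulH_lt _ _) (mulH_lt _ _) (by rw [F.mul _ _ ha hb, F.mul _ _ hb ha]; exact h)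
  · intro h
    show F.f a * F.f b = F.f b * F.f a
    rw [← F.mul _ _ ha hb, ← F.mul _ _ hb ha, h]

theorem eq_one_iff {a : ℕ} (ha : a < 1152) : F.f a = 1 ↔ a = 0 :=
  ⟨fun h => F.inj _ _ ha (by norm_num) (h.trans F.f0.symm), fun h => h ▸ F.f0⟩

theorem eq_iff {a b : ℕ} (ha : a < 1152) (hb : b < 1152) : F.f a = F.f b ↔ a = b :=
  ⟨F.inj _ _ ha hb, fun h => h ▸ rfl⟩

theorem sq_eq_one_iff {a : ℕ} (ha : a < 1152) : F.f a * F.f a = 1 ↔ sqH a = 0 := by
  rw [← F.mul _ _ ha ha, F.eq_one_iff (mulH_lt _ _)]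
  rfl

theorem cube_eq_one_iff {a : ℕ} (ha : a < 1152) : F.f a * F.f a * F.f a = 1 ↔ mulH (mulH a a) a = 0 := by
  rw [← F.mul _ _ ha ha, ← F.mul _ _ (mulH_lt _ _) ha, F.eq_one_iff (mulH_lt _ _)]

include F in
theorem centre_sq : c * c = 1 := by
  rw [← F.fz, F.sq_eq_one_iff (by norm_num)]
  decide +kernel

include F in
theorem centre_ne : c ≠ 1 := by
  rw [← F.fz, Ne, F.eq_one_iff (by norm_num)]
  norm_num

include F in
theorem orderOf_centre : orderOf c = 2 := orderOf_eq_prime (by rw [pow_two, F.centre_sq]) F.centre_ne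

include F in
theorem centre_inv : c⁻¹ = c := inv_eq_of_mul_eq_one_right F.centre_sq

theorem exists_code {x : G} (hx : Commute x c) : ∃ g, g < 1152 ∧ F.f g = x := F.surj x hx

/-- The same frame at an equal centre. -/
def cast {d : G} (h : c = d) : Frame d where
  f := F.f
  mul := F.mul
  comm g hg := h ▸ F.comm g hg
  inj := F.inj
  surj x hx := F.surj x (h ▸ hx)
  fz := h ▸ F.fz

@[simp] theorem cast_f {d : G} (h : c = d) : (F.cast h).f = F.f := rfl

/-- Conjugation by an element commuting with the centre. -/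
def shift (a : G) (ha : Commute a c) : Frame c :=
  (F.conj a).cast (by rw [ha.eq, mul_inv_cancel_right])

theorem shift_f (a : G) (ha : Commute a c) (g : ℕ) : (F.shift a ha).f g = a * F.f g * a⁻¹ := rfl

include F in
theorem assoc_code {g h x : ℕ} (hg : g < 1152) (hh : h < 1152) (hx : x < 1152) :
    mulH g (mulH h x) = mulH (mulH g h) x := by
  refine F.inj _ _ (mulH_lt _ _) (mulH_lt _ _) ?_
  rw [F.mul _ _ hg (mulH_lt _ _), F.mul _ _ hh hx, F.mul _ _ (mulH_lt _ _) hx, F.mul _ _ hg hh, mul_assoc]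

theorem alpha_mul {g h : ℕ} (hg : g < 1152) (hh : h < 1152) :
    F.f (alphaH (mulH g h)) = F.f (alphaH g) * F.f (alphaH h) := by
  induction hr : rankH h using Nat.strong_induction_on generalizing h g with
  | _ r ih =>
    rcases rank_step ⟨h, hh⟩ with h0 | hstep
    · simp only at h0
      subst h0
      rw [show alphaH 0 = 0 by decide +kernel, F.f0, mul_one]
      congr 1
      congr 1
      exact F.inj _ _ (mulH_lt _ _) hg (by rw [F.mul _ _ hg (by norm_num), F.f0, mul_one])
    · simp only [List.any_eq_true, decide_eq_true_eq] at hstep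
      obtain ⟨x, hx, hlt⟩ := hstep
      have hx' : x < 1152 := genH_lt x hx
      set h' := mulH h (iH x) with hh'
      have e : mulH h' x = h := by
        refine F.inj _ _ (mulH_lt _ _) hh ?_
        rw [F.mul _ _ (mulH_lt _ _) hx', F.mul _ _ hh (iH_lt x), F.f_iH hx', inv_mul_cancel_right]
      have a1 : ∀ {u : ℕ}, u < 1152 → F.f (alphaH (mulH u x)) = F.f (alphaH u) * F.f (alphaH x) := fun hu => by
        rw [alpha_gen ⟨_, hu⟩ x hx, F.mul _ _ (alpha_lt ⟨_, hu⟩) (alpha_lt ⟨_, hx'⟩)]
      rw [← e, F.assoc_code hg (mulH_lt _ _) hx', a1 (mulH_lt _ _), a1 (mulH_lt _ _),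
        ih _ (hr ▸ hlt) hg (mulH_lt _ _) rfl, mul_assoc]

theorem alpha_inj {g h : ℕ} (hg : g < 1152) (hh : h < 1152) (e : F.f (alphaH g) = F.f (alphaH h)) : g = h := by
  have h1 : F.f (alphaH (mulH g (iH h))) = 1 := by
    rw [F.alpha_mul hg (iH_lt h), e, ← F.alpha_mul hh (iH_lt h), iH_spec ⟨h, hh⟩,
      show alphaH 0 = 0 by decide +kernel, F.f0]
  have h2 := alpha_inj_aux ⟨_, mulH_lt g (iH h)⟩ ((F.eq_one_iff (alpha_lt ⟨_, mulH_lt _ _⟩)).1 h1)
  simp only at h2
  refine F.inj _ _ hg hh ?_
  have := congrArg F.f h2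
  rwa [F.mul _ _ hg (iH_lt h), F.f_iH hh, F.f0, mul_inv_eq_one] at this

/-- Composition with the outer automorphism of the model. -/
def twist : Frame c where
  f g := F.f (alphaH g)
  mul g h hg hh := F.alpha_mul hg hh
  comm g hg := F.comm _ (alpha_lt ⟨g, hg⟩)
  inj g h hg hh := F.alpha_inj hg hh
  surj x hx := by
    classical
    have hinj : Set.InjOn alphaH ↑(Finset.range 1152) := fun a ha b hb e => by
      simp only [Finset.coe_range, Set.mem_Iio] at ha hb
      exact F.alpha_inj ha hb (by rw [e])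
    have himg : (Finset.range 1152).image alphaH = Finset.range 1152 := by
      refine Finset.eq_of_subset_of_card_le ?_ (by rw [Finset.card_image_of_injOn hinj])
      intro a ha
      simp only [Finset.mem_image, Finset.mem_range] at ha ⊢
      obtain ⟨b, hb, rfl⟩ := ha
      exact alpha_lt ⟨b, hb⟩
    obtain ⟨g, hg, e⟩ := F.surj x hx
    have : g ∈ (Finset.range 1152).image alphaH := by rw [himg]; exact Finset.mem_range.2 hg
    simp only [Finset.mem_image, Finset.mem_range] at this
    obtain ⟨b, hb, rfl⟩ := this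
    exact ⟨b, hb, e⟩
  fz := by show F.f (alphaH 12) = c; rw [show alphaH 12 = 12 by decide +kernel, F.fz]

theorem twist_f (g : ℕ) : F.twist.f g = F.f (alphaH g) := rfl

theorem twist_vals : alphaH 150 = 153 ∧ alphaH 576 = 1014 ∧ alphaH 144 = 144 ∧ alphaH 6 = 9 := by decide +kernel

include F in
theorem card_centraliser : Nat.card ↥(Subgroup.centralizer ({c} : Set G)) = 1152 := by
  classical
  have himg : ((Subgroup.centralizer ({c} : Set G) : Subgroup G) : Set G) =
      ↑((Finset.range 1152).image F.f) := by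
    ext x
    simp only [SetLike.mem_coe, Subgroup.mem_centralizer_singleton_iff, Finset.coe_image, Finset.coe_range,
      Set.mem_image, Set.mem_Iio]
    exact ⟨fun h => F.surj x h, fun ⟨g, hg, e⟩ => e ▸ F.comm g hg⟩
  rw [show Nat.card ↥(Subgroup.centralizer ({c} : Set G)) =
    ((Subgroup.centralizer ({c} : Set G) : Subgroup G) : Set G).ncard from Nat.card_coe_set_eq _, himg,
    Set.ncard_coe_finset, Finset.card_image_of_injOn, Finset.card_range]
  intro a ha b hb e
  simp only [Finset.coe_range, Set.mem_Iio] at ha hb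
  exact F.inj a b ha hb e

/-- Counting a set inside the centraliser through codes. -/
theorem ncard_codes (p : ℕ → Bool) (S : Set G) (hS : ∀ x ∈ S, Commute x c)
    (hp : ∀ g, g < 1152 → (F.f g ∈ S ↔ p g = true)) : S.ncard = ((List.range 1152).filter p).length := by
  classical
  have himg : S = ↑((((List.range 1152).filter p).toFinset).image F.f) := by
    ext x
    simp only [Finset.coe_image, Set.mem_image, List.coe_toFinset, List.mem_filter, List.mem_range,
      Set.mem_ofPred_eq]
    constructor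
    · intro hx
      obtain ⟨g, hg, rfl⟩ := F.surj x (hS x hx)
      exact ⟨g, ⟨hg, (hp g hg).1 hx⟩, rfl⟩
    · rintro ⟨g, ⟨hg, hg'⟩, rfl⟩
      exact (hp g hg).2 hg'
  rw [himg, Set.ncard_coe_finset, Finset.card_image_of_injOn,
    List.toFinset_card_of_nodup (List.nodup_range.filter p)]
  intro a ha b hb e
  simp only [List.coe_toFinset, List.mem_filter, List.mem_range, Set.mem_ofPred_eq] at ha hb
  exact F.inj a b ha.1 hb.1 e

end Frame

end Cfsg.Agent.U43T
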