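import Cfsg.Agent.Lib.U43T.UFive
import Cfsg.Agent.Lib.U43T.General3
import Cfsg.Agent.S0215

/-!
The centraliser of the element `144`: the odd normal subgroup covering it.
-/

set_option autoImplicit false
set_option linter.unusedSectionVars false

namespace Cfsg.Agent.U43T

open Subgroup

variable {G : Type*} [Group G] [Finite G] {z z₀ : G}

/-- The Sylow 2-subgroup of the centraliser of the code `144` in the model. -/
def qEight : List ℕ := [0, 1, 7, 11, 12, 13, 19, 23]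

theorem qEight_facts : (∀ g ∈ qEight, g < 1152 ∧ mulH g 144 = mulH 144 g ∧ (g = 0 ∨ g = 12 ∨ sqH g = 12)) ∧
    (∀ a ∈ qEight, ∀ b ∈ qEight, mulH a b ∈ qEight) ∧ qEight.length = 8 ∧
    ((List.range 1152).filter fun g => mulH g 144 == mulH 144 g).length = 72 ∧
    mulH 5 144 = mulH 144 5 ∧ mulH 1 144 = mulH 144 1 ∧ cjH 1 6 = 5 ∧ sqH (mulH 6 5) = mulH (mulH 6 5) (mulH 6 5) ∧
    mulH (mulH (mulH 6 5) (mulH 6 5)) (mulH 6 5) = 12 ∧ qEight.Nodup := by decide +kernel

theorem no_odd_normal : ∀ x : Fin 1152, mulH x 144 = mulH 144 x → mulH (mulH x x) x = 0 →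
    (x : ℕ) ∈ [(0 : ℕ), 144, 216] ∨ (qEight.any fun q =>
      let y := mulH x (cjH q x); mulH (mulH y y) y != 0) = true := by decide +kernel

theorem cube_eq_one_of_odd {x : G} (ho : Odd (orderOf x)) (h : x ^ 24 = 1) : x * x * x = 1 := by
  have h1 : orderOf x ∣ 3 :=
    Nat.Coprime.dvd_of_dvd_mul_right ((Nat.coprime_two_right.2 ho).pow_right 3)
      (show orderOf x ∣ 3 * 2 ^ 3 from orderOf_dvd_of_pow_eq_one h)
  have := orderOf_dvd_iff_pow_eq_one.1 h1
  rwa [pow_succ, pow_two] at this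

namespace Frame

variable (F : Frame z)

include F in
theorem pow_twentyfour {x : G} (hx : Commute x z) : x ^ 24 = 1 := by
  obtain ⟨g, hg, rfl⟩ := F.surj x hx
  have h := exp_twentyfour ⟨g, hg⟩
  have hs : ∀ a, a < 1152 → F.f (sqH a) = F.f a ^ 2 := fun a ha => by rw [sqH, F.mul _ _ ha ha, pow_two]
  have h2 := congrArg F.f h
  simp only [sqH] at h2 hs
  rw [F.mul _ _ (mulH_lt _ _) (mulH_lt _ _), hs _ (mulH_lt _ _), hs _ (mulH_lt _ _), hs _ (mulH_lt _ _), hs _ hg,
    F.f0] at h2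
  simp only [← pow_mul, ← pow_add] at h2
  exact h2

/-- The centraliser of the element `144`. -/
def k1 : Subgroup G := centralizer ({F.f 144} : Set G)

theorem mem_k1 {x : G} : x ∈ F.k1 ↔ Commute x (F.f 144) := mem_centralizer_singleton_iff

theorem z_mem_k1 : z ∈ F.k1 := F.mem_k1.2 (F.comm 144 (by norm_num)).symm

theorem code_mem_k1 {g : ℕ} (hg : g < 1152) (h : mulH g 144 = mulH 144 g) : F.f g ∈ F.k1 :=
  F.mem_k1.2 ((F.commute_iff hg (by norm_num)).2 h)

theorem u1_cube : F.f 144 * F.f 144 * F.f 144 = 1 := F.cube_of_code (by norm_num) (by decide +kernel)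

theorem u1_ne : F.f 144 ≠ 1 := fun h => absurd ((F.eq_one_iff (by norm_num)).1 h) (by norm_num)

theorem k1_invol {y : G} (hy : y ∈ involSet F.k1) (hz : Commute y z) : y = z := by
  obtain ⟨g, hg, rfl⟩ := F.surj y hz
  rcases u1_cent_invol 144 (by decide) ⟨g, hg⟩ ((F.commute_iff hg (by norm_num)).1 (F.mem_k1.1 hy.1))
      ((F.sq_eq_one_iff hg).1 hy.2.1) with h | h <;> simp only at h <;> subst h
  · exact absurd F.f0 hy.2.2
  · exact F.fz

theorem k1_even {y : G} (hy : y ∈ involSet F.k1) : Odd (orderOf (z * y)) := by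
  by_contra h
  rw [Nat.not_odd_iff_even] at h
  obtain ⟨k, k2, k1, kz, ky⟩ := half_power F.centre_sq hy.2.1 h
  have hc := F.k1_invol ⟨pow_mem (mul_mem F.z_mem_k1 hy.1) k, k2, k1⟩ kz
  rw [hc] at ky
  have := F.k1_invol hy ky.symm
  rw [this, F.centre_sq, orderOf_one] at h
  exact absurd h (by decide)

theorem k1_conj {y : G} (hy : y ∈ involSet F.k1) : ∃ k ∈ F.k1, k * z * k⁻¹ = y := by
  obtain ⟨m, hm⟩ := RankOne.exists_sqrt (F.k1_even hy)
  set w := (z * y) ^ m with hw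
  have hwz : z * w * z⁻¹ = w⁻¹ := by
    rw [hw, ← conj_pow, show z * (z * y) * z⁻¹ = (z * y)⁻¹ by
      rw [mul_inv_rev, invol_inv F.centre_sq, invol_inv hy.2.1, ← mul_assoc, F.centre_sq, one_mul], inv_pow]
  refine ⟨w⁻¹, inv_mem (pow_mem (mul_mem F.z_mem_k1 hy.1) m), ?_⟩
  have hwz' : w⁻¹ * z = z * w := by rw [← hwz]; group
  rw [inv_inv, hwz', mul_assoc, hm, ← mul_assoc, F.centre_sq, one_mul]

/-- The data of the odd normal subgroup of the centraliser of `144`. -/
structure OData (F : Frame z) where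
  O : Subgroup G
  le : O ≤ F.k1
  odd : Odd (Nat.card O)
  normal : ∀ g ∈ F.k1, ∀ x ∈ O, g * x * g⁻¹ ∈ O
  u_mem : F.f 144 ∈ O
  inv_mem : ∀ w, w ∈ invSet F.k1 z → w ∈ O
  fixed : ∀ x ∈ O, z * x * z⁻¹ = x → x ∈ zpowers (F.f 144)

theorem exists_odata : Nonempty (OData F) := by
  classical
  haveI : Fact (Nat.Prime 2) := ⟨Nat.prime_two⟩
  set z' : F.k1 := ⟨z, F.z_mem_k1⟩ with hz'
  have ho : orderOf z' = 2 := by rw [← F.orderOf_centre, hz', Subgroup.orderOf_mk]
  obtain ⟨P, hP⟩ := (IsPGroup.of_card (G := zpowers z') (p := 2) (n := 1)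
    (by rw [Nat.card_zpowers, ho, pow_one])).exists_le_sylow
  have hzP : z' ∈ P := hP (mem_zpowers z')
  obtain ⟨N, hNn, hNo, hNc⟩ := Cfsg.Agent.S0215.result P z' ho hzP (by
    intro g hg
    set y := g * z' * g⁻¹ with hy
    have hyI : (y : G) ∈ involSet F.k1 := by
      refine ⟨y.2, ?_, fun e => F.centre_ne ?_⟩
      · have : y * y = 1 := by rw [hy, conj_mul, show z' * z' = 1 from Subtype.ext F.centre_sq, mul_one, mul_inv_cancel]
        exact congrArg Subtype.val this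
      · have : y = 1 := Subtype.ext e
        rw [hy, conj_eq_one_iff] at this
        exact congrArg Subtype.val this
    have hodd : Odd (orderOf ((z' * y : F.k1) : G)) := F.k1_even hyI
    rw [Subgroup.orderOf_coe] at hodd
    obtain ⟨n, hn⟩ := IsPGroup.iff_orderOf.1 P.2 ⟨z' * y, mul_mem hzP hg⟩
    rw [Subgroup.orderOf_mk] at hn
    have h1 : z' * y = 1 := by
      rcases n.eq_zero_or_pos with rfl | hn0
      · rw [pow_zero, orderOf_eq_one_iff] at hn; exact hn
      · rw [hn] at hodd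
        exact absurd hodd (Nat.not_odd_iff_even.2 ((Nat.even_pow' hn0.ne').2 even_two))
    calc y = z' * z' * y := by rw [show z' * z' = 1 from Subtype.ext F.centre_sq, one_mul]
      _ = z' := by rw [mul_assoc, h1, mul_one])
  set M := N.map F.k1.subtype with hM
  have hMn : ∀ g ∈ F.k1, ∀ x ∈ M, g * x * g⁻¹ ∈ M := by
    rintro g hg _ ⟨x, hx, rfl⟩
    exact ⟨⟨g, hg⟩ * x * ⟨g, hg⟩⁻¹, hNn.conj_mem x hx ⟨g, hg⟩, rfl⟩
  have hMle : M ≤ F.k1 := by rintro _ ⟨x, -, rfl⟩; exact x.2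
  have hMo : Odd (Nat.card M) := by rwa [hM, card_map_of_injective Subtype.val_injective]
  set u := F.f 144 with hu
  have hucom : ∀ x ∈ F.k1, Commute x u := fun x hx => F.mem_k1.1 hx
  let O : Subgroup G :=
    { carrier := {x | ∃ n ∈ M, ∃ i : ℤ, x = n * u ^ i}
      one_mem' := ⟨1, one_mem _, 0, by simp⟩
      mul_mem' := by
        rintro _ _ ⟨n, hn, i, rfl⟩ ⟨m, hm, j, rfl⟩
        refine ⟨n * m, mul_mem hn hm, i + j, ?_⟩
        rw [zpow_add, ← mul_assoc, mul_assoc n, ← ((hucom m (hMle hm)).zpow_right i).eq]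
        group
      inv_mem' := by
        rintro _ ⟨n, hn, i, rfl⟩
        exact ⟨n⁻¹, inv_mem hn, -i, by rw [mul_inv_rev, zpow_neg]; exact ((hucom n (hMle hn)).zpow_right i).inv_inv.eq.symm⟩ }
  have hOle : O ≤ F.k1 := by
    rintro _ ⟨n, hn, i, rfl⟩
    exact mul_mem (hMle hn) (zpow_mem (F.code_mem_k1 (by norm_num) rfl) i)
  have hOn : ∀ g ∈ F.k1, ∀ x ∈ O, g * x * g⁻¹ ∈ O := by
    rintro g hg _ ⟨n, hn, i, rfl⟩
    refine ⟨g * n * g⁻¹, hMn g hg n hn, i, ?_⟩
    rw [← conj_mul, conj_eq_iff_commute.2 ((hucom g hg).zpow_right i)]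
  have hOodd : Odd (Nat.card O) := by
    refine odd_card_of_odd_orderOf O ?_
    rintro _ ⟨n, hn, i, rfl⟩
    have hu3 : (u ^ i) ^ 3 = 1 := by
      rw [← zpow_natCast, ← zpow_mul, mul_comm, zpow_mul, zpow_natCast, pow_succ, pow_two, F.u1_cube, one_zpow]
    refine ((show Odd 3 by decide).mul hMo).of_dvd_nat (orderOf_dvd_of_pow_eq_one ?_)
    have hnM : n ^ Nat.card M = 1 := congrArg Subtype.val (pow_card_eq_one' (x := (⟨n, hn⟩ : M)))
    rw [((hucom n (hMle hn)).zpow_right i).mul_pow, pow_mul (u ^ i), hu3, one_pow, mul_one, mul_comm, pow_mul, hnM,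
      one_pow]
  have huO : u ∈ O := ⟨1, one_mem _, 1, by simp⟩
  refine ⟨⟨O, hOle, hOodd, hOn, huO, ?_, ?_⟩⟩
  · rintro w ⟨hw, hwo, hwi⟩
    have h2 : w⁻¹ * w⁻¹ ∈ M := by
      refine ⟨_, hNc ⟨w, hw⟩, ?_⟩
      show z * w * z⁻¹ * w⁻¹ = _
      rw [hwi]
    obtain ⟨m, hm⟩ := RankOne.exists_sqrt hwo
    refine ⟨w, ?_, 0, by simp⟩
    rw [← hm, show w ^ m * w ^ m = ((w⁻¹ * w⁻¹) ^ m)⁻¹ by
      rw [(Commute.refl w⁻¹).mul_pow, inv_pow]; group]
    exact Subgroup.inv_mem _ (pow_mem h2 m)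
  · intro x hx hxz
    have hxz' : Commute x z := (mul_inv_eq_iff_eq_mul.1 hxz).symm
    have hxk := hOle hx
    obtain ⟨g, hg, rfl⟩ := F.surj x hxz'
    have hx3 := cube_eq_one_of_odd (RankOne.odd_orderOf hOodd hx) (F.pow_twentyfour hxz')
    rcases no_odd_normal ⟨g, hg⟩ ((F.commute_iff hg (by norm_num)).1 (F.mem_k1.1 hxk))
        ((F.cube_eq_one_iff hg).1 hx3) with h | h
    · simp only [List.mem_cons, List.not_mem_nil, or_false] at h
      rcases h with rfl | rfl | rfl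
      · rw [F.f0]; exact one_mem _
      · exact mem_zpowers _
      · rw [show (216 : ℕ) = iH 144 by decide +kernel, F.f_iH (by norm_num)]; exact Subgroup.inv_mem _ (mem_zpowers _)
    · exfalso
      simp only [List.any_eq_true, bne_iff_ne] at h
      obtain ⟨q, hq, hne⟩ := h
      obtain ⟨hq', hqc, -⟩ := qEight_facts.1 q hq
      refine hne ((F.cube_eq_one_iff (mulH_lt _ _)).1 ?_)
      have he : F.f (mulH g (cjH q g)) = F.f g * (F.f q * F.f g * (F.f q)⁻¹) := by
        rw [F.mul _ _ hg (cjH_lt _ _), F.f_cjH hq' hg]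
      rw [he]
      refine cube_eq_one_of_odd (RankOne.odd_orderOf hOodd (mul_mem hx (hOn _ (F.code_mem_k1 hq' hqc) _ hx)))
        (F.pow_twentyfour ?_)
      exact hxz'.mul_left (((F.comm q hq').mul_left hxz').mul_left (F.comm q hq').inv_left)

end Frame

/-- The centraliser of an element of order three commuting with a four group. -/
theorem Setting.card_uty (S : Setting z₀) {x : G} (hx : UTy x) :
    Nat.card ↥(centralizer ({x} : Set G)) = 972 := by
  obtain ⟨h3, h1, a, b, a2, a1, b2, b1, hab, cab, cax, cbx⟩ := hx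
  obtain ⟨F⟩ := S.exists_frame a2 a1
  obtain ⟨F', -, h150⟩ := F.normalise b2 b1 (fun e => hab e.symm) cab.symm h3 h1 cax.symm cbx.symm
  obtain ⟨C⟩ := S.exists_cycle F'
  have h := C.card_cu_eq S
  rw [Frame.cu] at h
  rcases h150 with e | e
  · rwa [e] at h
  · rw [e] at h
    rw [← h]
    congr 1
    apply congrArg (fun H : Subgroup G => (H : Type _))
    ext y
    rw [mem_centralizer_singleton_iff, mem_centralizer_singleton_iff]
    exact ⟨fun hy => (show Commute y x from hy).inv_right.eq,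
      fun hy => (Commute.inv_right_iff.1 (show Commute y x⁻¹ from hy)).eq⟩

end Cfsg.Agent.U43T
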