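import Cfsg.Agent.Lib.U43T.BTwo

/-!
Centralisers of inverted elements inside the odd normal subgroup of the centraliser of `144`.
-/

set_option autoImplicit false
set_option linter.unusedSectionVars false

namespace Cfsg.Agent.U43T

open Subgroup

variable {G : Type*} [Group G] [Finite G] {z z₀ : G}

namespace Frame.OData

variable {F : Frame z} (D : F.OData)

/-- The centraliser of `v` in the odd normal subgroup. -/
def cR (D : F.OData) (v : G) : Subgroup G := D.O ⊓ centralizer ({v} : Set G)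

theorem mem_cR {v x : G} : x ∈ D.cR v ↔ x ∈ D.O ∧ Commute x v := by
  rw [cR, mem_inf, mem_centralizer_singleton_iff]; rfl

include D in
theorem jset_not_central (S : Setting z₀) {v : G} (hv : v ∈ D.jset) (hv1 : v ≠ 1) :
    ∃ x ∈ D.O, ¬ Commute x v := by
  by_contra h
  push Not at h
  obtain ⟨i, hi⟩ := D.centre_O S hv.1 fun x hx => (h x hx).symm
  have h2 := hv.2
  rw [← hi, conj_eq_iff_commute.2 ((F.comm 144 (by norm_num)).symm.zpow_right i)] at h2
  exact hv1 (RankOne.sq_inj (RankOne.odd_orderOf D.odd hv.1) (by simp)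
    (by rw [← hi, one_mul]; exact mul_eq_one_iff_eq_inv.2 h2))

include D in
theorem card_cR (S : Setting z₀) {v : G} (hv : v ∈ D.jset) (hv1 : v ≠ 1) : Nat.card (D.cR v) = 81 := by
  obtain ⟨x, hx, hxv⟩ := D.jset_not_central S hv hv1
  have h := card_eq_orbit D.O v
  rw [D.card_O S] at h
  have h3 := D.dsplit.orbit_le_three hv.1
  have h2 : 2 ≤ {y | ∃ q ∈ D.O, q * v * q⁻¹ = y}.ncard := by
    have hsub : ({v, x * v * x⁻¹} : Set G) ⊆ {y | ∃ q ∈ D.O, q * v * q⁻¹ = y} :=
      Set.insert_subset_iff.2 ⟨⟨1, one_mem _, by simp⟩, Set.singleton_subset_iff.2 ⟨x, hx, rfl⟩⟩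
    have h' := Set.ncard_le_ncard hsub (Set.toFinite _)
    rwa [Set.ncard_pair (fun e => hxv (conj_eq_iff_commute.1 e.symm))] at h'
  change 243 = Nat.card (D.cR v) * _ at h
  interval_cases hk : {y | ∃ q ∈ D.O, q * v * q⁻¹ = y}.ncard <;> omega

include D in
theorem cR_not_comm (S : Setting z₀) {v : G} (hv : v ∈ D.jset) (hv1 : v ≠ 1) :
    ∃ r ∈ D.cR v, ∃ s ∈ D.cR v, ¬ Commute r s := by
  by_contra hab
  push Not at hab
  obtain ⟨g, hg, hgR⟩ : ∃ g ∈ D.O, g ∉ D.cR v := by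
    by_contra h
    push Not at h
    have := card_le_of_le (h : D.O ≤ D.cR v)
    rw [D.card_O S, D.card_cR S hv hv1] at this
    omega
  -- the centraliser of `g` in the abelian group is central
  have horb : {y | ∃ q ∈ D.cR v, q * g * q⁻¹ = y}.ncard ≤ 3 :=
    le_trans (Set.ncard_le_ncard (t := {y | ∃ q ∈ D.O, q * g * q⁻¹ = y})
      (by rintro y ⟨q, hq, e⟩; exact ⟨q, (D.mem_cR.1 hq).1, e⟩) (Set.toFinite _)) (D.dsplit.orbit_le_three hg)
  have h := card_eq_orbit (D.cR v) g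
  rw [D.card_cR S hv hv1] at h
  have h27 : 27 ≤ Nat.card ↥(D.cR v ⊓ centralizer ({g} : Set G)) := by
    by_contra hlt
    have := Nat.mul_le_mul (show Nat.card ↥(D.cR v ⊓ centralizer ({g} : Set G)) ≤ 26 by omega) horb
    omega
  have hle : D.cR v ⊓ centralizer ({g} : Set G) ≤ zpowers (F.f 144) := by
    intro c hc
    obtain ⟨hcR, hcg⟩ := mem_inf.1 hc
    replace hcg : Commute c g := mem_centralizer_singleton_iff.1 hcg
    refine D.centre_O S (D.mem_cR.1 hcR).1 ?_
    set X := D.O ⊓ centralizer ({c} : Set G) with hX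
    have hRX : D.cR v ≤ X := fun r hr =>
      mem_inf.2 ⟨(D.mem_cR.1 hr).1, mem_centralizer_singleton_iff.2 (hab r hr c hcR)⟩
    have hgX : g ∈ X := mem_inf.2 ⟨hg, mem_centralizer_singleton_iff.2 hcg.symm⟩
    have hlt : 81 < Nat.card X := by
      rw [← D.card_cR S hv hv1]
      refine lt_of_le_of_ne (card_le_of_le hRX) fun e => hgR ?_
      rw [eq_of_le_of_card_ge hRX e.ge]; exact hgX
    have hdvd : Nat.card X ∣ 3 ^ 5 := by
      have := card_dvd_of_le (inf_le_left : X ≤ D.O)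
      rw [D.card_O S] at this
      exact this
    obtain ⟨t, ht, e⟩ := (Nat.dvd_prime_pow Nat.prime_three).1 hdvd
    rw [e] at hlt
    have ht5 : t = 5 := by
      by_contra hne
      have := Nat.pow_le_pow_right (show 0 < 3 by norm_num) (show t ≤ 4 by omega)
      omega
    have hXO : X = D.O := eq_of_le_of_card_ge inf_le_left (by rw [e, ht5, D.card_O S]; norm_num)
    intro x hx
    rw [← hXO] at hx
    exact (show Commute x c from mem_centralizer_singleton_iff.1 (mem_inf.1 hx).2).symm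
  have := (card_le_of_le hle).trans_eq ((Nat.card_zpowers _).trans (orderOf_cube F.u1_cube F.u1_ne))
  omega

include D in
/-- The centre of the centraliser. -/
theorem cR_centre (S : Setting z₀) {v c : G} (hv : v ∈ D.jset) (hv1 : v ≠ 1) (hc : c ∈ D.cR v)
    (hcc : ∀ x ∈ D.cR v, Commute c x) : ∃ i j : ℤ, c = F.f 144 ^ i * v ^ j := by
  obtain ⟨r, hr, s, hs, hrs⟩ := D.cR_not_comm S hv hv1
  set u := F.f 144 with hu
  set Z := D.cR v ⊓ centralizer (D.cR v : Set G) with hZ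
  have hmem : ∀ {x}, x ∈ Z ↔ x ∈ D.cR v ∧ ∀ y ∈ D.cR v, Commute x y := fun {x} =>
    mem_inf.trans (and_congr_right fun _ =>
      ⟨fun h y hy => (mem_centralizer_iff.1 h y hy).symm, fun h => mem_centralizer_iff.2 fun y hy => (h y hy).symm⟩)
  have huZ : u ∈ Z := hmem.2 ⟨D.mem_cR.2 ⟨D.u_mem, (D.dsplit.cent v hv.1).symm⟩,
    fun y hy => (D.dsplit.cent y (D.mem_cR.1 hy).1).symm⟩
  have hvZ : v ∈ Z := hmem.2 ⟨D.mem_cR.2 ⟨hv.1, Commute.refl v⟩, fun y hy => (D.mem_cR.1 hy).2.symm⟩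
  have huo : orderOf u = 3 := orderOf_cube F.u1_cube F.u1_ne
  -- at most nine central elements
  have h9 : Nat.card Z ≤ 9 := by
    set Y := D.cR v ⊓ centralizer ({r} : Set G) with hY
    have hZY : Z ≤ Y := fun x hx => mem_inf.2 ⟨(hmem.1 hx).1, mem_centralizer_singleton_iff.2 ((hmem.1 hx).2 r hr)⟩
    have hlt1 : Nat.card Z < Nat.card Y := by
      refine lt_of_le_of_ne (card_le_of_le hZY) fun e => hrs ?_
      have hrY : r ∈ Y := mem_inf.2 ⟨hr, mem_centralizer_singleton_iff.2 rfl⟩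
      rw [← eq_of_le_of_card_ge hZY e.ge] at hrY
      exact (hmem.1 hrY).2 s hs
    have hlt2 : Nat.card Y < 81 := by
      rw [← D.card_cR S hv hv1]
      refine lt_of_le_of_ne (card_le_of_le inf_le_left) fun e => hrs ?_
      have hsY : s ∈ Y := by
        have heq : Y = D.cR v := eq_of_le_of_card_ge (inf_le_left : Y ≤ D.cR v) e.ge
        rw [heq]; exact hs
      exact (show Commute s r from mem_centralizer_singleton_iff.1 (mem_inf.1 hsY).2).symm
    have d1 : Nat.card Z ∣ 3 ^ 4 := by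
      have := card_dvd_of_le (inf_le_left : Z ≤ D.cR v)
      rwa [D.card_cR S hv hv1] at this
    have d2 : Nat.card Y ∣ 3 ^ 4 := by
      have := card_dvd_of_le (inf_le_left : Y ≤ D.cR v)
      rwa [D.card_cR S hv hv1] at this
    obtain ⟨a, ha, ea⟩ := (Nat.dvd_prime_pow Nat.prime_three).1 d1
    obtain ⟨b, hb, eb⟩ := (Nat.dvd_prime_pow Nat.prime_three).1 d2
    rw [ea, eb] at hlt1
    rw [eb] at hlt2
    have hab := (Nat.pow_lt_pow_iff_right (show 1 < 3 by norm_num)).1 hlt1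
    have hb4 := (Nat.pow_lt_pow_iff_right (show 1 < 3 by norm_num)).1
      (lt_of_lt_of_eq hlt2 (show (81 : ℕ) = 3 ^ 4 by norm_num))
    rw [ea]
    calc 3 ^ a ≤ 3 ^ 2 := Nat.pow_le_pow_right (by norm_num) (by omega)
      _ = 9 := by norm_num
  have hvi : z * v * z⁻¹ = v⁻¹ := hv.2
  have huv : Commute u v := (D.dsplit.cent v hv.1).symm
  have hle : ∀ x, (∃ i j : ℤ, x = u ^ i * v ^ j) → x ∈ Z := by
    rintro x ⟨i, j, rfl⟩
    exact mul_mem (zpow_mem huZ i) (zpow_mem hvZ j)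
  have hv3 : orderOf v ≠ 1 := fun e => hv1 (orderOf_eq_one_iff.1 e)
  set φ : Fin 3 × Fin 3 → G := fun p => u ^ (p.1 : ℕ) * v ^ (p.2 : ℕ) with hφ
  have hvord : 3 ≤ orderOf v := by
    have := RankOne.odd_orderOf D.odd hv.1
    rcases this with ⟨k, hk⟩
    omega
  have hinj : Function.Injective φ := by
    rintro ⟨a, b⟩ ⟨a', b'⟩ e
    simp only [hφ] at e
    have hfix : z * (v ^ ((b : ℤ) - b')) * z⁻¹ = v ^ ((b : ℤ) - b') := by
      have e2 : v ^ ((b : ℤ) - b') = u ^ ((a' : ℤ) - a) := by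
        have h1 : v ^ (b : ℕ) = (u ^ (a : ℕ))⁻¹ * (u ^ (a' : ℕ) * v ^ (b' : ℕ)) := by rw [← e]; group
        rw [zpow_sub, zpow_natCast, zpow_natCast, h1, zpow_sub, zpow_natCast, zpow_natCast,
          (((Commute.refl u).pow_pow (a' : ℕ) (a : ℕ)).inv_right).eq]
        group
      rw [e2]
      exact conj_eq_iff_commute.2 ((F.comm 144 (by norm_num)).symm.zpow_right _)
    rw [← conj_zpow, hvi, inv_zpow] at hfix
    have h1 : v ^ ((b : ℤ) - b') = 1 := by
      have hodd := (RankOne.odd_orderOf D.odd hv.1).of_dvd_nat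
        (orderOf_dvd_of_mem_zpowers (zpow_mem (mem_zpowers v) ((b : ℤ) - b')))
      exact RankOne.sq_inj hodd (by simp) (by rw [one_mul]; exact mul_eq_one_iff_eq_inv.2 hfix.symm)
    have hd := orderOf_dvd_iff_zpow_eq_one.2 h1
    have hbb : (b : ℕ) = b' := by
      have hb2 := b.2; have hb2' := b'.2
      by_contra hne
      have h0 : (b : ℤ) - b' ≠ 0 := by omega
      have := Int.le_of_dvd (abs_pos.2 h0) ((dvd_abs _ _).2 hd)
      rcases abs_cases ((b : ℤ) - b') with h' | h' <;> omega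
    rw [hbb] at e
    exact Prod.ext (Cycle.fin_three_pow F.u1_cube F.u1_ne (mul_right_cancel e)) (Fin.ext hbb)
  have hrange : Set.range φ = (Z : Set G) := by
    refine Set.eq_of_subset_of_ncard_le ?_ ?_ (Set.toFinite _)
    · rintro _ ⟨p, rfl⟩
      exact hle _ ⟨(p.1 : ℕ), (p.2 : ℕ), by simp [hφ]⟩
    · rw [Set.ncard_range_of_injective hinj]
      refine ((Nat.card_coe_set_eq _).symm.trans_le h9).trans ?_
      simp [Nat.card_eq_fintype_card]
  obtain ⟨⟨a, b⟩, hab⟩ : c ∈ Set.range φ := hrange ▸ hmem.2 ⟨hc, hcc⟩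
  exact ⟨(a : ℕ), (b : ℕ), by simp only [hφ] at hab; rw [zpow_natCast, zpow_natCast, hab]⟩

include D in
/-- Odd elements normalising the centraliser fix `144`. -/
theorem cR_norm (S : Setting z₀) {v g : G} (hv : v ∈ D.jset) (hv1 : v ≠ 1) (ho : Odd (orderOf g))
    (hg : ∀ x ∈ D.cR v, g * x * g⁻¹ ∈ D.cR v) : Commute g (F.f 144) := by
  obtain ⟨r, hr, s, hs, hrs⟩ := D.cR_not_comm S hv hv1
  set u := F.f 144 with hu
  have hu3 : u * u * u = 1 := F.u1_cube
  have hc : r * s * r⁻¹ * s⁻¹ ≠ 1 := fun e => hrs (conj_eq_iff_commute.1 (mul_inv_eq_one.1 e))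
  obtain ⟨i, hi⟩ := D.dsplit.comm_mem (D.mem_cR.1 hr).1 (D.mem_cR.1 hs).1
  obtain ⟨j, hj⟩ := D.dsplit.comm_mem (D.mem_cR.1 (hg r hr)).1 (D.mem_cR.1 (hg s hs)).1
  dsimp only at hi hj
  have hconj : g * u ^ i * g⁻¹ = u ^ j := by rw [hi, hj]; group
  have hmod : ∀ k : ℤ, u ^ k = 1 ∨ u ^ k = u ∨ u ^ k = u⁻¹ := by
    intro k
    have e : u ^ k = u ^ (k % 3) := by
      conv_lhs => rw [← Int.ediv_mul_add_emod k 3, zpow_add, mul_comm, zpow_mul,
        show u ^ (3 : ℤ) = 1 by rw [show (3 : ℤ) = ((3 : ℕ) : ℤ) by rfl, zpow_natCast, pow_succ, pow_two, hu3], one_zpow, one_mul]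
    rw [e]
    rcases (show k % 3 = 0 ∨ k % 3 = 1 ∨ k % 3 = 2 by omega) with h | h | h <;> rw [h]
    · exact Or.inl (zpow_zero u)
    · exact Or.inr (Or.inl (zpow_one u))
    · refine Or.inr (Or.inr (eq_inv_of_mul_eq_one_left ?_))
      rw [show (2 : ℤ) = ((2 : ℕ) : ℤ) by rfl, zpow_natCast, pow_two, hu3]
  have hcase : g * u * g⁻¹ = u ∨ g * u * g⁻¹ = u⁻¹ := by
    rcases hmod i with h | h | h
    · exact absurd (hi ▸ h) hc
    · rw [h] at hconj
      rcases hmod j with h' | h' | h' <;> rw [h'] at hconj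
      · exact absurd (conj_eq_one_iff.1 hconj) F.u1_ne
      · exact Or.inl hconj
      · exact Or.inr hconj
    · rw [h, ← conj_inv] at hconj
      rcases hmod j with h' | h' | h' <;> rw [h'] at hconj
      · exact absurd (conj_eq_one_iff.1 (inv_eq_one.1 hconj)) F.u1_ne
      · exact Or.inr (inv_eq_iff_eq_inv.1 hconj)
      · exact Or.inl (inv_injective hconj)
  rcases hcase with h | h
  · exact conj_eq_iff_commute.1 h
  · exfalso
    have h2 : Commute (g * g) u := conj_eq_iff_commute.1 (by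
      rw [show g * g * u * (g * g)⁻¹ = g * (g * u * g⁻¹) * g⁻¹ by group, h, ← conj_inv, h, inv_inv])
    obtain ⟨m, hm⟩ := RankOne.exists_sqrt ho
    have h3 : Commute g u := by rw [← hm, ← (Commute.refl g).mul_pow]; exact h2.pow_left m
    rw [conj_eq_iff_commute.2 h3] at h
    exact F.u1_ne (RankOne.sq_inj (RankOne.odd_orderOf D.odd D.u_mem) (by simp)
      (by rw [one_mul]; exact mul_eq_one_iff_eq_inv.2 h))

end Frame.OData

end Cfsg.Agent.U43T
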