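import Cfsg.Agent.Lib.U43T.Api

/-!
Finite facts about the model used to classify the real elements with non-trivial centraliser in it.
-/

set_option autoImplicit false

namespace Cfsg.Agent.U43T

/-- Representatives of the subgroups conjugate to that of `144`, first factor. -/
def loList : List ℕ := [3, 4, 6, 14]

/-- Representatives of the subgroups conjugate to that of `144`, second factor. -/
def hiList : List ℕ := [60, 72, 96, 144]

/-- The conjugates of `144`. -/
def uList : List ℕ := [3, 4, 5, 6, 9, 14, 20, 22, 60, 72, 96, 120, 144, 204, 216, 252]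

theorem uList_facts : (∀ a ∈ uList, a < 1152 ∧ a ≠ 0 ∧ (a ∈ loList ∨ a ∈ hiList ∨ iH a ∈ loList ∨ iH a ∈ hiList)) ∧
    (∀ a ∈ loList, a ∈ uList) ∧ (∀ a ∈ hiList, a ∈ uList) ∧ loList.Nodup ∧ hiList.Nodup ∧ 144 ∈ uList := by
  decide +kernel

theorem uList_conj : ∀ a ∈ uList, ([580, 865, 577, 576, 864, 869, 868, 581, 408, 96, 312, 24, 0, 384, 288, 120].any
    fun k => cjH k 144 == a) = true := by decide +kernel

theorem uList_closed : ∀ k : Fin 1152, (uList.contains (cjH k 144)) = true := by decide +kernel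

theorem three_classes : ∀ g : Fin 1152, mulH (mulH g g) g = 0 → (g : ℕ) ≠ 0 → uList.contains (g : ℕ) = true ∨
    ((List.range 1152).any fun k => cjH k g == 150 || cjH k g == 153) = true := by decide +kernel

theorem outer_or_none : ∀ s : Fin 1152, sqH s = 0 → (s : ℕ) ≠ 0 → (s : ℕ) ≠ 12 →
    ((List.range 1152).any fun y => y != 0 && mulH (mulH y y) y == 0 && mulH y s == mulH s y) = true ∨
      ((List.range 1152).any fun x => x != 0 && mulH (mulH x x) x == 0 && cjH s x == iH x) = false := by
  decide +kernel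

theorem inverted_576 : ∀ x : Fin 1152, mulH (mulH x x) x = 0 → (x : ℕ) ≠ 0 → cjH 576 x = iH x →
    ((List.range 1152).any fun y =>
      y != 0 && mulH (mulH y y) y == 0 && mulH y 576 == mulH 576 y && mulH y x == mulH x y) = true := by
  decide +kernel

theorem pair_gen : ∀ l ∈ [loList, hiList], ∀ a ∈ l, ∀ b ∈ l, a ≠ b →
    (let h := mulH a b; let h' := mulH a (iH b)
     mulH h h == 12 || mulH (mulH h h) h == 12 || mulH h' h' == 12 || mulH (mulH h' h') h' == 12) = true := by
  decide +kernel

theorem pair_conj : ∀ a ∈ loList, ∀ b ∈ hiList,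
    ([74, 50, 26, 2, 73, 49, 25, 1, 72, 48, 24, 0, 75, 51, 27, 3].any fun k =>
      (cjH k b == 144 || cjH k b == 216) && (cjH k a == 6 || cjH k a == 9)) = true := by decide +kernel

theorem uList_pair : ∀ a ∈ uList, ∀ b ∈ uList, mulH a b = mulH b a → b = a ∨ b = iH a ∨
    ((a ∈ loList ∨ iH a ∈ loList) ∧ (b ∈ hiList ∨ iH b ∈ hiList)) ∨
    ((b ∈ loList ∨ iH b ∈ loList) ∧ (a ∈ hiList ∨ iH a ∈ hiList)) := by decide +kernel

theorem uList_noncomm : ∀ a ∈ uList, ∀ b ∈ uList, mulH a b ≠ mulH b a →
    (let h := mulH a b; let h' := mulH a (iH b)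
     mulH h h == 12 || mulH (mulH h h) h == 12 || mulH h' h' == 12 || mulH (mulH h' h') h' == 12) = true := by
  decide +kernel

end Cfsg.Agent.U43T
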