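import Cfsg.Agent.Lib.U43T.DOne
import Cfsg.Agent.Lib.U43T.CCodes

/-!
Real elements with non-trivial centraliser in the centraliser of the involution.
-/

set_option autoImplicit false
set_option linter.unusedSectionVars false

namespace Cfsg.Agent.U43T

open Subgroup

variable {G : Type*} [Group G] [Finite G] {z z₀ : G}

/-- The non-trivial elements of odd order inverted by `z`. -/
def realSet (z : G) : Set G := {w | Odd (orderOf w) ∧ z * w * z⁻¹ = w⁻¹ ∧ w ≠ 1}

theorem real_not_fixed {w : G} (hw : w ∈ realSet z) : ¬ Commute z w := by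
  intro h
  have h2 := hw.2.1
  rw [conj_eq_iff_commute.2 h] at h2
  exact hw.2.2 (RankOne.sq_inj hw.1 (by simp) (by rw [one_mul]; exact mul_eq_one_iff_eq_inv.2 h2))

namespace Frame

variable (F : Frame z)

theorem real_esub (S : Setting z₀) {w : G} (hw : w ∈ realSet z) (hc : Commute w (F.f 150)) : w ∈ F.esub := by
  obtain ⟨C⟩ := S.exists_cycle F
  have heq : F.lu = F.cu :=
    eq_of_le_of_card_ge F.lu_le_cu (by rw [C.card_cu_eq S, C.card_lu S])
  exact C.inv_lu S ⟨heq ▸ F.mem_cu.2 hc, hw.1, hw.2.1⟩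

/-- The frame at the same centre in which the code `144` has the given value. -/
theorem exists_shift {a : ℕ} (ha : a ∈ uList) : ∃ F' : Frame z, F'.f 144 = F.f a ∧
    ∃ k, k < 1152 ∧ ∀ g, F'.f g = F.f k * F.f g * (F.f k)⁻¹ := by
  have h := uList_conj a ha
  simp only [List.any_eq_true, beq_iff_eq] at h
  obtain ⟨k, hk, e⟩ := h
  have hk' : k < 1152 := by simp only [List.mem_cons, List.not_mem_nil, or_false] at hk; omega
  refine ⟨F.shift (F.f k) (F.comm k hk'), ?_, k, hk', fun g => F.shift_f _ _ g⟩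
  rw [F.shift_f, ← e, F.f_cjH hk' (by norm_num)]

theorem real_pow_z {w : G} (hw : w ∈ realSet z) {a b : ℕ} (ha : a < 1152) (hb : b < 1152)
    (h : (let h := mulH a b; let h' := mulH a (iH b)
      mulH h h == 12 || mulH (mulH h h) h == 12 || mulH h' h' == 12 || mulH (mulH h' h') h' == 12) = true)
    (hwa : Commute w (F.f a)) (hwb : Commute w (F.f b)) : False := by
  refine real_not_fixed hw (Commute.symm ?_)
  have h1 : Commute w (F.f (mulH a b)) := by rw [F.mul _ _ ha hb]; exact hwa.mul_right hwb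
  have h2 : Commute w (F.f (mulH a (iH b))) := by
    rw [F.mul _ _ ha (iH_lt b), F.f_iH hb]; exact hwa.mul_right hwb.inv_right
  simp only [Bool.or_eq_true, beq_iff_eq] at h
  rcases h with ((h | h) | h) | h <;>
    (suffices hh : Commute w (F.f 12) by rwa [F.fz] at hh) <;> rw [← h]
  · rw [F.mul _ _ (mulH_lt _ _) (mulH_lt _ _)]; exact h1.mul_right h1
  · rw [F.mul _ _ (mulH_lt _ _) (mulH_lt _ _), F.mul _ _ (mulH_lt _ _) (mulH_lt _ _)]
    exact (h1.mul_right h1).mul_right h1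
  · rw [F.mul _ _ (mulH_lt _ _) (mulH_lt _ _)]; exact h2.mul_right h2
  · rw [F.mul _ _ (mulH_lt _ _) (mulH_lt _ _), F.mul _ _ (mulH_lt _ _) (mulH_lt _ _)]
    exact (h2.mul_right h2).mul_right h2

theorem real_three (S : Setting z₀) {w : G} (hw : w ∈ realSet z) {g : ℕ} (hg : g < 1152)
    (h3 : mulH (mulH g g) g = 0) (h0 : g ≠ 0) (hwg : Commute w (F.f g)) (hu : g ∉ uList) :
    UTy w ∧ ∃ a ∈ uList, Commute w (F.f a) := by
  rcases three_classes ⟨g, hg⟩ h3 h0 with h | h
  · exact absurd (List.contains_iff_mem.1 h) hu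
  simp only [List.any_eq_true, List.mem_range, Bool.or_eq_true, beq_iff_eq] at h
  obtain ⟨k, hk, hcase⟩ := h
  have key : ∀ F0 : Frame z, F0.f 150 = F.f (cjH k g) → F0.f 144 = F.f 144 →
      UTy w ∧ ∃ a ∈ uList, Commute w (F.f a) := by
    intro F0 e150 e144
    set F2 := F0.shift (F.f k)⁻¹ (F.comm k hk).inv_left with hF2
    have e1 : F2.f 150 = F.f g := by rw [hF2, F0.shift_f, e150, F.f_cjH hk hg]; group
    have hwE : w ∈ F2.esub := F2.real_esub S hw (by rw [e1]; exact hwg)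
    obtain ⟨C⟩ := S.exists_cycle F2
    refine ⟨C.inverted_uty S hwE hw.2.1 hw.2.2, cjH (iH k) 144,
      List.contains_iff_mem.1 (uList_closed ⟨iH k, iH_lt k⟩), ?_⟩
    have e2 : F2.f 144 = F.f (cjH (iH k) 144) := by
      rw [hF2, F0.shift_f, e144, F.f_cjH (iH_lt k) (by norm_num), F.f_iH hk]
    rw [← e2]
    exact F2.cp_comm_psub (F2.mem_esub.1 hwE).1 ⟨144, by decide, rfl⟩
  rcases hcase with e | e
  · exact key F (by rw [e]) rfl
  · exact key F.twist (by rw [F.twist_150, e]) (by rw [F.twist_f, twist_vals.2.2.1])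

include F in
theorem axis_three (S : Setting z₀) {w c : G} (hw : w ∈ realSet z) (hc : c * c = 1) (hc1 : c ≠ 1)
    (hcz : Commute c z) (hcw : Commute c w) :
    ∃ y : G, y * y * y = 1 ∧ y ≠ 1 ∧ Commute y z ∧ Commute y w ∧ Commute y c := by
  have hne : c ≠ z := fun e => real_not_fixed hw (e ▸ hcw)
  obtain ⟨Fc⟩ := S.exists_frame hc hc1
  obtain ⟨s, hs, hse⟩ := Fc.surj z hcz.symm
  obtain ⟨x, hx, hxe⟩ := Fc.surj w hcw.symm
  have hs2 : sqH s = 0 := (Fc.sq_eq_one_iff hs).1 (by rw [hse]; exact F.centre_sq)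
  have hs0 : s ≠ 0 := fun h => F.centre_ne (by rw [← hse, h, Fc.f0])
  have hs12 : s ≠ 12 := fun h => hne (by rw [← hse, h, Fc.fz])
  have hw3 : w * w * w = 1 := cube_eq_one_of_odd hw.1 (Fc.pow_twentyfour hcw.symm)
  have hx3 : mulH (mulH x x) x = 0 := (Fc.cube_eq_one_iff hx).1 (by rw [hxe]; exact hw3)
  have hx0 : x ≠ 0 := fun h => hw.2.2 (by rw [← hxe, h, Fc.f0])
  have hinv : cjH s x = iH x := Fc.inj _ _ (cjH_lt _ _) (iH_lt _)
    (by rw [Fc.f_cjH hs hx, Fc.f_iH hx, hse, hxe]; exact hw.2.1)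
  rcases outer_or_none ⟨s, hs⟩ hs2 hs0 hs12 with h | h
  swap
  · have : ((List.range 1152).any fun x => x != 0 && mulH (mulH x x) x == 0 && cjH s x == iH x) = true :=
      List.any_eq_true.2 ⟨x, List.mem_range.2 hx, by simp [hx0, hx3, hinv]⟩
    simp only at h
    rw [this] at h
    exact absurd h (by decide)
  simp only [List.any_eq_true, List.mem_range, Bool.and_eq_true, bne_iff_ne, beq_iff_eq] at h
  obtain ⟨y0, hy0, ⟨hy00, hy03⟩, hy0s⟩ := h
  obtain ⟨Fn, hFn, -⟩ := Fc.normalise (s := z) (x := Fc.f y0) F.centre_sq F.centre_ne (fun e => hne e.symm)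
    hcz.symm (Fc.cube_of_code hy0 hy03) (fun e => hy00 ((Fc.eq_one_iff hy0).1 e)) (Fc.comm y0 hy0)
    (hse ▸ (Fc.commute_iff hy0 hs).2 hy0s)
  obtain ⟨x', hx', hxe'⟩ := Fn.surj w hcw.symm
  have hx3' : mulH (mulH x' x') x' = 0 := (Fn.cube_eq_one_iff hx').1 (by rw [hxe']; exact hw3)
  have hx0' : x' ≠ 0 := fun h => hw.2.2 (by rw [← hxe', h, Fn.f0])
  have hinv' : cjH 576 x' = iH x' := Fn.inj _ _ (cjH_lt _ _) (iH_lt _)
    (by rw [Fn.f_cjH (by norm_num) hx', Fn.f_iH hx', hFn, hxe']; exact hw.2.1)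
  have h := inverted_576 ⟨x', hx'⟩ hx3' hx0' hinv'
  simp only [List.any_eq_true, List.mem_range, Bool.and_eq_true, bne_iff_ne, beq_iff_eq] at h
  obtain ⟨y, hy, ⟨⟨hy0', hy3⟩, hys⟩, hyx⟩ := h
  refine ⟨Fn.f y, Fn.cube_of_code hy hy3, fun e => hy0' ((Fn.eq_one_iff hy).1 e), ?_, ?_, Fn.comm y hy⟩
  · rw [← hFn]; exact (Fn.commute_iff hy (by norm_num)).2 hys
  · rw [← hxe']; exact (Fn.commute_iff hy hx').2 hyx

include F in
theorem fixed_three (S : Setting z₀) {w h : G} (hw : w ∈ realSet z) (hz : Commute h z) (hh : Commute h w)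
    (h1 : h ≠ 1) :
    ∃ y : G, y * y * y = 1 ∧ y ≠ 1 ∧ Commute y z ∧ Commute y w ∧
      (Odd (orderOf h) → y = h) ∧ (Even (orderOf h) → ∃ c, c * c = 1 ∧ c ≠ 1 ∧ c ≠ z ∧ Commute c z ∧ Commute y c) := by
  by_cases he : Even (orderOf h)
  · obtain ⟨k, hk⟩ := he
    have hc2 : h ^ k * h ^ k = 1 := by rw [← pow_add, ← hk, pow_orderOf_eq_one]
    have hpos := orderOf_pos h
    have hc1 : h ^ k ≠ 1 := pow_ne_one_of_lt_orderOf (by omega) (by omega)
    obtain ⟨y, h3, y1, yz, yw, yc⟩ := F.axis_three S hw hc2 hc1 (hz.pow_left k) (hh.pow_left k)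
    exact ⟨y, h3, y1, yz, yw, fun ho => absurd ⟨k, hk⟩ (Nat.not_even_iff_odd.2 ho),
      fun _ => ⟨_, hc2, hc1, fun e => real_not_fixed hw (e ▸ hh.pow_left k), hz.pow_left k, yc⟩⟩
  · have ho := Nat.not_even_iff_odd.1 he
    exact ⟨h, cube_eq_one_of_odd ho (F.pow_twentyfour hz), h1, hz, hh, fun _ => rfl, fun h' => absurd h' he⟩

/-- Real elements with non-trivial centraliser in the centraliser of `z` commute with a conjugate of `144`. -/
theorem real_cases (S : Setting z₀) {w h : G} (hw : w ∈ realSet z) (hz : Commute h z) (hh : Commute h w)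
    (h1 : h ≠ 1) : ∃ a ∈ uList, Commute w (F.f a) := by
  obtain ⟨y, y3, y1, yz, yw, -, -⟩ := F.fixed_three S hw hz hh h1
  obtain ⟨g, hg, rfl⟩ := F.surj y yz
  by_cases hu : g ∈ uList
  · exact ⟨g, hu, yw.symm⟩
  · exact (F.real_three S hw hg ((F.cube_eq_one_iff hg).1 y3) (fun e => y1 ((F.eq_one_iff hg).2 e)) yw.symm hu).2

theorem code_inv_pow {a : ℕ} (ha : a < 1152) {w : G} (h : Commute w (F.f a)) : Commute w (F.f (iH a)) := by
  rw [F.f_iH ha]; exact h.inv_right

theorem real_pair (S : Setting z₀) {w : G} (hw : w ∈ realSet z) {a b : ℕ} (ha : a ∈ loList) (hb : b ∈ hiList)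
    (hwa : Commute w (F.f a)) (hwb : Commute w (F.f b)) :
    ∃ k, k < 1152 ∧ (cjH k b = 144 ∨ cjH k b = 216) ∧ (cjH k a = 6 ∨ cjH k a = 9) ∧
      F.f k * w * (F.f k)⁻¹ ∈ F.esub := by
  have h := pair_conj a ha b hb
  simp only [List.any_eq_true, Bool.and_eq_true, Bool.or_eq_true, beq_iff_eq] at h
  obtain ⟨k, hk, hb', ha'⟩ := h
  have hk' : k < 1152 := by simp only [List.mem_cons, List.not_mem_nil, or_false] at hk; omega
  refine ⟨k, hk', hb', ha', F.mem_esub.2 ⟨F.mem_cp.2 ⟨?_, ?_⟩, ?_⟩⟩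
  · have hc := hwb.map (MulAut.conj (F.f k)).toMonoidHom
    simp only [MulEquiv.coe_toMonoidHom, MulAut.conj_apply] at hc
    rw [← F.f_cjH hk' ((uList_facts.1 b (uList_facts.2.2.1 b hb)).1)] at hc
    rcases hb' with e | e <;> rw [e] at hc
    · exact hc
    · have := F.code_inv_pow (by norm_num) hc
      rwa [show iH 216 = 144 by decide +kernel] at this
  · have hc := hwa.map (MulAut.conj (F.f k)).toMonoidHom
    simp only [MulEquiv.coe_toMonoidHom, MulAut.conj_apply] at hc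
    rw [← F.f_cjH hk' ((uList_facts.1 a (uList_facts.2.1 a ha)).1)] at hc
    rcases ha' with e | e <;> rw [e] at hc
    · exact hc
    · have := F.code_inv_pow (by norm_num) hc
      rwa [show iH 9 = 6 by decide +kernel] at this
  · have e := orderOf_conj' (F.f k) w
    rw [e]; exact hw.1

theorem conj_real {k : ℕ} (hk : k < 1152) {w : G} (hw : w ∈ realSet z) : F.f k * w * (F.f k)⁻¹ ∈ realSet z := by
  refine ⟨by rw [orderOf_conj']; exact hw.1, ?_, fun e => hw.2.2 (conj_eq_one_iff.1 e)⟩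
  have hz := F.comm k hk
  rw [show z * (F.f k * w * (F.f k)⁻¹) * z⁻¹ = (z * F.f k) * w * (z * F.f k)⁻¹ by group, ← hz.eq,
    show F.f k * z * w * (F.f k * z)⁻¹ = F.f k * (z * w * z⁻¹) * (F.f k)⁻¹ by group, hw.2.1, conj_inv]

theorem real_pair_uty (S : Setting z₀) {w : G} (hw : w ∈ realSet z) {a b : ℕ} (ha : a ∈ loList) (hb : b ∈ hiList)
    (hwa : Commute w (F.f a)) (hwb : Commute w (F.f b)) : UTy w := by
  obtain ⟨k, hk, -, -, hE⟩ := F.real_pair S hw ha hb hwa hwb
  obtain ⟨C⟩ := S.exists_cycle F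
  have hw' := F.conj_real hk hw
  have := (C.inverted_uty S hE hw'.2.1 hw'.2.2).map (F.f k)⁻¹
  simpa [mul_assoc] using this

/-- A real element commuting with a conjugate of `144` is of one of two kinds. -/
theorem uty_or_generic (S : Setting z₀) {w : G} (hw : w ∈ realSet z) {a : ℕ} (ha : a ∈ uList)
    (hwa : Commute w (F.f a)) :
    UTy w ∨ ∀ h, Commute h z → Commute h w → h ∈ zpowers (F.f a) := by
  by_contra hne
  push Not at hne
  obtain ⟨hnu, h, hhz, hhw, hmem⟩ := hne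
  obtain ⟨halt, -, hacase⟩ := uList_facts.1 a ha
  have h1 : h ≠ 1 := fun e => hmem (e ▸ one_mem _)
  obtain ⟨y, y3, y1, yz, yw, yodd, yeven⟩ := F.fixed_three S hw hhz hhw h1
  have hy : y ∉ zpowers (F.f a) := by
    by_cases he : Even (orderOf h)
    · obtain ⟨c, c2, c1, cne, cz, yc⟩ := yeven he
      intro hy
      obtain ⟨F', hF', -, -, -⟩ := F.exists_shift ha
      obtain ⟨i, hi⟩ := mem_powers_iff_mem_zpowers.2 hy
      dsimp only at hi
      have hu3 : F.f a * F.f a * F.f a = 1 := hF' ▸ F'.u1_cube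
      rw [← hi, Cycle.pow_mod_three hu3] at yc y1
      have hlt := Nat.mod_lt i (show 0 < 3 by norm_num)
      have hac : Commute (F.f a) c := by
        interval_cases hm : i % 3
        · exact absurd (pow_zero _) y1
        · rwa [pow_one] at yc
        · have h' := yc.mul_left yc
          rw [← pow_add, show F.f a ^ (2 + 2) = F.f a by
            rw [show 2 + 2 = 4 from rfl, Cycle.pow_mod_three hu3, pow_one]] at h'
          exact h'
      rw [← hF'] at hac
      exact cne (F'.k1_invol ⟨F'.mem_k1.2 hac.symm, c2, c1⟩ cz)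
    · rw [yodd (Nat.not_even_iff_odd.1 he)]; exact hmem
  obtain ⟨g, hg, rfl⟩ := F.surj y yz
  by_cases hu : g ∈ uList
  swap
  · exact hnu (F.real_three S hw hg ((F.cube_eq_one_iff hg).1 y3) (fun e => y1 ((F.eq_one_iff hg).2 e)) yw.symm hu).1
  by_cases hc : mulH a g = mulH g a
  swap
  · exact F.real_pow_z hw halt hg (uList_noncomm a ha g hu hc) hwa yw.symm
  rcases uList_pair a ha g hu hc with e | e | ⟨hl, hh⟩ | ⟨hl, hh⟩
  · exact hy (e ▸ mem_zpowers _)
  · rw [e, F.f_iH halt] at hy; exact hy (Subgroup.inv_mem _ (mem_zpowers _))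
  · rcases hl with hl | hl <;> rcases hh with hh | hh
    · exact hnu (F.real_pair_uty S hw hl hh hwa yw.symm)
    · exact hnu (F.real_pair_uty S hw hl hh hwa (F.code_inv_pow hg yw.symm))
    · exact hnu (F.real_pair_uty S hw hl hh (F.code_inv_pow halt hwa) yw.symm)
    · exact hnu (F.real_pair_uty S hw hl hh (F.code_inv_pow halt hwa) (F.code_inv_pow hg yw.symm))
  · rcases hl with hl | hl <;> rcases hh with hh | hh
    · exact hnu (F.real_pair_uty S hw hl hh yw.symm hwa)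
    · exact hnu (F.real_pair_uty S hw hl hh yw.symm (F.code_inv_pow halt hwa))
    · exact hnu (F.real_pair_uty S hw hl hh (F.code_inv_pow hg yw.symm) hwa)
    · exact hnu (F.real_pair_uty S hw hl hh (F.code_inv_pow hg yw.symm) (F.code_inv_pow halt hwa))

/-- The centraliser of a real element of the second kind. -/
theorem generic_centraliser (S : Setting z₀) {w : G} (hw : w ∈ realSet z) {a : ℕ} (ha : a ∈ uList)
    (hwa : Commute w (F.f a)) (hgen : ∀ h, Commute h z → Commute h w → h ∈ zpowers (F.f a)) :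
    Nat.card ↥(centralizer ({w} : Set G)) = 81 ∧ ∀ h, Commute h w → Commute h (F.f a) := by
  obtain ⟨F', hF', -, -, -⟩ := F.exists_shift ha
  rw [← hF'] at hwa hgen ⊢
  obtain ⟨D⟩ := F'.exists_odata
  have hj : w ∈ D.jset := by rw [D.jset_eq]; exact ⟨F'.mem_k1.2 hwa, hw.1, hw.2.1⟩
  have hc := D.generic_cent S hj hw.2.2 hgen
  refine ⟨by rw [hc, D.card_cR S hj hw.2.2], fun h hh => ?_⟩
  have hm : h ∈ centralizer ({w} : Set G) := mem_centralizer_singleton_iff.2 hh
  rw [hc] at hm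
  exact D.dsplit.cent h (D.mem_cR.1 hm).1

end Frame

end Cfsg.Agent.U43T
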