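import Cfsg.Agent.Lib.U43T.SL
import Mathlib.GroupTheory.Sylow

/-!
A central product of two copies of `SL(2,3)` inside a group, with the coding of the model.
-/

set_option autoImplicit false

namespace Cfsg.Agent.U43T

/-- Multiplication in the coded central product. -/
abbrev mulK (g h : ℕ) : ℕ := mulP 0 0 0 g h

/-- The quaternion part. -/
def qList : List ℕ :=
  [0, 1, 7, 11, 12, 13, 19, 23, 24, 25, 31, 35, 36, 37, 43, 47, 168, 169, 175, 179, 180, 181, 187, 191, 264,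
    265, 271, 275, 276, 277, 283, 287]

theorem pk_lt {s t : ℕ} (hs : s < 24) (ht : t < 24) : pk s t < 288 := by
  unfold pk sNeg
  split <;> omega

theorem pk_split {k : ℕ} (hk : k < 288) : pk (k / 24) (k % 24) = k := by
  unfold pk
  rw [if_pos (by omega)]
  omega

theorem mulK_eq {g h : ℕ} (hg : g < 288) (hh : h < 288) :
    mulK g h = pk (sMul (g / 24) (h / 24)) (sMul (g % 24) (h % 24)) := by
  have e1 : g % 288 = g := Nat.mod_eq_of_lt hg
  have e2 : h % 288 = h := Nat.mod_eq_of_lt hh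
  have e3 : g / 288 = 0 := Nat.div_eq_of_lt hg
  have e4 : h / 288 = 0 := Nat.div_eq_of_lt hh
  have e5 : g / 576 = 0 := Nat.div_eq_of_lt (by omega)
  have e6 : h / 576 = 0 := Nat.div_eq_of_lt (by omega)
  simp [mulK, mulP, act1, act2, e1, e2, e3, e4, e5, e6]

/-- Two commuting copies of `SL(2,3)` with the same central involution `z`. -/
structure CP {G : Type*} [Group G] (z : G) where
  f1 : ℕ → G
  f2 : ℕ → G
  mul1 : ∀ s t, s < 24 → t < 24 → f1 (sMul s t) = f1 s * f1 t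
  mul2 : ∀ s t, s < 24 → t < 24 → f2 (sMul s t) = f2 s * f2 t
  comm : ∀ s t, s < 24 → t < 24 → f1 s * f2 t = f2 t * f1 s
  z1 : f1 12 = z
  z2 : f2 12 = z
  inj1 : ∀ s t, s < 24 → t < 24 → f1 s = f1 t → s = t
  inj2 : ∀ s t, s < 24 → t < 24 → f2 s = f2 t → s = t
  meet : ∀ s t, s < 24 → t < 24 → f1 s = f2 t → s = 0 ∨ s = 12

namespace CP

variable {G : Type*} [Group G] {z : G} (C : CP z)

/-- The coded central product. -/
def ι (k : ℕ) : G := C.f1 (k / 24) * C.f2 (k % 24)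

theorem f1_zero : C.f1 0 = 1 := by
  have h := C.mul1 0 0 (by norm_num) (by norm_num)
  rw [show sMul 0 0 = 0 by decide +kernel] at h
  exact mul_left_cancel (a := C.f1 0) (by rw [mul_one]; exact h.symm)

theorem f2_zero : C.f2 0 = 1 := by
  have h := C.mul2 0 0 (by norm_num) (by norm_num)
  rw [show sMul 0 0 = 0 by decide +kernel] at h
  exact mul_left_cancel (a := C.f2 0) (by rw [mul_one]; exact h.symm)

theorem ι_f1 {s : ℕ} (hs : s < 12) : C.ι (24 * s) = C.f1 s := by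
  rw [ι, show 24 * s / 24 = s by omega, show 24 * s % 24 = 0 by omega, f2_zero, mul_one]

theorem ι_f2 {t : ℕ} (ht : t < 24) : C.ι t = C.f2 t := by
  rw [ι, Nat.div_eq_of_lt ht, Nat.mod_eq_of_lt ht, f1_zero, one_mul]

theorem ι_zero : C.ι 0 = 1 := by rw [ι_f2 C (by norm_num), f2_zero]

theorem ι_z : C.ι 12 = z := by rw [ι_f2 C (by norm_num), C.z2]

theorem z_mul_z (C : CP z) : z * z = 1 := by
  have h := C.mul1 12 12 (by norm_num) (by norm_num)
  rw [show sMul 12 12 = 0 by decide +kernel, f1_zero, C.z1] at h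
  exact h.symm

theorem sNeg_eq : ∀ s : Fin 24, sMul 12 s = sNeg s := by decide +kernel

theorem f1_neg {s : ℕ} (hs : s < 24) : C.f1 (sNeg s) = z * C.f1 s := by
  rw [← sNeg_eq ⟨s, hs⟩, C.mul1 12 s (by norm_num) hs, C.z1]

theorem f2_neg {s : ℕ} (hs : s < 24) : C.f2 (sNeg s) = z * C.f2 s := by
  rw [← sNeg_eq ⟨s, hs⟩, C.mul2 12 s (by norm_num) hs, C.z2]

theorem z_f1 {s : ℕ} (hs : s < 24) : z * C.f1 s = C.f1 s * z := by
  have h := C.comm s 12 hs (by norm_num)
  rw [C.z2] at h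
  exact h.symm

theorem ι_pk {s t : ℕ} (hs : s < 24) (ht : t < 24) : C.ι (pk s t) = C.f1 s * C.f2 t := by
  unfold pk
  have hs' : sNeg s < 24 := Nat.mod_lt _ (by omega)
  have ht' : sNeg t < 24 := Nat.mod_lt _ (by omega)
  split
  · rw [ι, show (24 * s + t) / 24 = s by omega, show (24 * s + t) % 24 = t by omega]
  · rw [ι, show (24 * sNeg s + sNeg t) / 24 = sNeg s by omega,
      show (24 * sNeg s + sNeg t) % 24 = sNeg t by omega, C.f1_neg hs, C.f2_neg ht]
    rw [show z * C.f1 s = C.f1 s * z from C.z_f1 hs, mul_assoc, ← mul_assoc z, C.z_mul_z, one_mul]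

theorem ι_mul {g h : ℕ} (hg : g < 288) (hh : h < 288) : C.ι (mulK g h) = C.ι g * C.ι h := by
  have hg1 : g / 24 < 24 := by omega
  have hh1 : h / 24 < 24 := by omega
  have hg2 : g % 24 < 24 := by omega
  have hh2 : h % 24 < 24 := by omega
  rw [mulK_eq hg hh, C.ι_pk (sMul_lt ⟨_, hg1⟩ ⟨_, hh1⟩) (sMul_lt ⟨_, hg2⟩ ⟨_, hh2⟩), C.mul1 _ _ hg1 hh1,
    C.mul2 _ _ hg2 hh2, ι, ι, mul_assoc, mul_assoc]
  congr 1
  rw [← mul_assoc, ← mul_assoc, C.comm _ _ hh1 hg2]

theorem ι_inj {g h : ℕ} (hg : g < 288) (hh : h < 288) (e : C.ι g = C.ι h) : g = h := by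
  have hg1 : g / 24 < 24 := by omega
  have hh1 : h / 24 < 24 := by omega
  have hg2 : g % 24 < 24 := by omega
  have hh2 : h % 24 < 24 := by omega
  unfold ι at e
  have key : ∀ a : Fin 24, ∀ b : Fin 24, ∃ c : Fin 24, sMul b c = a := by decide +kernel
  have key2 : ∀ a : Fin 24, ∀ b : Fin 24, ∃ c : Fin 24, sMul c b = a := by decide +kernel
  obtain ⟨c, hc⟩ := key ⟨g / 24, hg1⟩ ⟨h / 24, hh1⟩
  obtain ⟨d, hd⟩ := key2 ⟨h % 24, hh2⟩ ⟨g % 24, hg2⟩
  simp only at hc hd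
  have e2 : C.f1 c = C.f2 d := by
    rw [← hc, C.mul1 _ _ hh1 c.2, mul_assoc] at e
    have e' := mul_left_cancel e
    rw [← hd, C.mul2 _ _ d.2 hg2] at e'
    exact mul_right_cancel e'
  rcases C.meet _ _ c.2 d.2 e2 with h0 | h12
  · have hd0 : (d : ℕ) = 0 := C.inj2 _ _ d.2 (by norm_num) (by rw [← e2, h0, C.f1_zero, C.f2_zero])
    have k1 : ∀ b : Fin 24, sMul b 0 = b ∧ sMul 0 b = b := by decide +kernel
    rw [h0, (k1 ⟨_, hh1⟩).1] at hc
    rw [hd0, (k1 ⟨_, hg2⟩).2] at hd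
    simp only at hc hd
    omega
  · have k1 : ∀ b : Fin 24, sMul b 12 = sNeg b := by decide +kernel
    rw [h12, k1 ⟨_, hh1⟩] at hc
    simp only [sNeg] at hc
    omega

/-- The image. -/
def carrier : Set G := {x | ∃ k, k < 288 ∧ C.ι k = x}

theorem mem_of_f1 {s : ℕ} (hs : s < 24) : C.f1 s ∈ C.carrier :=
  ⟨pk s 0, pk_lt hs (by norm_num), by rw [C.ι_pk hs (by norm_num), f2_zero, mul_one]⟩

theorem mem_of_f2 {t : ℕ} (ht : t < 24) : C.f2 t ∈ C.carrier :=
  ⟨t, by omega, C.ι_f2 ht⟩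

theorem inv_exists : ∀ k : Fin 288, ∃ l : Fin 288, mulK k l = 0 := by decide +kernel

/-- The central product as a subgroup. -/
def sub : Subgroup G where
  carrier := C.carrier
  one_mem' := ⟨0, by norm_num, C.ι_zero⟩
  mul_mem' := by
    rintro _ _ ⟨a, ha, rfl⟩ ⟨b, hb, rfl⟩
    exact ⟨mulK a b, (by
      rw [mulK_eq ha hb]
      exact pk_lt (sMul_lt ⟨a / 24, by omega⟩ ⟨b / 24, by omega⟩)
        (sMul_lt ⟨a % 24, by omega⟩ ⟨b % 24, by omega⟩)), C.ι_mul ha hb⟩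
  inv_mem' := by
    rintro _ ⟨a, ha, rfl⟩
    obtain ⟨l, hl⟩ := inv_exists ⟨a, ha⟩
    exact ⟨l, l.2, eq_inv_of_mul_eq_one_right (by rw [← C.ι_mul ha l.2, hl, ι_zero])⟩

theorem qList_mul : ∀ a ∈ qList, ∀ b ∈ qList, mulK a b ∈ qList := by decide +kernel

theorem qList_inv : ∀ a ∈ qList, ∃ b ∈ qList, mulK a b = 0 := by decide +kernel

theorem qList_lt : ∀ a ∈ qList, a < 288 := by decide +kernel

/-- The quaternion part as a subgroup. -/
def qsub : Subgroup G where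
  carrier := {x | ∃ a ∈ qList, C.ι a = x}
  one_mem' := ⟨0, by decide, C.ι_zero⟩
  mul_mem' := by
    rintro _ _ ⟨a, ha, rfl⟩ ⟨b, hb, rfl⟩
    exact ⟨mulK a b, qList_mul a ha b hb, C.ι_mul (qList_lt a ha) (qList_lt b hb)⟩
  inv_mem' := by
    rintro _ ⟨a, ha, rfl⟩
    obtain ⟨b, hb, e⟩ := qList_inv a ha
    exact ⟨b, hb, eq_inv_of_mul_eq_one_right (by rw [← C.ι_mul (qList_lt a ha) (qList_lt b hb), e, ι_zero])⟩

theorem mem_qsub {x : G} : x ∈ C.qsub ↔ ∃ a ∈ qList, C.ι a = x := Iff.rfl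

theorem card_qsub : Nat.card C.qsub = 32 := by
  classical
  have e : (C.qsub : Set G) = ↑(qList.toFinset.image C.ι) := by ext x; simp [qsub]
  rw [show Nat.card C.qsub = (C.qsub : Set G).ncard from Nat.card_coe_set_eq _, e, Set.ncard_coe_finset,
    Finset.card_image_of_injOn]
  · decide +kernel
  · intro a ha b hb h
    simp only [List.coe_toFinset, Set.mem_ofPred_eq] at ha hb
    exact C.ι_inj (qList_lt a ha) (qList_lt b hb) h

theorem card_sub : Nat.card C.sub = 288 := by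
  classical
  have e : (C.sub : Set G) = ↑((Finset.range 288).image C.ι) := by ext x; simp [sub, carrier]
  rw [show Nat.card C.sub = (C.sub : Set G).ncard from Nat.card_coe_set_eq _, e, Set.ncard_coe_finset,
    Finset.card_image_of_injOn, Finset.card_range]
  intro a ha b hb h
  simp only [Finset.coe_range, Set.mem_Iio] at ha hb
  exact C.ι_inj ha hb h

end CP

end Cfsg.Agent.U43T
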