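import Cfsg.Agent.Lib.U43T.COne

/-!
Counting the real elements with non-trivial centraliser in the centraliser of the involution.
-/

set_option autoImplicit false
set_option linter.unusedSectionVars false

namespace Cfsg.Agent.U43T

open Subgroup

variable {G : Type*} [Group G] [Finite G] {z z₀ : G}

/-- The real elements centralised by a non-trivial element of the centraliser of `z`. -/
def smallSet (z : G) : Set G := {w | w ∈ realSet z ∧ ∃ h, Commute h z ∧ Commute h w ∧ h ≠ 1}

namespace Frame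

variable (F : Frame z)

/-- The real elements commuting with the coded element. -/
def jfam (a : ℕ) : Set G := {w | w ∈ realSet z ∧ Commute w (F.f a)}

theorem ncard_jfam (S : Setting z₀) {a : ℕ} (ha : a ∈ uList) : (F.jfam a).ncard = 80 := by
  obtain ⟨F', hF', -, -, -⟩ := F.exists_shift ha
  obtain ⟨D⟩ := F'.exists_odata
  have e : F.jfam a = D.jset \ {1} := by
    rw [D.jset_eq]
    ext w
    simp only [jfam, Set.mem_ofPred_eq, Set.mem_diff, Set.mem_singleton_iff, invSet, realSet, F'.mem_k1, hF']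
    tauto
  rw [e, Set.ncard_sdiff_singleton_of_mem D.jset_one, D.card_jset S]

theorem disjoint_jfam {l : List ℕ} (hl : l = loList ∨ l = hiList) {a b : ℕ} (ha : a ∈ l) (hb : b ∈ l) (hne : a ≠ b) :
    Disjoint (F.jfam a) (F.jfam b) := by
  have hsub : ∀ x ∈ l, x < 1152 := fun x hx => (uList_facts.1 x (by
    rcases hl with rfl | rfl
    exacts [uList_facts.2.1 x hx, uList_facts.2.2.1 x hx])).1
  refine Set.disjoint_left.2 fun w hwa hwb => F.real_pow_z hwa.1 (hsub a ha) (hsub b hb)
    (pair_gen l (by rcases hl with rfl | rfl <;> simp) a ha b hb hne) hwa.2 hwb.2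

theorem ncard_pair (S : Setting z₀) {a b : ℕ} (ha : a ∈ loList) (hb : b ∈ hiList) :
    (F.jfam a ∩ F.jfam b).ncard = 8 := by
  obtain ⟨C⟩ := S.exists_cycle F
  have hne : ((F.jfam a ∩ F.jfam b) : Set G) = (F.jfam a ∩ F.jfam b) := rfl
  have halt := (uList_facts.1 a (uList_facts.2.1 a ha)).1
  have hblt := (uList_facts.1 b (uList_facts.2.2.1 b hb)).1
  have h8 : ({e | e ∈ F.esub ∧ z * e * z⁻¹ = e⁻¹} \ {1}).ncard = 8 := by
    rw [Set.ncard_sdiff_singleton_of_mem
      (show (1 : G) ∈ {e | e ∈ F.esub ∧ z * e * z⁻¹ = e⁻¹} from ⟨one_mem _, by simp⟩), C.ncard_inverted S]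
  -- one conjugator for the pair
  have h := pair_conj a ha b hb
  simp only [List.any_eq_true, Bool.and_eq_true, Bool.or_eq_true, beq_iff_eq] at h
  obtain ⟨k, hk, hb', ha'⟩ := h
  have hk' : k < 1152 := by simp only [List.mem_cons, List.not_mem_nil, or_false] at hk; omega
  have hkb : ∀ w, Commute w (F.f b) ↔ Commute (F.f k * w * (F.f k)⁻¹) (F.f 144) := by
    intro w
    have key : Commute w (F.f b) ↔ Commute (F.f k * w * (F.f k)⁻¹) (F.f (cjH k b)) := by
      rw [F.f_cjH hk' hblt]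
      refine ⟨fun h => h.map (MulAut.conj (F.f k)).toMonoidHom, fun h => ?_⟩
      have := h.map (MulAut.conj (F.f k)⁻¹).toMonoidHom
      simpa [mul_assoc] using this
    rw [key]
    rcases hb' with e | e <;> rw [e]
    rw [show (216 : ℕ) = iH 144 by decide +kernel, F.f_iH (by norm_num), Commute.inv_right_iff]
  have hka : ∀ w, Commute w (F.f a) ↔ Commute (F.f k * w * (F.f k)⁻¹) (F.f 6) := by
    intro w
    have key : Commute w (F.f a) ↔ Commute (F.f k * w * (F.f k)⁻¹) (F.f (cjH k a)) := by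
      rw [F.f_cjH hk' halt]
      refine ⟨fun h => h.map (MulAut.conj (F.f k)).toMonoidHom, fun h => ?_⟩
      have := h.map (MulAut.conj (F.f k)⁻¹).toMonoidHom
      simpa [mul_assoc] using this
    rw [key]
    rcases ha' with e | e <;> rw [e]
    rw [show (9 : ℕ) = iH 6 by decide +kernel, F.f_iH (by norm_num), Commute.inv_right_iff]
  rw [← h8, ← Set.ncard_image_of_injective (F.jfam a ∩ F.jfam b)
    (show Function.Injective (fun w => F.f k * w * (F.f k)⁻¹) from fun x y e => mul_left_cancel (mul_right_cancel e))]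
  congr 1
  ext e
  constructor
  · rintro ⟨w, ⟨⟨hw, hwa⟩, -, hwb⟩, rfl⟩
    have hw' := F.conj_real hk' hw
    exact ⟨⟨F.mem_esub.2 ⟨F.mem_cp.2 ⟨(hkb w).1 hwb, (hka w).1 hwa⟩, hw'.1⟩, hw'.2.1⟩, hw'.2.2⟩
  · rintro ⟨⟨he, hei⟩, he1⟩
    obtain ⟨hecp, heo⟩ := F.mem_esub.1 he
    obtain ⟨h144, h6⟩ := F.mem_cp.1 hecp
    have hki : iH k < 1152 := iH_lt k
    have hw := F.conj_real hki (show e ∈ realSet z from ⟨heo, hei, he1⟩)
    rw [F.f_iH hk', inv_inv] at hw
    have e2 : F.f k * ((F.f k)⁻¹ * e * F.f k) * (F.f k)⁻¹ = e := by group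
    exact ⟨(F.f k)⁻¹ * e * F.f k, ⟨⟨hw, (hka _).2 (by rw [e2]; exact h6)⟩, hw, (hkb _).2 (by rw [e2]; exact h144)⟩, e2⟩

include F in
/-- The number of real elements with non-trivial centraliser in the centraliser of `z`. -/
theorem ncard_small (S : Setting z₀) : (smallSet z).ncard = 512 := by
  classical
  haveI := Fintype.ofFinite G
  have hset : smallSet z = (⋃ a ∈ loList.toFinset, F.jfam a) ∪ (⋃ b ∈ hiList.toFinset, F.jfam b) := by
    ext w
    simp only [Set.mem_union, Set.mem_iUnion, List.mem_toFinset, exists_prop]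
    constructor
    · rintro ⟨hw, h, hz, hh, h1⟩
      obtain ⟨a, ha, hwa⟩ := F.real_cases S hw hz hh h1
      obtain ⟨halt, -, hcase⟩ := uList_facts.1 a ha
      rcases hcase with hl | hl | hl | hl
      · exact Or.inl ⟨a, hl, hw, hwa⟩
      · exact Or.inr ⟨a, hl, hw, hwa⟩
      · exact Or.inl ⟨iH a, hl, hw, F.code_inv_pow halt hwa⟩
      · exact Or.inr ⟨iH a, hl, hw, F.code_inv_pow halt hwa⟩
    · rintro (⟨a, ha, hw, hwa⟩ | ⟨a, ha, hw, hwa⟩)
      · obtain ⟨halt, h0, -⟩ := uList_facts.1 a (uList_facts.2.1 a ha)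
        exact ⟨hw, F.f a, F.comm a halt, hwa.symm, fun e => h0 ((F.eq_one_iff halt).1 e)⟩
      · obtain ⟨halt, h0, -⟩ := uList_facts.1 a (uList_facts.2.2.1 a ha)
        exact ⟨hw, F.f a, F.comm a halt, hwa.symm, fun e => h0 ((F.eq_one_iff halt).1 e)⟩
  have hd : ∀ l : List ℕ, (l = loList ∨ l = hiList) → (l.toFinset : Set ℕ).PairwiseDisjoint F.jfam :=
    fun l hl a ha b hb hne => F.disjoint_jfam hl (List.mem_toFinset.1 ha) (List.mem_toFinset.1 hb) hne
  have hsum : ∀ l : List ℕ, (l = loList ∨ l = hiList) → (⋃ a ∈ l.toFinset, F.jfam a).ncard = 320 := by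
    intro l hl
    have hfin : (⋃ a ∈ l.toFinset, F.jfam a).toFinite.toFinset =
        l.toFinset.biUnion (fun a => (F.jfam a).toFinite.toFinset) := by ext; simp
    rw [Set.ncard_eq_toFinset_card _ (Set.toFinite _), hfin, Finset.card_biUnion ?_,
      Finset.sum_const_nat (m := 80) (fun a ha => ?_)]
    · rcases hl with rfl | rfl
      all_goals first
        | rw [List.toFinset_card_of_nodup uList_facts.2.2.2.1]
        | rw [List.toFinset_card_of_nodup uList_facts.2.2.2.2.1]
      all_goals rfl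
    · rw [← Set.ncard_eq_toFinset_card]
      refine F.ncard_jfam S ?_
      rcases hl with rfl | rfl
      exacts [uList_facts.2.1 a (List.mem_toFinset.1 ha), uList_facts.2.2.1 a (List.mem_toFinset.1 ha)]
    · intro a ha b hb hne
      refine Finset.disjoint_left.2 fun x hx hx' => ?_
      simp only [Set.Finite.mem_toFinset] at hx hx'
      exact Set.disjoint_left.1 (hd l hl ha hb hne) hx hx' 
  have hinter : ((⋃ a ∈ loList.toFinset, F.jfam a) ∩ ⋃ b ∈ hiList.toFinset, F.jfam b).ncard = 128 := by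
    have hfin : ((⋃ a ∈ loList.toFinset, F.jfam a) ∩ ⋃ b ∈ hiList.toFinset, F.jfam b).toFinite.toFinset =
        (loList.toFinset ×ˢ hiList.toFinset).biUnion (fun p => (F.jfam p.1 ∩ F.jfam p.2).toFinite.toFinset) := by
      ext x
      simp only [Set.Finite.mem_toFinset, Set.mem_inter_iff, Set.mem_iUnion, Finset.mem_biUnion, Finset.mem_product,
        exists_prop, Prod.exists]
      constructor
      · rintro ⟨⟨a, ha, hx⟩, b, hb, hx'⟩; exact ⟨a, b, ⟨ha, hb⟩, hx, hx'⟩
      · rintro ⟨a, b, ⟨ha, hb⟩, hx, hx'⟩; exact ⟨⟨a, ha, hx⟩, b, hb, hx'⟩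
    rw [Set.ncard_eq_toFinset_card _ (Set.toFinite _), hfin, Finset.card_biUnion ?_,
      Finset.sum_const_nat (m := 8) (fun p hp => ?_), Finset.card_product,
      List.toFinset_card_of_nodup uList_facts.2.2.2.1, List.toFinset_card_of_nodup uList_facts.2.2.2.2.1]
    · rfl
    · obtain ⟨h1, h2⟩ := Finset.mem_product.1 hp
      rw [← Set.ncard_eq_toFinset_card]
      exact F.ncard_pair S (List.mem_toFinset.1 h1) (List.mem_toFinset.1 h2)
    · intro p hp q hq hne
      refine Finset.disjoint_left.2 fun x hx hx' => ?_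
      simp only [Set.Finite.mem_toFinset, Set.mem_inter_iff] at hx hx'
      obtain ⟨h1, h2⟩ := Finset.mem_product.1 hp
      obtain ⟨h3, h4⟩ := Finset.mem_product.1 hq
      rcases eq_or_ne p.1 q.1 with e | e
      · exact Set.disjoint_left.1 (hd hiList (Or.inr rfl) h2 h4 fun e' => hne (Prod.ext e e')) hx.2 hx'.2
      · exact Set.disjoint_left.1 (hd loList (Or.inl rfl) h1 h3 e) hx.1 hx'.1
  have h := Set.ncard_union_add_ncard_inter (⋃ a ∈ loList.toFinset, F.jfam a) (⋃ b ∈ hiList.toFinset, F.jfam b)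
    (Set.toFinite _) (Set.toFinite _)
  rw [hinter, hsum _ (Or.inl rfl), hsum _ (Or.inr rfl), ← hset] at h
  omega

end Frame

end Cfsg.Agent.U43T
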