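import Cfsg.Agent.Lib.U43T.Api

/-!
Finite facts about the model used for the 3-local analysis.
-/

set_option autoImplicit false

namespace Cfsg.Agent.U43T

/-- The Sylow 3-subgroup. -/
def pList : List ℕ := [0, 6, 9, 144, 150, 153, 216, 222, 225]


theorem exp_twentyfour : ∀ g : Fin 1152, mulH (sqH (sqH (sqH (sqH g)))) (sqH (sqH (sqH g))) = 0 := by decide +kernel

theorem cent_P : ∀ g : Fin 1152, mulH g 144 = mulH 144 g → mulH g 6 = mulH 6 g →
    ((g : ℕ) ∈ pList ∨ mulH g 12 ∈ pList) := by decide +kernel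

theorem cent_P_cube : ∀ g : Fin 1152, mulH g 144 = mulH 144 g → mulH g 6 = mulH 6 g →
    mulH (mulH g g) g = 0 → (g : ℕ) ∈ pList := by decide +kernel

theorem cent_P_sq : ∀ g : Fin 1152, mulH g 144 = mulH 144 g → mulH g 6 = mulH 6 g →
    sqH g = 0 → (g : ℕ) = 0 ∨ (g : ℕ) = 12 := by decide +kernel

theorem cent_u_cube : ∀ g : Fin 1152, mulH g 150 = mulH 150 g → mulH (mulH g g) g = 0 → (g : ℕ) ∈ pList := by
  decide +kernel

theorem normP_cube : ∀ g : Fin 1152, mulH (mulH g g) g = 0 → cjH g 144 ∈ pList → cjH g 6 ∈ pList →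
    (g : ℕ) ∈ pList := by decide +kernel

theorem invertP : ∀ g : Fin 1152, cjH g 144 = 216 → cjH g 6 = 9 → sqH g = 12 := by decide +kernel

theorem cent_four : ∀ g : Fin 1152, mulH g 150 = mulH 150 g → mulH g 576 = mulH 576 g →
    (g : ℕ) ∈ [(0 : ℕ), 12, 576, 588] ∨ mulH g 150 ∈ [(0 : ℕ), 12, 576, 588] ∨
      mulH g 225 ∈ [(0 : ℕ), 12, 576, 588] := by decide +kernel

theorem cent_four_sq : ∀ g : Fin 1152, mulH g 150 = mulH 150 g → mulH g 576 = mulH 576 g → sqH g = 0 →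
    (g : ℕ) ∈ [(0 : ℕ), 12, 576, 588] := by decide +kernel

theorem tau_vals : cjH 288 576 = 588 ∧ cjH 288 588 = 576 ∧ cjH 288 150 = 225 ∧ cjH 288 144 = 216 ∧ cjH 288 6 = 9 ∧
    cjH 288 12 = 12 ∧ cjH 576 144 = 6 ∧ cjH 576 6 = 144 ∧ mulH 12 576 = 588 ∧ mulH 576 12 = 588 := by
  decide +kernel

theorem six_outer : ∀ s : Fin 1152, sqH s = 0 → (s : ℕ) ≠ 0 → (s : ℕ) ≠ 12 →
    ((List.range 1152).any fun x => x != 0 && mulH (mulH x x) x == 0 && mulH x s == mulH s x) = true →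
    ((List.range 1152).any fun k => cjH k s == 576) = true ∨
      ((List.range 1152).any fun k => cjH k s == 1014) = true := by decide +kernel

theorem cent_576 : ∀ x : Fin 1152, mulH x 576 = mulH 576 x → mulH (mulH x x) x = 0 → (x : ℕ) ≠ 0 →
    ((List.range 1152).any fun k => mulH k 576 == mulH 576 k && (cjH k x == 150 || cjH k x == 225)) = true := by
  decide +kernel

end Cfsg.Agent.U43T
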