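import Cfsg.Agent.Lib.U43T.General4

/-!
Abelian inverted centralisers of elements of order prime to three, and their classes.
-/

set_option autoImplicit false
set_option linter.unusedSectionVars false

namespace Cfsg.Agent.U43T

open Subgroup

variable {G : Type*} [Group G] [Finite G]

/-- The centraliser of `a` in `X`. -/
def tor (X : Subgroup G) (a : G) : Subgroup G := X ⊓ centralizer ({a} : Set G)

theorem mem_tor {X : Subgroup G} {a x : G} : x ∈ tor X a ↔ x ∈ X ∧ Commute x a := by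
  rw [tor, mem_inf, mem_centralizer_singleton_iff]; rfl

theorem map_tor {X : Subgroup G} {g : G} (hg : g ∈ X) (a : G) :
    (tor X a).map (MulAut.conj g).toMonoidHom = tor X (g * a * g⁻¹) := by
  ext x
  constructor
  · rintro ⟨y, hy, rfl⟩
    obtain ⟨h1, h2⟩ := mem_tor.1 hy
    refine mem_tor.2 ⟨mul_mem (mul_mem hg h1) (inv_mem hg), ?_⟩
    exact h2.map (MulAut.conj g).toMonoidHom
  · intro hx
    obtain ⟨h1, h2⟩ := mem_tor.1 hx
    refine ⟨g⁻¹ * x * g, mem_tor.2 ⟨mul_mem (mul_mem (inv_mem hg) h1) hg, ?_⟩, by simp [mul_assoc]⟩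
    show _ = _
    calc g⁻¹ * x * g * a = g⁻¹ * (x * (g * a * g⁻¹)) * g := by group
      _ = _ := by rw [h2.eq]; group

/-- Inverted elements of order prime to three. -/
def regs (X : Subgroup G) (z : G) : Set G :=
  {a | a ∈ X ∧ z * a * z⁻¹ = a⁻¹ ∧ a ≠ 1 ∧ Nat.Coprime (orderOf a) 6}

/-- The part of order prime to three. -/
def qsetT (T : Subgroup G) : Set G := {x | x ∈ T ∧ Nat.Coprime (orderOf x) 3}

/-- The part of three-power order. -/
def threeSet (T : Subgroup G) : Set G := {x | x ∈ T ∧ IsThree x}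

/-- The elements covered by the tori and not of three-power order. -/
def rset (X : Subgroup G) (z : G) : Set G := {w | ∃ a ∈ regs X z, w ∈ tor X a ∧ ¬ IsThree w}

/-- The conjugates of a torus under the centraliser of `z`. -/
def orbT (X : Subgroup G) (z a : G) : Set (Subgroup G) :=
  {T | ∃ g ∈ X ⊓ centralizer ({z} : Set G), T = tor X (g * a * g⁻¹)}

/-- The stabiliser of a torus in the centraliser of `z`. -/
def stabT (X : Subgroup G) (z a : G) : Subgroup G :=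
  (X ⊓ centralizer ({z} : Set G)) ⊓ normalizer (tor X a : Set G)

/-- The hypotheses on tori. -/
structure Tori (X : Subgroup G) (z : G) : Prop where
  zz : z * z = 1
  norm : ∀ x ∈ X, z * x * z⁻¹ ∈ X
  free : ∀ a ∈ regs X z, ∀ x ∈ X, Commute x a → z * x * z⁻¹ = x → x = 1

theorem regs_conj {X : Subgroup G} {z a g : G} (ha : a ∈ regs X z) (hg : g ∈ X ⊓ centralizer ({z} : Set G)) :
    g * a * g⁻¹ ∈ regs X z := by
  obtain ⟨hgX, hgz⟩ := mem_inf.1 hg
  rw [mem_centralizer_singleton_iff] at hgz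
  refine ⟨mul_mem (mul_mem hgX ha.1) (inv_mem hgX), ?_, fun e => ha.2.2.1 (conj_eq_one_iff.1 e), ?_⟩
  · rw [show z * (g * a * g⁻¹) * z⁻¹ = (z * g) * a * (z * g)⁻¹ by group, ← hgz,
      show g * z * a * (g * z)⁻¹ = g * (z * a * z⁻¹) * g⁻¹ by group, ha.2.1, conj_inv]
  · have e := orderOf_injective (MulAut.conj g).toMonoidHom (MulEquiv.injective _) a
    simp only [MulEquiv.coe_toMonoidHom, MulAut.conj_apply] at e
    rw [e]; exact ha.2.2.2

namespace Tori

variable {X : Subgroup G} {z : G} (H : Tori X z)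

include H in
theorem tor_norm {a : G} (ha : a ∈ regs X z) {x : G} (hx : x ∈ tor X a) : z * x * z⁻¹ ∈ tor X a := by
  obtain ⟨h1, h2⟩ := mem_tor.1 hx
  refine mem_tor.2 ⟨H.norm x h1, ?_⟩
  have h3 : Commute (z * x * z⁻¹) (z * a * z⁻¹) := by show _ = _; rw [conj_mul, conj_mul, h2.eq]
  rw [ha.2.1] at h3
  exact Commute.inv_right_iff.1 h3

include H in
theorem odd_inv {a : G} (ha : a ∈ regs X z) :
    Odd (Nat.card (tor X a)) ∧ ∀ x ∈ tor X a, z * x * z⁻¹ = x⁻¹ :=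
  inverted_of_fixed_free H.zz (fun _ hx => H.tor_norm ha hx)
    (fun x hx e => H.free a ha x (mem_tor.1 hx).1 (mem_tor.1 hx).2 e)

include H in
theorem comm {a : G} (ha : a ∈ regs X z) {x y : G} (hx : x ∈ tor X a) (hy : y ∈ tor X a) : Commute x y :=
  commute_of_inverted (H.odd_inv ha).2 hx hy

theorem self_mem {a : G} (ha : a ∈ regs X z) : a ∈ tor X a := mem_tor.2 ⟨ha.1, Commute.refl a⟩

include H in
theorem tor_reg {a x : G} (ha : a ∈ regs X z) (hx : x ∈ tor X a) (hc : Nat.Coprime (orderOf x) 3) (h1 : x ≠ 1) :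
    x ∈ regs X z ∧ tor X x = tor X a := by
  have key : ∀ {a b : G}, a ∈ regs X z → b ∈ tor X a → tor X a ≤ tor X b := fun ha hb y hy =>
    mem_tor.2 ⟨(mem_tor.1 hy).1, H.comm ha hy hb⟩
  have hr : x ∈ regs X z := ⟨(mem_tor.1 hx).1, (H.odd_inv ha).2 x hx, h1,
    (Nat.coprime_two_right.2 (RankOne.odd_orderOf (H.odd_inv ha).1 hx)).mul_right hc⟩
  exact ⟨hr, le_antisymm (key hr (mem_tor.2 ⟨ha.1, (mem_tor.1 hx).2.symm⟩)) (key ha hx)⟩

include H in
theorem qset_subgroup {a : G} (ha : a ∈ regs X z) : ∃ Q : Subgroup G, (Q : Set G) = qsetT (tor X a) :=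
  ⟨{ carrier := qsetT (tor X a)
     one_mem' := ⟨one_mem _, by simp⟩
     mul_mem' := fun {x y} hx hy => ⟨mul_mem hx.1 hy.1, Nat.Coprime.coprime_dvd_left
        (H.comm ha hx.1 hy.1).orderOf_mul_dvd_mul_orderOf (hx.2.mul_left hy.2)⟩
     inv_mem' := fun {x} hx => ⟨inv_mem hx.1, by rw [orderOf_inv]; exact hx.2⟩ }, rfl⟩

include H in
theorem three_subgroup {a : G} (ha : a ∈ regs X z) : ∃ Q : Subgroup G, (Q : Set G) = threeSet (tor X a) :=
  ⟨{ carrier := threeSet (tor X a)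
     one_mem' := ⟨one_mem _, isThree_one⟩
     mul_mem' := fun {x y} hx hy => ⟨mul_mem hx.1 hy.1, hx.2.mul hy.2 (H.comm ha hx.1 hy.1)⟩
     inv_mem' := fun {x} hx => ⟨inv_mem hx.1, hx.2.inv⟩ }, rfl⟩

include H in
theorem qset_dvd {a : G} (ha : a ∈ regs X z) :
    2 ≤ (qsetT (tor X a)).ncard ∧ (qsetT (tor X a)).ncard ∣ Nat.card X ∧ Odd (qsetT (tor X a)).ncard ∧
      Nat.Coprime (qsetT (tor X a)).ncard 3 := by
  obtain ⟨Q, hQ⟩ := H.qset_subgroup ha
  have hm : ∀ {x}, x ∈ Q ↔ x ∈ qsetT (tor X a) := fun {x} => by rw [← hQ]; rfl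
  have hle : Q ≤ tor X a := fun x hx => (hm.1 hx).1
  rw [← hQ, ← Nat.card_coe_set_eq]
  refine ⟨?_, card_dvd_of_le (hle.trans inf_le_left), (H.odd_inv ha).1.of_dvd_nat (card_dvd_of_le hle), ?_⟩
  · have hne : Q ≠ ⊥ := fun e => ha.2.2.1 (Subgroup.eq_bot_iff_forall Q |>.1 e a (hm.2 ⟨self_mem ha, Nat.Coprime.coprime_dvd_right (by norm_num) ha.2.2.2⟩))
    exact (Subgroup.one_lt_card_iff_ne_bot Q).2 hne
  · refine Nat.coprime_comm.1 (Nat.prime_three.coprime_iff_not_dvd.2 fun h3 => ?_)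
    haveI : Fact (Nat.Prime 3) := ⟨Nat.prime_three⟩
    obtain ⟨⟨x, hx⟩, ho⟩ := exists_prime_orderOf_dvd_card' (G := Q) 3 h3
    replace ho : orderOf x = 3 := (Subgroup.orderOf_coe ⟨x, hx⟩).trans ho
    have h := (hm.1 hx).2
    rw [ho] at h
    exact absurd h (by decide)

include H in
/-- A torus is the product of its two parts. -/
theorem card_tor {a : G} (ha : a ∈ regs X z) :
    Nat.card (tor X a) = (qsetT (tor X a)).ncard * (threeSet (tor X a)).ncard := by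
  rw [← Nat.card_coe_set_eq, ← Nat.card_coe_set_eq, ← Nat.card_prod]
  refine (Nat.card_eq_of_bijective
    (fun p : qsetT (tor X a) × threeSet (tor X a) => (⟨p.1.1 * p.2.1, mul_mem p.1.2.1 p.2.2.1⟩ : tor X a)) ⟨?_, ?_⟩).symm
  · rintro ⟨⟨x, hx⟩, ⟨y, hy⟩⟩ ⟨⟨x', hx'⟩, ⟨y', hy'⟩⟩ e
    have e' : x * y = x' * y' := congrArg Subtype.val e
    have hd : x'⁻¹ * x = y' * y⁻¹ := by
      calc x'⁻¹ * x = x'⁻¹ * (x * y) * y⁻¹ := by group
        _ = _ := by rw [e']; group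
    have h1 : x'⁻¹ * x = 1 := by
      refine IsThree.eq_one ?_ ?_
      · rw [hd]; exact hy'.2.mul hy.2.inv (H.comm ha hy'.1 (inv_mem hy.1))
      · refine Nat.Coprime.coprime_dvd_left (H.comm ha (inv_mem hx'.1) hx.1).orderOf_mul_dvd_mul_orderOf ?_
        rw [orderOf_inv]; exact hx'.2.mul_left hx.2
    obtain rfl := inv_mul_eq_one.1 h1
    obtain rfl := mul_left_cancel e'
    rfl
  · rintro ⟨x, hx⟩
    obtain ⟨m, k, hc, -, hm, ht⟩ := exists_coprime_part x
    have hg : (Nat.gcd (3 ^ k) m : ℤ) = 1 := by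
      rw [(Nat.Coprime.pow_left k (Nat.coprime_comm.1 hm))]; rfl
    have hb := Nat.gcd_eq_gcd_ab (3 ^ k) m
    rw [hg] at hb
    refine ⟨(⟨(x ^ 3 ^ k) ^ Nat.gcdA (3 ^ k) m, zpow_mem (pow_mem hx _) _,
        Nat.Coprime.coprime_dvd_left (orderOf_dvd_of_mem_zpowers (zpow_mem (mem_zpowers _) _)) hc⟩,
      ⟨(x ^ m) ^ Nat.gcdB (3 ^ k) m, zpow_mem (pow_mem hx _) _, ?_⟩), Subtype.ext ?_⟩
    · obtain ⟨j, hj⟩ := ht
      exact ⟨j, by rw [← zpow_natCast, ← zpow_mul, mul_comm, zpow_mul, zpow_natCast, hj, one_zpow]⟩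
    · show (x ^ 3 ^ k) ^ Nat.gcdA (3 ^ k) m * (x ^ m) ^ Nat.gcdB (3 ^ k) m = x
      rw [← zpow_natCast x (3 ^ k), ← zpow_natCast x m, ← zpow_mul, ← zpow_mul, ← zpow_add, ← hb, zpow_one]

include H in
/-- A full Sylow subgroup lies in a torus. -/
theorem sylow_tor {a : G} (ha : a ∈ regs X z) {p : ℕ} [hp : Fact p.Prime] (hpd : p ∣ (qsetT (tor X a)).ncard) :
    ∃ (P : Sylow p X) (c : G), orderOf c = p ∧ c ∈ regs X z ∧ tor X c = tor X a ∧
      (∀ x : X, x ∈ (P : Subgroup X) → Commute (x : G) c) ∧ ∃ x : X, x ∈ (P : Subgroup X) ∧ (x : G) = c := by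
  classical
  have h3 : Nat.Coprime p 3 := Nat.Coprime.coprime_dvd_left hpd (H.qset_dvd ha).2.2.2
  obtain ⟨Q, hQ⟩ := H.qset_subgroup ha
  rw [← hQ, ← Nat.card_coe_set_eq] at hpd
  obtain ⟨⟨a1, ha1'⟩, ho⟩ := exists_prime_orderOf_dvd_card' (G := Q) p hpd
  replace ho : orderOf a1 = p := (Subgroup.orderOf_coe ⟨a1, ha1'⟩).trans ho
  have ha1 : a1 ∈ tor X a := (show a1 ∈ qsetT (tor X a) from hQ ▸ ha1').1
  have hne : ∀ {x : G}, orderOf x = p → x ≠ 1 := fun h e => hp.out.one_lt.ne' (by rw [← h, e, orderOf_one])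
  have h1u := (mem_tor.1 ha1).1
  obtain ⟨hr1, ht1⟩ := H.tor_reg ha ha1 (by rwa [ho]) (hne ho)
  have hP0 : IsPGroup p (zpowers (⟨a1, h1u⟩ : X)) := by
    refine IsPGroup.of_card (n := 1) ?_
    rw [Nat.card_zpowers, Subgroup.orderOf_mk, ho, pow_one]
  obtain ⟨P, hP⟩ := hP0.exists_le_sylow
  haveI : Nontrivial (P : Subgroup X) := ⟨⟨⟨_, hP (mem_zpowers _)⟩, 1, fun e => hne ho
    (congrArg (fun x : (P : Subgroup X) => ((x : X) : G)) e)⟩⟩
  haveI := P.2.center_nontrivial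
  have hzc : p ∣ Nat.card (center (P : Subgroup X)) := by
    obtain ⟨n, hn, e⟩ := (P.2.to_subgroup (center (P : Subgroup X))).nontrivial_iff_card.1 inferInstance
    rw [e]; exact dvd_pow_self p hn.ne'
  obtain ⟨⟨⟨⟨c, hcu⟩, hcP⟩, hcZ⟩, hco⟩ := exists_prime_orderOf_dvd_card' p hzc
  replace hco : orderOf c = p := by rw [← hco]; simp only [Subgroup.orderOf_mk]
  have hcomm : ∀ x : X, x ∈ (P : Subgroup X) → Commute (x : G) c := fun x hx =>
    congrArg (fun y : (P : Subgroup X) => ((y : X) : G)) (mem_center_iff.1 hcZ ⟨x, hx⟩)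
  have hcT : c ∈ tor X a1 := mem_tor.2 ⟨hcu, (hcomm _ (hP (mem_zpowers _))).symm⟩
  obtain ⟨hrc, htc⟩ := H.tor_reg hr1 hcT (by rwa [hco]) (hne hco)
  exact ⟨P, c, hco, hrc, htc.trans ht1, hcomm, ⟨⟨c, hcu⟩, hcP, rfl⟩⟩

include H in
/-- Tori with a common prime are conjugate under the centraliser of `z`. -/
theorem tor_conj {a b : G} (ha : a ∈ regs X z) (hb : b ∈ regs X z) {p : ℕ} [hp : Fact p.Prime]
    (hpa : p ∣ (qsetT (tor X a)).ncard) (hpb : p ∣ (qsetT (tor X b)).ncard) :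
    ∃ g ∈ X ⊓ centralizer ({z} : Set G), tor X (g * a * g⁻¹) = tor X b := by
  obtain ⟨P1, c1, ho1, hr1, ht1, -, x1, hx1, hx1e⟩ := H.sylow_tor ha hpa
  obtain ⟨P2, c2, ho2, hr2, ht2, hc2, -⟩ := H.sylow_tor hb hpb
  obtain ⟨g, hg⟩ := MulAction.exists_smul_eq X P1 P2
  have hg2 : g * x1 * g⁻¹ ∈ (P2 : Subgroup X) := by
    rw [← hg, Sylow.coe_subgroup_smul]
    exact ⟨x1, hx1, by simp [MulAut.conj_apply]⟩
  set d : G := (g : G) * c1 * (g : G)⁻¹ with hd
  have hdc : Commute d c2 := by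
    have := hc2 _ hg2
    rw [show (((g * x1 * g⁻¹ : X)) : G) = d by rw [hd, ← hx1e]; rfl] at this
    exact this
  have hdo : orderOf d = p := by
    have e := orderOf_injective (MulAut.conj (g : G)).toMonoidHom (MulEquiv.injective _) c1
    simp only [MulEquiv.coe_toMonoidHom, MulAut.conj_apply] at e
    rw [hd, e, ho1]
  have hdT : d ∈ tor X c2 := mem_tor.2 ⟨mul_mem (mul_mem g.2 hr1.1) (inv_mem g.2), hdc⟩
  obtain ⟨hrd, htd⟩ := H.tor_reg hr2 hdT (by rw [hdo, ← ho1]; exact Nat.Coprime.coprime_dvd_right (by norm_num) hr1.2.2.2)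
    (fun e => hp.out.one_lt.ne' (by rw [← hdo, e, orderOf_one]))
  have hdi := hrd.2.1
  have hzi : z⁻¹ = z := inv_eq_of_mul_eq_one_right H.zz
  -- both `z` and its conjugate invert `d`
  set t := (g : G) * z * (g : G)⁻¹ * z with ht
  have htT : t ∈ tor X d := by
    refine mem_tor.2 ⟨?_, mul_inv_eq_iff_eq_mul.1 ?_⟩
    · rw [ht, show (g : G) * z * (g : G)⁻¹ * z = (g : G) * (z * (g : G)⁻¹ * z⁻¹) by rw [hzi]; group]
      exact mul_mem g.2 (H.norm _ (inv_mem g.2))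
    · have h1 : (g : G) * z * (g : G)⁻¹ * d * ((g : G) * z * (g : G)⁻¹)⁻¹ = d⁻¹ := by
        rw [hd, show (g : G) * z * (g : G)⁻¹ * ((g : G) * c1 * (g : G)⁻¹) * ((g : G) * z * (g : G)⁻¹)⁻¹ =
          (g : G) * (z * c1 * z⁻¹) * (g : G)⁻¹ by group, hr1.2.1, conj_inv]
      rw [ht, show ∀ y : G, y * z * d * (y * z)⁻¹ = y * (z * d * z⁻¹) * y⁻¹ from fun y => by group, hdi, ← conj_inv,
        h1, inv_inv]
  obtain ⟨hTodd, hTi⟩ := H.odd_inv hrd
  have hti : z * t * z⁻¹ = t⁻¹ := hTi t htT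
  obtain ⟨m, hm⟩ := RankOne.exists_sqrt (RankOne.odd_orderOf hTodd htT)
  set s := t ^ m with hs
  have hsT : s ∈ tor X d := pow_mem htT m
  have hsX : s ∈ X := (mem_tor.1 hsT).1
  have hsi : z * s * z⁻¹ = s⁻¹ := hTi s hsT
  have hgz : (g : G) * z * (g : G)⁻¹ = t * z := by rw [ht, mul_assoc _ z z, H.zz, mul_one]
  have hcz : Commute (s⁻¹ * g) z := by
    refine mul_inv_eq_iff_eq_mul.1 ?_
    have hzs : z * s = s⁻¹ * z := by rw [← hsi]; group
    calc s⁻¹ * g * z * (s⁻¹ * g)⁻¹ = s⁻¹ * ((g : G) * z * (g : G)⁻¹) * s := by group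
      _ = s⁻¹ * t * (z * s) := by rw [hgz]; group
      _ = z := by rw [hzs, ← hm]; group
  have hmem : s⁻¹ * (g : G) ∈ X ⊓ centralizer ({z} : Set G) :=
    mem_inf.2 ⟨mul_mem (inv_mem hsX) g.2, mem_centralizer_singleton_iff.2 hcz⟩
  refine ⟨s⁻¹ * g, hmem, ?_⟩
  rw [← map_tor (mem_inf.1 hmem).1, ← ht1, map_tor (mem_inf.1 hmem).1, ← ht2, ← htd]
  congr 1
  have h1 : Commute s⁻¹ d := (mem_tor.1 hsT).2.inv_left
  calc s⁻¹ * (g : G) * c1 * (s⁻¹ * g)⁻¹ = s⁻¹ * d * s⁻¹⁻¹ := by rw [hd]; group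
    _ = d := mul_inv_eq_iff_eq_mul.2 h1.eq

theorem mem_orbT_self (a : G) : tor X a ∈ orbT X z a := ⟨1, one_mem _, by simp⟩

theorem orbT_eq {a g : G} (hg : g ∈ X ⊓ centralizer ({z} : Set G)) {b : G} (e : tor X (g * a * g⁻¹) = tor X b) :
    orbT X z b = orbT X z a := by
  have key : ∀ h ∈ X ⊓ centralizer ({z} : Set G), tor X (h * b * h⁻¹) = tor X ((h * g) * a * (h * g)⁻¹) := by
    intro h hh
    rw [← map_tor (mem_inf.1 hh).1 b, ← e, map_tor (mem_inf.1 hh).1]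
    congr 1; group
  ext T
  constructor
  · rintro ⟨h, hh, rfl⟩
    exact ⟨h * g, mul_mem hh hg, key h hh⟩
  · rintro ⟨h, hh, rfl⟩
    exact ⟨h * g⁻¹, mul_mem hh (inv_mem hg), by rw [key _ (mul_mem hh (inv_mem hg)), inv_mul_cancel_right]⟩

/-- Orbit and stabiliser. -/
theorem orb_mul_stab (a : G) :
    (orbT X z a).ncard * Nat.card (stabT X z a) = Nat.card ↥(X ⊓ centralizer ({z} : Set G)) := by
  classical
  haveI := Fintype.ofFinite G
  set Q := X ⊓ centralizer ({z} : Set G) with hQ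
  have hset : orbT X z a = ↑((Q : Set G).toFinite.toFinset.image (fun g => tor X (g * a * g⁻¹))) := by
    ext T; simp [orbT, hQ, eq_comm]
  have hf : ∀ T ∈ (Q : Set G).toFinite.toFinset.image (fun g => tor X (g * a * g⁻¹)),
      ((Q : Set G).toFinite.toFinset.filter fun g => tor X (g * a * g⁻¹) = T).card = Nat.card (stabT X z a) := by
    intro T hT
    obtain ⟨q, hq, rfl⟩ := Finset.mem_image.1 hT
    simp only [Set.Finite.mem_toFinset, SetLike.mem_coe] at hq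
    rw [show Nat.card (stabT X z a) = ((stabT X z a : Subgroup G) : Set G).ncard from Nat.card_coe_set_eq _,
      Set.ncard_eq_toFinset_card _ (Set.toFinite _)]
    have hnorm : ∀ g ∈ X, (g ∈ normalizer (tor X a : Set G) ↔ tor X (g * a * g⁻¹) = tor X a) := by
      intro g hg
      rw [← map_tor hg, mem_normalizer_iff]
      constructor
      · intro h
        ext x
        constructor
        · rintro ⟨y, hy, rfl⟩; exact (h y).1 hy
        · intro hx
          exact ⟨g⁻¹ * x * g, (h _).2 (by simpa [mul_assoc] using hx), by simp [mul_assoc]⟩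
      · intro h x
        constructor
        · intro hx
          rw [← h]; exact ⟨x, hx, rfl⟩
        · intro hx
          rw [← h] at hx
          obtain ⟨y, hy, e⟩ := hx
          simp only [MulEquiv.coe_toMonoidHom, MulAut.conj_apply] at e
          rwa [← mul_left_cancel (mul_right_cancel e)]
    refine Finset.card_bij (fun x _ => q⁻¹ * x) (fun x hx => ?_) (fun a _ b _ h => mul_left_cancel h) (fun x hx => ?_)
    · simp only [Finset.mem_filter, Set.Finite.mem_toFinset, SetLike.mem_coe] at hx ⊢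
      have hqx : q⁻¹ * x ∈ Q := mul_mem (inv_mem hq) hx.1
      refine mem_inf.2 ⟨hqx, (hnorm _ (mem_inf.1 hqx).1).2 ?_⟩
      rw [show q⁻¹ * x * a * (q⁻¹ * x)⁻¹ = q⁻¹ * (x * a * x⁻¹) * q⁻¹⁻¹ by group,
        ← map_tor (mem_inf.1 (inv_mem hq)).1, hx.2, map_tor (mem_inf.1 (inv_mem hq)).1]
      congr 1; group
    · simp only [Set.Finite.mem_toFinset, SetLike.mem_coe] at hx
      obtain ⟨hxQ, hxn⟩ := mem_inf.1 hx
      refine ⟨q * x, ?_, by group⟩
      simp only [Finset.mem_filter, Set.Finite.mem_toFinset, SetLike.mem_coe]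
      refine ⟨mul_mem hq hxQ, ?_⟩
      rw [show q * x * a * (q * x)⁻¹ = q * (x * a * x⁻¹) * q⁻¹ by group, ← map_tor (mem_inf.1 hq).1,
        (hnorm _ (mem_inf.1 hxQ).1).1 hxn, map_tor (mem_inf.1 hq).1]
  rw [hset, Set.ncard_coe_finset, show Nat.card ↥Q = (Q : Set G).ncard from Nat.card_coe_set_eq _,
    Set.ncard_eq_toFinset_card _ (Set.toFinite _), Finset.card_eq_sum_card_image (fun g => tor X (g * a * g⁻¹)),
    Finset.sum_congr rfl hf, Finset.sum_const, smul_eq_mul]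

include H in
theorem tor_fibre {a b w : G} (ha : a ∈ regs X z) (hb : b ∈ regs X z) (hwa : w ∈ tor X a) (hwb : w ∈ tor X b)
    (hw : ¬ IsThree w) : tor X a = tor X b := by
  obtain ⟨-, k, hc, hiff, -, -⟩ := exists_coprime_part w
  have h1 : w ^ 3 ^ k ≠ 1 := fun e => hw (hiff.1 e)
  rw [← (H.tor_reg ha (pow_mem hwa _) hc h1).2, ← (H.tor_reg hb (pow_mem hwb _) hc h1).2]

theorem conj_sets {g : G} (hg : g ∈ X) (a : G) :
    Nat.card (tor X (g * a * g⁻¹)) = Nat.card (tor X a) ∧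
      (threeSet (tor X (g * a * g⁻¹))).ncard = (threeSet (tor X a)).ncard := by
  refine ⟨by rw [← map_tor hg, card_map_of_injective (MulEquiv.injective _)], ?_⟩
  rw [← map_tor hg]
  rw [← Set.ncard_image_of_injective (threeSet (tor X a)) (MulEquiv.injective (MulAut.conj g))]
  congr 1
  ext x
  constructor
  · rintro ⟨⟨y, hy, rfl⟩, k, hk⟩
    refine ⟨y, ⟨hy, k, ?_⟩, rfl⟩
    rw [← map_pow] at hk
    exact (MulEquiv.injective (MulAut.conj g)) (hk.trans (map_one _).symm)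
  · rintro ⟨y, ⟨hy, k, hk⟩, rfl⟩
    exact ⟨⟨y, hy, rfl⟩, k, by rw [← map_pow, hk, map_one]⟩

include H in
/-- The classes of tori and the count of the elements they cover. -/
theorem exists_reps : ∃ R : Finset G, (∀ b ∈ R, b ∈ regs X z) ∧
    (∀ a ∈ R, ∀ b ∈ R, a ≠ b → Nat.Coprime (qsetT (tor X a)).ncard (qsetT (tor X b)).ncard) ∧
    (∀ a ∈ regs X z, ∃ b ∈ R, tor X a ∈ orbT X z b) ∧
    (rset X z).ncard =
      ∑ b ∈ R, (orbT X z b).ncard * (Nat.card (tor X b) - (threeSet (tor X b)).ncard) := by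
  classical
  haveI := Fintype.ofFinite G
  haveI := Fintype.ofFinite (Subgroup G)
  set OO := ((regs X z).toFinite.toFinset.image (fun a => orbT X z a)) with hOO
  have hrep : ∀ O ∈ OO, ∃ a : G, a ∈ regs X z ∧ orbT X z a = O := by
    intro O hO
    simpa [hOO] using hO
  choose! rep hrep1 hrep2 using hrep
  have hinj : Set.InjOn rep ↑OO := by
    intro O hO O' hO' e
    rw [← hrep2 O hO, e, hrep2 O' hO']
  refine ⟨OO.image rep, fun b hb => ?_, ?_, ?_, ?_⟩
  · obtain ⟨O, hO, rfl⟩ := Finset.mem_image.1 hb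
    exact hrep1 O hO
  · intro a ha b hb hne
    obtain ⟨O, hO, rfl⟩ := Finset.mem_image.1 ha
    obtain ⟨O', hO', rfl⟩ := Finset.mem_image.1 hb
    by_contra hnc
    obtain ⟨p, hp, hp1, hp2⟩ := Nat.Prime.not_coprime_iff_dvd.1 hnc
    haveI : Fact p.Prime := ⟨hp⟩
    obtain ⟨g, hg, e⟩ := H.tor_conj (hrep1 O hO) (hrep1 O' hO') hp1 hp2
    have := orbT_eq hg e
    rw [hrep2 O hO, hrep2 O' hO'] at this
    exact hne (congrArg rep this.symm)
  · intro a ha
    have hO : orbT X z a ∈ OO := by simp only [hOO, Finset.mem_image, Set.Finite.mem_toFinset]; exact ⟨a, ha, rfl⟩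
    exact ⟨_, Finset.mem_image_of_mem rep hO, by rw [hrep2 _ hO]; exact mem_orbT_self a⟩
  · rw [Finset.sum_image hinj]
    set TT := ((regs X z).toFinite.toFinset.image (fun a => tor X a)) with hTT
    have hdec : (rset X z).toFinite.toFinset =
        TT.biUnion (fun T => ((T : Set G) \ threeSet T).toFinite.toFinset) := by
      ext w
      simp only [rset, hTT, Finset.mem_biUnion, Finset.mem_image, Set.Finite.mem_toFinset, Set.mem_ofPred_eq,
        Set.mem_diff, SetLike.mem_coe, exists_exists_and_eq_and]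
      constructor
      · rintro ⟨a, ha, h1, h2⟩; exact ⟨a, ha, h1, fun h => h2 h.2⟩
      · rintro ⟨a, ha, h1, h2⟩; exact ⟨a, ha, h1, fun h => h2 ⟨h1, h⟩⟩
    have hdisj : (TT : Set (Subgroup G)).PairwiseDisjoint (fun T => ((T : Set G) \ threeSet T).toFinite.toFinset) := by
      intro T hT T' hT' hne
      simp only [hTT, Finset.coe_image, Set.Finite.coe_toFinset, Set.mem_image] at hT hT'
      obtain ⟨a, ha, rfl⟩ := hT
      obtain ⟨b, hb, rfl⟩ := hT'
      refine Finset.disjoint_left.2 fun w h1 h2 => hne ?_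
      simp only [Set.Finite.mem_toFinset, Set.mem_diff, SetLike.mem_coe] at h1 h2
      exact H.tor_fibre ha hb h1.1 h2.1 fun h => h1.2 ⟨h1.1, h⟩
    have hTT' : TT = OO.biUnion (fun O => O.toFinite.toFinset) := by
      ext T
      simp only [hTT, hOO, Finset.mem_biUnion, Finset.mem_image, Set.Finite.mem_toFinset, exists_exists_and_eq_and]
      constructor
      · rintro ⟨a, ha, rfl⟩; exact ⟨a, ha, mem_orbT_self a⟩
      · rintro ⟨a, ha, g, hg, rfl⟩; exact ⟨_, regs_conj ha hg, rfl⟩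
    have hdisjO : (OO : Set (Set (Subgroup G))).PairwiseDisjoint (fun O => O.toFinite.toFinset) := by
      intro O hO O' hO' hne
      refine Finset.disjoint_left.2 fun T h1 h2 => hne ?_
      simp only [Set.Finite.mem_toFinset] at h1 h2
      rw [← hrep2 O hO] at h1 ⊢
      rw [← hrep2 O' hO'] at h2 ⊢
      obtain ⟨g, hg, rfl⟩ := h1
      obtain ⟨h, hh, e⟩ := h2
      rw [← orbT_eq hg e, orbT_eq hh rfl]
    rw [Set.ncard_eq_toFinset_card _ (Set.toFinite _), hdec, Finset.card_biUnion hdisj, hTT',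
      Finset.sum_biUnion hdisjO]
    refine Finset.sum_congr rfl fun O hO => ?_
    rw [hrep2 O hO, Set.ncard_eq_toFinset_card _ (Set.toFinite O)]
    refine Finset.sum_const_nat fun T hT => ?_
    simp only [Set.Finite.mem_toFinset] at hT
    rw [← hrep2 O hO] at hT
    obtain ⟨g, hg, rfl⟩ := hT
    obtain ⟨e1, e2⟩ := conj_sets (mem_inf.1 hg).1 (rep O)
    rw [← Set.ncard_eq_toFinset_card, Set.ncard_sdiff (show threeSet (tor X (g * rep O * g⁻¹)) ⊆ _ from fun x hx => hx.1)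
      (Set.toFinite _), e2]
    rw [← e1]
    congr 1

end Tori

end Cfsg.Agent.U43T
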