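import Cfsg.Agent.Lib.U43T.BThree
import Cfsg.Agent.Lib.U43T.Tori

/-!
Centralisers of the generic inverted elements of the odd normal subgroup.
-/

set_option autoImplicit false
set_option linter.unusedSectionVars false

namespace Cfsg.Agent.U43T

open Subgroup

variable {G : Type*} [Group G] [Finite G] {z z₀ : G}

/-- Sylow conjugacy inside a subgroup. -/
theorem sylow3_conj_pow {D R : Subgroup G} {n : ℕ} (hR : R ≤ D) (hc : Nat.card R = 3 ^ n)
    (hD : ¬ 3 ^ (n + 1) ∣ Nat.card D) {X : Subgroup G} (hX : X ≤ D) (hXp : IsPGroup 3 X) :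
    ∃ h ∈ D, ∀ x ∈ X, h * x * h⁻¹ ∈ R := by
  haveI : Fact (Nat.Prime 3) := ⟨Nat.prime_three⟩
  have hRp : IsPGroup 3 R := IsPGroup.of_card (n := n) hc
  obtain ⟨P1, hP1⟩ := (hXp.comap_of_injective D.subtype Subtype.val_injective).exists_le_sylow
  obtain ⟨P2, hP2⟩ := (hRp.comap_of_injective D.subtype Subtype.val_injective).exists_le_sylow
  have hsub : Nat.card ↥(R.comap D.subtype) = 3 ^ n := by
    rw [← hc]; exact Nat.card_congr (subgroupOfEquivOfLe hR).toEquiv
  have hP2c : Nat.card (P2 : Subgroup D) ≤ 3 ^ n := by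
    obtain ⟨r, hr⟩ := IsPGroup.iff_card.1 P2.2
    rw [hr]
    by_contra hlt
    have hnr : n + 1 ≤ r := by
      by_contra h
      exact hlt (Nat.pow_le_pow_right (by norm_num) (by omega))
    exact hD (dvd_trans (pow_dvd_pow 3 hnr) (hr ▸ Subgroup.card_subgroup_dvd_card _))
  have heq : R.comap D.subtype = (P2 : Subgroup D) := eq_of_le_of_card_ge hP2 (by rw [hsub]; exact hP2c)
  obtain ⟨h, hh⟩ := MulAction.exists_smul_eq D P1 P2
  refine ⟨h, h.2, fun x hx => ?_⟩
  have hm : h * ⟨x, hX hx⟩ * h⁻¹ ∈ (P2 : Subgroup D) := by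
    rw [← hh, Sylow.coe_subgroup_smul]
    exact ⟨⟨x, hX hx⟩, hP1 hx, by simp [MulAut.conj_apply]⟩
  rw [← heq] at hm
  exact hm

namespace Frame.OData

variable {F : Frame z} (D : F.OData)

include D in
theorem jset_cube (S : Setting z₀) {v : G} (hv : v ∈ D.jset) : v * v * v = 1 := by
  set w := v * v * v with hw
  have hwi : z * w * z⁻¹ = w⁻¹ := by rw [hw, ← conj_mul, ← conj_mul, hv.2]; group
  have hwO : w ∈ D.O := mul_mem (mul_mem hv.1 hv.1) hv.1
  have hcen : ∀ x ∈ D.O, Commute w x := by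
    intro x hx
    obtain ⟨k, hk⟩ := D.dsplit.comm_mem hx hv.1
    dsimp only at hk
    refine (conj_eq_iff_commute.1 ?_).symm
    have e : x * v * x⁻¹ = F.f 144 ^ k * v := by rw [hk]; group
    have hc : Commute (F.f 144 ^ k) v := ((D.dsplit.cent v hv.1).zpow_right k).symm
    have hu3 : (F.f 144 ^ k) * (F.f 144 ^ k) * (F.f 144 ^ k) = 1 := by
      rw [← zpow_add, ← zpow_add, show k + k + k = (3 : ℕ) * k by push_cast; ring, zpow_mul, zpow_natCast, pow_succ,
        pow_two, F.u1_cube, one_zpow]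
    calc x * w * x⁻¹ = (x * v * x⁻¹) * (x * v * x⁻¹) * (x * v * x⁻¹) := by rw [hw]; group
      _ = (F.f 144 ^ k * F.f 144 ^ k * F.f 144 ^ k) * (v * v * v) := by
          rw [e, hc.symm.mul_mul_mul_comm, (hc.symm.mul_left hc.symm).mul_mul_mul_comm]
      _ = w := by rw [hu3, one_mul]
  obtain ⟨i, hi⟩ := D.centre_O S hwO hcen
  dsimp only at hi
  have hf := conj_eq_iff_commute.2 ((F.comm 144 (by norm_num)).symm.zpow_right i)
  rw [hi] at hf
  rw [hf] at hwi
  exact RankOne.sq_inj (RankOne.odd_orderOf D.odd hwO) (by simp)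
    (by rw [one_mul]; exact mul_eq_one_iff_eq_inv.2 hwi)

include D in
theorem fixed_pow {i : ℤ} {x : G} (hne : F.f 144 ^ i ≠ 1) (hc : Commute x (F.f 144 ^ i)) :
    Commute x (F.f 144) := by
  have hu3 : F.f 144 * F.f 144 * F.f 144 = 1 := F.u1_cube
  obtain ⟨k, hk⟩ := mem_powers_iff_mem_zpowers.2 (zpow_mem (mem_zpowers (F.f 144)) i)
  dsimp only at hk
  rw [← hk, Cycle.pow_mod_three hu3] at hne hc
  have hlt := Nat.mod_lt k (show 0 < 3 by norm_num)
  interval_cases h : k % 3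
  · exact absurd (pow_zero _) hne
  · rwa [pow_one] at hc
  · have h' := hc.mul_right hc
    rw [← pow_add, show F.f 144 ^ (2 + 2) = F.f 144 by
      rw [show 2 + 2 = 4 from rfl, Cycle.pow_mod_three hu3, pow_one]] at h'
    exact h'

set_option maxHeartbeats 1000000 in
include D in
/-- The centraliser of a generic inverted element. -/
theorem generic_cent (S : Setting z₀) {v : G} (hv : v ∈ D.jset) (hv1 : v ≠ 1)
    (hgen : ∀ h, Commute h z → Commute h v → h ∈ zpowers (F.f 144)) :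
    centralizer ({v} : Set G) = D.cR v := by
  classical
  haveI : Fact (Nat.Prime 3) := ⟨Nat.prime_three⟩
  set u := F.f 144 with hu
  set X := centralizer ({v} : Set G) with hX
  set R := D.cR v with hR
  have memX : ∀ {x}, x ∈ X ↔ Commute x v := fun {x} => mem_centralizer_singleton_iff
  have hzz := F.centre_sq
  have huz : Commute u z := F.comm 144 (by norm_num)
  have hnorm : ∀ x ∈ X, z * x * z⁻¹ ∈ X := fun x hx => by
    refine memX.2 ?_
    have h : Commute (z * x * z⁻¹) (z * v * z⁻¹) := (memX.1 hx).map (MulAut.conj z).toMonoidHom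
    rw [hv.2] at h
    exact Commute.inv_right_iff.1 h
  have hfixed : ∀ x ∈ X, z * x * z⁻¹ = x → x ∈ zpowers u := fun x hx h =>
    hgen x (conj_eq_iff_commute.1 h).symm (memX.1 hx)
  have hodd : Odd (Nat.card X) := by
    by_contra he
    obtain ⟨y, hy, hyz⟩ := exists_invol_fixed hzz hnorm (Nat.not_odd_iff_even.1 he)
    obtain ⟨i, hi⟩ := hgen y hyz (memX.1 hy.1)
    dsimp only at hi
    have h3 : y ^ 3 = 1 := by
      rw [← hi, ← zpow_natCast, ← zpow_mul, mul_comm, zpow_mul, zpow_natCast, pow_succ, pow_two, F.u1_cube, one_zpow]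
    exact hy.2.2 (by rw [← h3, pow_succ, pow_two, hy.2.1, one_mul])
  have hRX : R ≤ X := inf_le_right
  have hcent : ∀ x ∈ X, Commute x u → x ∈ R := by
    intro x hx hxu
    set Y := X ⊓ F.k1 with hY
    have hYn : ∀ y ∈ Y, z * y * z⁻¹ ∈ Y := fun y hy => by
      obtain ⟨h1, h2⟩ := mem_inf.1 hy
      exact mem_inf.2 ⟨hnorm y h1, mul_mem (mul_mem F.z_mem_k1 h2) (Subgroup.inv_mem _ F.z_mem_k1)⟩
    have hYo : Odd (Nat.card Y) := hodd.of_dvd_nat (card_dvd_of_le inf_le_left)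
    obtain ⟨a, b, ha, haz, ⟨hb, hbz⟩, rfl⟩ :=
      RankOne.exists_decomp hzz hYo hYn (mem_inf.2 ⟨hx, F.mem_k1.2 hxu⟩ : x ∈ Y)
    have haO : a ∈ D.O := zpowers_le.2 D.u_mem (hfixed a (mem_inf.1 ha).1 haz)
    exact D.mem_cR.2 ⟨mul_mem haO (D.inv_mem b ⟨(mem_inf.1 hb).2, RankOne.odd_orderOf hYo hb, hbz⟩), memX.1 hx⟩
  have hR81 : Nat.card R = 81 := D.card_cR S hv hv1
  have hRodd : Odd (Nat.card R) := by rw [hR81]; decide
  have h243 : ¬ 3 ^ (4 + 1) ∣ Nat.card X := by
    intro h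
    obtain ⟨K, hKX, -, hK, hKn⟩ := exists_normalising hRX (n := 4) hR81 h
    have hKR : K ≤ R := fun g hg =>
      hcent g (hKX hg) (D.cR_norm S hv hv1 (RankOne.odd_orderOf hodd (hKX hg)) (hKn g hg))
    have := card_le_of_le hKR
    rw [hK, hR81] at this
    norm_num at this
  -- inverted elements of three-power order
  have hthree : ∀ w ∈ X, z * w * z⁻¹ = w⁻¹ → IsThree w → w ∈ R := by
    intro w hw hwi hw3
    by_contra hwR
    have hwn : ∀ x ∈ X ⊓ centralizer ({w} : Set G), z * x * z⁻¹ ∈ X ⊓ centralizer ({w} : Set G) := by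
      intro x hx
      obtain ⟨h1, h2⟩ := mem_inf.1 hx
      refine mem_inf.2 ⟨hnorm x h1, mem_centralizer_singleton_iff.2 ?_⟩
      have h : Commute (z * x * z⁻¹) (z * w * z⁻¹) :=
        (show Commute x w from mem_centralizer_singleton_iff.1 h2).map (MulAut.conj z).toMonoidHom
      rw [hwi] at h
      exact (Commute.inv_right_iff.1 h).eq
    obtain ⟨-, hinv⟩ := inverted_of_fixed_free hzz hwn fun x hx hxz => by
      obtain ⟨h1, h2⟩ := mem_inf.1 hx
      obtain ⟨i, hi⟩ := hfixed x h1 hxz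
      dsimp only at hi
      by_contra hx1
      refine hwR (hcent w hw (D.fixed_pow (hi ▸ hx1) ?_))
      rw [hi]
      exact (show Commute x w from mem_centralizer_singleton_iff.1 h2).symm
    obtain ⟨k, hk⟩ := hw3
    obtain ⟨m, -, hm⟩ := (Nat.dvd_prime_pow Nat.prime_three).1 (orderOf_dvd_of_pow_eq_one hk)
    obtain ⟨h, hh, hhR⟩ := sylow3_conj_pow hRX (n := 4) hR81 h243 (zpowers_le.2 hw) (X := zpowers w)
      (IsPGroup.of_card (n := m) ((Nat.card_zpowers w).trans hm))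
    set g := h⁻¹ with hg
    have hgX : g ∈ X := Subgroup.inv_mem _ hh
    set d := g * u * g⁻¹ with hd
    have huX : u ∈ X := memX.2 (D.dsplit.cent v hv.1).symm
    have hdC : d ∈ X ⊓ centralizer ({w} : Set G) := by
      refine mem_inf.2 ⟨mul_mem (mul_mem hgX huX) (Subgroup.inv_mem _ hgX), mem_centralizer_singleton_iff.2 ?_⟩
      have e := (D.dsplit.cent _ (D.mem_cR.1 (hhR w (mem_zpowers w))).1).symm.map (MulAut.conj g).toMonoidHom
      simp only [MulEquiv.coe_toMonoidHom, MulAut.conj_apply] at e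
      rw [show g * (h * w * h⁻¹) * g⁻¹ = w by rw [hg]; group] at e
      exact e.eq
    have hdi := hinv d hdC
    have htu : (g⁻¹ * (z * g * z⁻¹)) * u * (g⁻¹ * (z * g * z⁻¹))⁻¹ = u⁻¹ := by
      calc (g⁻¹ * (z * g * z⁻¹)) * u * (g⁻¹ * (z * g * z⁻¹))⁻¹
          = g⁻¹ * (z * (g * (z⁻¹ * u * z) * g⁻¹) * z⁻¹) * g := by group
        _ = g⁻¹ * d⁻¹ * g := by
            rw [show z⁻¹ * u * z = u by rw [mul_assoc, huz.eq, inv_mul_cancel_left], ← hd, hdi]
        _ = u⁻¹ := by rw [hd]; group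
    exact not_odd_inverts (RankOne.odd_orderOf hodd (mul_mem (Subgroup.inv_mem _ hgX) (hnorm g hgX)))
      (RankOne.odd_orderOf D.odd D.u_mem) F.u1_ne htu
  -- tori
  have HT : Tori X z := ⟨hzz, hnorm, fun a ha x hx hxa hxz => by
    obtain ⟨i, hi⟩ := hfixed x hx hxz
    dsimp only at hi
    by_contra hx1
    have haR := hcent a ha.1 (D.fixed_pow (hi ▸ hx1) (hi ▸ hxa.symm))
    exact ha.2.2.1 (IsThree.eq_one (isThree_of_cube (D.jset_cube S ⟨(D.mem_cR.1 haR).1, ha.2.1⟩))
      (Nat.Coprime.coprime_dvd_right (by norm_num) ha.2.2.2))⟩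
  set RI := Cfsg.invertedBy R z with hRI
  have hQ : X ⊓ centralizer ({z} : Set G) = zpowers u :=
    le_antisymm (fun x hx => hgen x (mem_centralizer_singleton_iff.1 (mem_inf.1 hx).2) (memX.1 (mem_inf.1 hx).1))
      (zpowers_le.2 (mem_inf.2 ⟨memX.2 (D.dsplit.cent v hv.1).symm, mem_centralizer_singleton_iff.2 huz⟩))
  have hu3o : Nat.card (zpowers u) = 3 := (Nat.card_zpowers u).trans (orderOf_cube F.u1_cube F.u1_ne)
  have hRn : ∀ x ∈ R, z * x * z⁻¹ ∈ R := fun x hx =>
    D.mem_cR.2 ⟨D.normal z F.z_mem_k1 x (D.mem_cR.1 hx).1, memX.1 (hnorm x (hRX hx))⟩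
  have hR27 : RI.ncard = 27 := by
    have hc := RankOne.card_decomp hzz R hRodd hRn
    have e : R ⊓ centralizer ({z} : Set G) = zpowers u :=
      le_antisymm (fun x hx => hQ ▸ mem_inf.2 ⟨hRX (mem_inf.1 hx).1, (mem_inf.1 hx).2⟩)
        (zpowers_le.2 (mem_inf.2 ⟨D.mem_cR.2 ⟨D.u_mem, (D.dsplit.cent v hv.1).symm⟩,
          mem_centralizer_singleton_iff.2 huz⟩))
    rw [e, hR81, hu3o, Nat.card_coe_set_eq] at hc
    change 81 = 3 * RI.ncard at hc
    omega
  have hdec : Cfsg.invertedBy X z = RI ∪ rset X z := by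
    ext w
    constructor
    · rintro ⟨hw, hwi⟩
      by_cases h3 : IsThree w
      · exact Or.inl ⟨hthree w hw hwi h3, hwi⟩
      · obtain ⟨-, k, hc, hiff, -, -⟩ := exists_coprime_part w
        refine Or.inr ⟨w ^ 3 ^ k, ⟨pow_mem hw _, by rw [← conj_pow, hwi, inv_pow], fun e => h3 (hiff.1 e),
          (Nat.coprime_two_right.2 (RankOne.odd_orderOf hodd (pow_mem hw _))).mul_right hc⟩,
          U43T.mem_tor.2 ⟨hw, Commute.self_pow w _⟩, h3⟩
    · rintro (⟨hw, hwi⟩ | ⟨a, ha, hw, -⟩)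
      · exact ⟨hRX hw, hwi⟩
      · exact ⟨(U43T.mem_tor.1 hw).1, (HT.odd_inv ha).2 w hw⟩
  have hdisj : Disjoint RI (rset X z) := Set.disjoint_left.2 fun w ⟨hw, hwi⟩ ⟨a, _, _, h3⟩ =>
    h3 (isThree_of_cube (D.jset_cube S ⟨(D.mem_cR.1 hw).1, hwi⟩))
  have hXcard : Nat.card X = 3 * (27 + (rset X z).ncard) := by
    rw [RankOne.card_decomp hzz X hodd hnorm, hQ, hu3o, Nat.card_coe_set_eq, hdec,
      Set.ncard_union_eq hdisj (Set.toFinite _) (Set.toFinite _), hR27]
  obtain ⟨r, hr⟩ : 81 ∣ Nat.card X := hR81 ▸ card_dvd_of_le hRX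
  -- three parts of tori
  have ht9 : ∀ a ∈ regs X z, (threeSet (U43T.tor X a)).ncard ≤ 9 := by
    intro a ha
    obtain ⟨T, hT⟩ := HT.three_subgroup ha
    have hTs : ∀ x ∈ T, x ∈ RI := fun x hx => by
      obtain ⟨hx1, hx3⟩ := (hT ▸ hx : x ∈ threeSet (U43T.tor X a))
      exact ⟨hthree x (U43T.mem_tor.1 hx1).1 ((HT.odd_inv ha).2 x hx1) hx3, (HT.odd_inv ha).2 x hx1⟩
    have hdvd : Nat.card T ∣ 3 ^ 4 := by
      have := card_dvd_of_le (fun x hx => (hTs x hx).1 : T ≤ R)
      rw [hR81] at this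
      exact this
    have hle27 : Nat.card T ≤ 27 := by
      rw [← hR27, ← Nat.card_coe_set_eq RI]
      exact Nat.card_le_card_of_injective (fun x : T => (⟨x, hTs x x.2⟩ : RI)) fun x y e => Subtype.ext (by
        simpa using e)
    rw [← hT, ← Nat.card_coe_set_eq]
    show Nat.card T ≤ 9
    by_contra hlt
    obtain ⟨s, hs, e⟩ := (Nat.dvd_prime_pow Nat.prime_three).1 hdvd
    have hs3 : s = 3 := by
      rw [e] at hlt hle27
      interval_cases s <;> simp_all
    have hall : RI ⊆ (T : Set G) := (Set.eq_of_subset_of_ncard_le (fun x hx => hTs x hx)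
      (by rw [hR27, ← Nat.card_coe_set_eq]; change 27 ≤ Nat.card T; rw [e, hs3]; norm_num) (Set.toFinite _)).ge
    obtain ⟨p, hp, q, hq, hpq⟩ := D.cR_not_comm S hv hv1
    obtain ⟨p1, p2, hp1, hp1z, hp2, rfl⟩ := RankOne.exists_decomp hzz hRodd hRn hp
    obtain ⟨q1, q2, hq1, hq1z, hq2, rfl⟩ := RankOne.exists_decomp hzz hRodd hRn hq
    refine hpq ?_
    have hT' : ∀ x ∈ RI, x ∈ U43T.tor X a := fun x hx => ((hT ▸ hall hx) : x ∈ threeSet (U43T.tor X a)).1
    have h1 : ∀ x ∈ R, z * x * z⁻¹ = x → ∀ y ∈ R, Commute x y := fun x hx hxz y hy => by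
      obtain ⟨i, hi⟩ := hfixed x (hRX hx) hxz
      rw [← hi]
      exact ((D.dsplit.cent y (D.mem_cR.1 hy).1).zpow_right i).symm
    exact ((h1 p1 hp1 hp1z q1 hq1).mul_right (h1 p1 hp1 hp1z q2 hq2.1)).mul_left
      ((h1 q1 hq1 hq1z p2 hp2.1).symm.mul_right (HT.comm ha (hT' p2 hp2) (hT' q2 hq2)))
  obtain ⟨Rs, hRs1, hRs2, hRs3, hRs4⟩ := HT.exists_reps
  set q : G → ℕ := fun b => (qsetT (U43T.tor X b)).ncard with hq
  set t : G → ℕ := fun b => (threeSet (U43T.tor X b)).ncard with ht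
  have hterm : ∀ b ∈ Rs, (orbT X z b).ncard * (Nat.card (U43T.tor X b) - t b) = (orbT X z b).ncard * t b * (q b - 1) := by
    intro b hb
    rw [HT.card_tor (hRs1 b hb), mul_assoc]
    change (orbT X z b).ncard * (q b * t b - t b) = _
    rw [Nat.mul_sub (t b), mul_one, mul_comm (t b) (q b)]
  have horb : ∀ b, (orbT X z b).ncard ≤ 3 := fun b => by
    have h := Tori.orb_mul_stab (X := X) (z := z) b
    rw [hQ, hu3o] at h
    exact Nat.le_of_dvd (by norm_num) ⟨_, h.symm⟩
  have hqd : ∀ b ∈ Rs, q b ∣ r := fun b hb => by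
    obtain ⟨-, h2, -, h3⟩ := HT.qset_dvd (hRs1 b hb)
    rw [hr] at h2
    exact Nat.Coprime.dvd_of_dvd_mul_left (h3.pow_right 4) h2
  have hrsum : 27 * (r - 1) = ∑ b ∈ Rs, (orbT X z b).ncard * t b * (q b - 1) := by
    rw [← Finset.sum_congr rfl hterm, ← hRs4]
    omega
  -- a single class of maximal size
  have hr1 : r ≤ 1 := by
    by_contra hr1
    obtain ⟨b, hb⟩ : Rs.Nonempty := Finset.nonempty_iff_ne_empty.2 fun e => by
      rw [e, Finset.sum_empty] at hrsum; omega
    have hc : ∀ c ∈ Rs, (orbT X z c).ncard * t c ≤ 27 := fun c hc =>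
      (Nat.mul_le_mul (horb c) (ht9 c (hRs1 c hc))).trans (le_refl 27)
    obtain ⟨hdvd, hsum⟩ := prod_dvd_and_sum_le (Rs.erase b) q r
      (fun c hc => le_trans (by norm_num) (HT.qset_dvd (hRs1 c (Finset.mem_of_mem_erase hc))).1)
      (fun c hc => hqd c (Finset.mem_of_mem_erase hc))
      (fun c hc d hd hne => hRs2 c (Finset.mem_of_mem_erase hc) d (Finset.mem_of_mem_erase hd) hne)
    set P' := ∏ c ∈ Rs.erase b, q c with hP'
    have hqb := (HT.qset_dvd (hRs1 b hb)).1
    change 2 ≤ q b at hqb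
    have hmul : q b * P' ≤ r := by
      refine Nat.le_of_dvd (by omega) (Nat.Coprime.mul_dvd_of_dvd_of_dvd ?_ (hqd b hb) hdvd)
      exact Nat.Coprime.prod_right fun c hc => hRs2 b hb c (Finset.mem_of_mem_erase hc)
        (Finset.ne_of_mem_erase hc).symm
    rw [← Finset.add_sum_erase _ _ hb] at hrsum
    have hle : ∑ c ∈ Rs.erase b, (orbT X z c).ncard * t c * (q c - 1) ≤ 27 * ∑ c ∈ Rs.erase b, (q c - 1) := by
      rw [Finset.mul_sum]
      exact Finset.sum_le_sum fun c hc' => Nat.mul_le_mul_right _ (hc c (Finset.mem_of_mem_erase hc'))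
    have hP1 : 1 ≤ P' := le_trans (Nat.le_add_left 1 _) hsum
    obtain ⟨p, hp⟩ := Nat.exists_eq_add_of_le hP1
    obtain ⟨s, hs⟩ := Nat.exists_eq_add_of_le (show 1 ≤ q b by omega)
    obtain ⟨r', hr'⟩ := Nat.exists_eq_add_of_le (show 1 ≤ r by omega)
    have hcb := hc b hb
    rw [hs, Nat.add_sub_cancel_left, hr', Nat.add_sub_cancel_left] at hrsum
    rw [hp] at hsum
    rw [hs, hp, hr'] at hmul
    set K := (orbT X z b).ncard * t b with hK
    set SS := ∑ c ∈ Rs.erase b, (q c - 1) with hSS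
    have hp0 : s * p = 0 := by
      have h1 : s + p + s * p ≤ r' := by
        simp only [Nat.add_mul, Nat.mul_add, Nat.one_mul, Nat.mul_one] at hmul
        omega
      have h2 : K * s ≤ 27 * s := Nat.mul_le_mul_right s hcb
      omega
    have hs0 : s ≠ 0 := by omega
    obtain rfl : p = 0 := by simpa [hs0] using hp0
    have hK27 : K = 27 := by
      have h1 : s ≤ r' := by rw [Nat.mul_one] at hmul; omega
      have h2 : K * s ≤ 27 * s := Nat.mul_le_mul_right s hcb
      have h3 : 27 * s = K * s := by omega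
      exact (Nat.eq_of_mul_eq_mul_right (Nat.pos_of_ne_zero hs0) h3).symm
    -- no further class
    have hempty : Rs.erase b = ∅ := by
      refine Finset.eq_empty_of_forall_notMem fun c hc' => ?_
      have h0 : SS = 0 := by omega
      have := Finset.single_le_sum (f := fun c => q c - 1) (fun _ _ => Nat.zero_le _) hc'
      have hqc := (HT.qset_dvd (hRs1 c (Finset.mem_of_mem_erase hc'))).1
      change 2 ≤ q c at hqc
      change q c - 1 ≤ SS at this
      omega
    have htb : t b = 9 := by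
      have h1 := horb b
      have h2 := ht9 b (hRs1 b hb)
      change t b ≤ 9 at h2
      have h3 : (orbT X z b).ncard * t b ≤ 3 * t b := Nat.mul_le_mul_right _ h1
      omega
    obtain ⟨y, hy, hyv⟩ : ∃ y ∈ threeSet (U43T.tor X b), y ∉ zpowers v := by
      by_contra hno
      push Not at hno
      have h := Set.ncard_le_ncard (hno : threeSet (U43T.tor X b) ⊆ (zpowers v : Set G)) (Set.toFinite _)
      rw [← Nat.card_coe_set_eq (zpowers v : Set G)] at h
      change t b ≤ Nat.card (zpowers v) at h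
      rw [Nat.card_zpowers, orderOf_cube (D.jset_cube S hv) hv1, htb] at h
      omega
    have hyi := (HT.odd_inv (hRs1 b hb)).2 y hy.1
    have hyR : y ∈ R := hthree y (U43T.mem_tor.1 hy.1).1 hyi hy.2
    have huy : Commute u y := (D.dsplit.cent y (D.mem_cR.1 hyR).1).symm
    set M := X ⊓ centralizer ({y} : Set G) with hM
    have hMn : ∀ x ∈ M, z * x * z⁻¹ ∈ M := by
      intro x hx
      obtain ⟨h1, h2⟩ := mem_inf.1 hx
      refine mem_inf.2 ⟨hnorm x h1, mem_centralizer_singleton_iff.2 ?_⟩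
      have h : Commute (z * x * z⁻¹) (z * y * z⁻¹) :=
        (show Commute x y from mem_centralizer_singleton_iff.1 h2).map (MulAut.conj z).toMonoidHom
      rw [hyi] at h
      exact (Commute.inv_right_iff.1 h).eq
    have hMQ : M ⊓ centralizer ({z} : Set G) = zpowers u :=
      le_antisymm (fun x hx => hQ ▸ mem_inf.2 ⟨(mem_inf.1 (mem_inf.1 hx).1).1, (mem_inf.1 hx).2⟩)
        (zpowers_le.2 (mem_inf.2 ⟨mem_inf.2 ⟨memX.2 (D.dsplit.cent v hv.1).symm,
          mem_centralizer_singleton_iff.2 huy⟩, mem_centralizer_singleton_iff.2 huz⟩))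
    have hMinv : threeSet (U43T.tor X b) ∪ rset X z ⊆ Cfsg.invertedBy M z := by
      rintro w (hw | ⟨a, ha, hw, -⟩)
      · exact ⟨mem_inf.2 ⟨(U43T.mem_tor.1 hw.1).1, mem_centralizer_singleton_iff.2 (HT.comm (hRs1 b hb) hw.1 hy.1)⟩,
          (HT.odd_inv (hRs1 b hb)).2 w hw.1⟩
      · refine ⟨mem_inf.2 ⟨(U43T.mem_tor.1 hw).1, mem_centralizer_singleton_iff.2 ?_⟩, (HT.odd_inv ha).2 w hw⟩
        obtain ⟨c, hc', hca⟩ := hRs3 a ha
        obtain rfl : c = b := by
          by_contra hne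
          exact absurd (hempty ▸ Finset.mem_erase.2 ⟨hne, hc'⟩) (Finset.notMem_empty c)
        obtain ⟨g, hg, e⟩ := hca
        have hgu : g ∈ zpowers u := hQ ▸ hg
        have hgy : y ∈ U43T.tor X a := by
          rw [e, ← U43T.map_tor (mem_inf.1 hg).1]
          refine ⟨y, hy.1, ?_⟩
          obtain ⟨i, rfl⟩ := hgu
          exact conj_eq_iff_commute.2 (huy.zpow_left i)
        exact HT.comm ha hw hgy
    have hdisj2 : Disjoint (threeSet (U43T.tor X b)) (rset X z) :=
      Set.disjoint_left.2 fun w hw ⟨a, _, _, h3⟩ => h3 hw.2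
    have hMle : 9 + (rset X z).ncard ≤ (Cfsg.invertedBy M z).ncard := by
      refine le_trans (le_of_eq ?_) (Set.ncard_le_ncard hMinv (Set.toFinite _))
      rw [Set.ncard_union_eq hdisj2 (Set.toFinite _) (Set.toFinite _)]
      change 9 + _ = t b + _
      rw [htb]
    have hMcard : Nat.card M = 3 * (Cfsg.invertedBy M z).ncard := by
      rw [RankOne.card_decomp hzz M (hodd.of_dvd_nat (card_dvd_of_le inf_le_left)) hMn, hMQ, hu3o,
        Nat.card_coe_set_eq]
    obtain ⟨d, hd⟩ := card_dvd_of_le (inf_le_left : M ≤ X)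
    have hne : M ≠ X := by
      intro e
      have hyc : ∀ x ∈ R, Commute y x := fun x hx =>
        (show Commute x y from mem_centralizer_singleton_iff.1 (mem_inf.1 (e ▸ hRX hx : x ∈ M)).2).symm
      obtain ⟨i, j, hij⟩ := D.cR_centre S hv hv1 hyR hyc
      refine hyv ⟨j, ?_⟩
      have h := hyi
      rw [hij, ← conj_mul, conj_eq_iff_commute.2 (huz.symm.zpow_right i), ← conj_zpow, hv.2, mul_inv_rev, inv_zpow,
        ((D.dsplit.cent v hv.1).zpow_zpow j i).inv_inv.eq] at h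
      have h1 : F.f 144 ^ i = (F.f 144 ^ i)⁻¹ := mul_right_cancel h
      have hi1 : F.f 144 ^ i = 1 := RankOne.sq_inj
        ((RankOne.odd_orderOf D.odd (zpow_mem D.u_mem i))) (by simp) (by rw [one_mul]; exact mul_eq_one_iff_eq_inv.2 h1)
      show v ^ j = y
      rw [hij, hi1, one_mul]
    have hd2 : 2 ≤ d := by
      by_contra hlt
      interval_cases d
      · have := Nat.card_pos (α := X); omega
      · exact hne (eq_of_le_of_card_ge inf_le_left (by rw [hd, mul_one]))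
    have h81 : Nat.card M * 2 ≤ Nat.card X := hd ▸ Nat.mul_le_mul_left _ hd2
    omega
  refine (eq_of_le_of_card_ge hRX ?_).symm
  rw [hR81, hr]
  omega

end Frame.OData

end Cfsg.Agent.U43T
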