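import Cfsg.Agent.Lib.U43T.CTwo

/-!
Real elements with trivial centraliser in the centraliser of the involution.
-/

set_option autoImplicit false
set_option linter.unusedSectionVars false

namespace Cfsg.Agent.U43T

open Subgroup

variable {G : Type*} [Group G] [Finite G] {z z₀ : G}

/-- The real elements centralised by no non-trivial element of the centraliser of `z`. -/
def largeSet (z : G) : Set G := {w | w ∈ realSet z ∧ ∀ h, Commute h z → Commute h w → h = 1}

theorem small_or_large {w : G} (hw : w ∈ realSet z) : w ∈ smallSet z ∨ w ∈ largeSet z := by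
  by_cases h : ∃ h, Commute h z ∧ Commute h w ∧ h ≠ 1
  · exact Or.inl ⟨hw, h⟩
  · push Not at h
    exact Or.inr ⟨hw, h⟩

theorem not_small_large {w : G} (h1 : w ∈ smallSet z) (h2 : w ∈ largeSet z) : False := by
  obtain ⟨h, hz, hw, hne⟩ := h1.2
  exact hne (h2.2 h hz hw)

namespace Frame

variable (F : Frame z)

include F in
theorem large_cent {w : G} (hw : w ∈ largeSet z) :
    Odd (Nat.card ↥(centralizer ({w} : Set G))) ∧ ∀ x, Commute x w → z * x * z⁻¹ = x⁻¹ := by
  have hn : ∀ x ∈ centralizer ({w} : Set G), z * x * z⁻¹ ∈ centralizer ({w} : Set G) := fun x hx => by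
    have h : Commute (z * x * z⁻¹) (z * w * z⁻¹) :=
      (show Commute x w from mem_centralizer_singleton_iff.1 hx).map (MulAut.conj z).toMonoidHom
    rw [hw.1.2.1] at h
    exact mem_centralizer_singleton_iff.2 (Commute.inv_right_iff.1 h).eq
  obtain ⟨h1, h2⟩ := inverted_of_fixed_free F.centre_sq hn fun x hx hxz =>
    hw.2 x (mul_inv_eq_iff_eq_mul.1 hxz).symm (mem_centralizer_singleton_iff.1 hx)
  exact ⟨h1, fun x hx => h2 x (mem_centralizer_singleton_iff.2 hx.eq)⟩

theorem large_real {w x : G} (F : Frame z) (hw : w ∈ largeSet z) (hx : Commute x w) (hx1 : x ≠ 1) :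
    x ∈ realSet z :=
  ⟨RankOne.odd_orderOf (F.large_cent hw).1 (mem_centralizer_singleton_iff.2 hx.eq), (F.large_cent hw).2 x hx, hx1⟩

include F in
theorem small_card (S : Setting z₀) {v : G} (hv : v ∈ smallSet z) :
    UTy v ∨ ∃ a ∈ uList, Nat.card ↥(centralizer ({v} : Set G)) = 81 ∧ ∀ h, Commute h v → Commute h (F.f a) := by
  obtain ⟨hv1, h, hz, hh, h1⟩ := hv
  obtain ⟨a, ha, hva⟩ := F.real_cases S hv1 hz hh h1
  rcases F.uty_or_generic S hv1 ha hva with hU | hgen
  · exact Or.inl hU
  · exact Or.inr ⟨a, ha, F.generic_centraliser S hv1 ha hva hgen⟩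

theorem seven_twenty_nine (F : Frame z) (S : Setting z₀) : 3 ^ 6 ∣ Nat.card G := by
  obtain ⟨D⟩ := F.exists_odata
  refine dvd_trans ?_ (Subgroup.card_subgroup_dvd_card F.k1)
  rw [D.card_k1 S]
  norm_num

theorem exists_nonabelian (F : Frame z) (S : Setting z₀) :
    ∃ P : Subgroup G, IsPGroup 3 P ∧ ∃ r ∈ P, ∃ s ∈ P, ¬ Commute r s := by
  obtain ⟨D⟩ := F.exists_odata
  obtain ⟨C⟩ := S.exists_cycle F
  have hv := D.einv_sub S C (C.xt_mem_esub S) C.xt_rel.2.1
  obtain ⟨r, hr, s, hs, hrs⟩ := D.cR_not_comm S hv C.uty_xt.2.1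
  exact ⟨D.O, D.isPGroup S, r, (D.mem_cR.1 hr).1, s, (D.mem_cR.1 hs).1, hrs⟩

theorem large_not_three (F : Frame z) (S : Setting z₀) {w : G} (hw : w ∈ largeSet z) : ¬ IsThree w := by
  intro h3
  classical
  haveI : Fact (Nat.Prime 3) := ⟨Nat.prime_three⟩
  obtain ⟨k, hk⟩ := h3
  obtain ⟨m, -, hm⟩ := (Nat.dvd_prime_pow Nat.prime_three).1 (orderOf_dvd_of_pow_eq_one hk)
  obtain ⟨P, hP⟩ := (IsPGroup.of_card (G := zpowers w) (p := 3) (n := m)
    ((Nat.card_zpowers w).trans hm)).exists_le_sylow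
  have hwP : w ∈ (P : Subgroup G) := hP (mem_zpowers w)
  have hP729 : 729 ≤ Nat.card (P : Subgroup G) := by
    have h := F.seven_twenty_nine S
    rw [Sylow.card_eq_multiplicity P]
    have h6 : 6 ≤ (Nat.card G).factorization 3 :=
      (Nat.prime_three.pow_dvd_iff_le_factorization Nat.card_pos.ne').1 h
    exact le_trans (by norm_num) (Nat.pow_le_pow_right (by norm_num) h6)
  haveI : Nontrivial (P : Subgroup G) := Finite.one_lt_card_iff_nontrivial.1 (by omega)
  haveI := P.2.center_nontrivial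
  obtain ⟨⟨⟨c, hcP⟩, hcZ⟩, hc1⟩ := exists_ne (1 : center (P : Subgroup G))
  have hc1' : c ≠ 1 := fun e => hc1 (Subtype.ext (Subtype.ext e))
  have hcomm : ∀ x ∈ (P : Subgroup G), Commute x c := fun x hx =>
    congrArg Subtype.val (mem_center_iff.1 hcZ ⟨x, hx⟩)
  have hcr : c ∈ realSet z := F.large_real hw (hcomm w hwP).symm hc1'
  have hle : (P : Subgroup G) ≤ centralizer ({c} : Set G) := fun x hx =>
    mem_centralizer_singleton_iff.2 (hcomm x hx).eq
  rcases small_or_large hcr with hs | hl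
  · have hdvd := card_dvd_of_le hle
    rcases F.small_card S hs with hU | ⟨a, -, h81, -⟩
    · rw [S.card_uty hU] at hdvd
      have hle' := Nat.le_of_dvd (by norm_num) hdvd
      obtain ⟨j, hj⟩ := IsPGroup.iff_card.1 P.2
      rw [hj] at hP729 hdvd hle'
      have h6 : 6 ≤ j := by
        by_contra h
        have := Nat.pow_le_pow_right (show 0 < 3 by norm_num) (show j ≤ 5 by omega)
        omega
      exact absurd (dvd_trans (pow_dvd_pow 3 h6) hdvd) (by norm_num)
    · rw [h81] at hdvd
      have := Nat.le_of_dvd (by norm_num) hdvd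
      omega
  · obtain ⟨P', hP', r, hr, s, hs, hrs⟩ := F.exists_nonabelian S
    obtain ⟨P₂, hP₂⟩ := hP'.exists_le_sylow
    obtain ⟨g, hg⟩ := MulAction.exists_smul_eq G P₂ P
    have hin : ∀ x ∈ P', g * x * g⁻¹ ∈ centralizer ({c} : Set G) := fun x hx => hle (by
      rw [← hg, Sylow.coe_subgroup_smul]
      exact ⟨x, hP₂ hx, by simp [MulAut.conj_apply]⟩)
    refine hrs ?_
    have h := commute_of_inverted (X := centralizer ({c} : Set G)) (z := z)
      (fun x hx => (F.large_cent hl).2 x (mem_centralizer_singleton_iff.1 hx)) (hin r hr) (hin s hs)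
    have h' := h.map (MulAut.conj g⁻¹).toMonoidHom
    simpa [mul_assoc] using h'

theorem large_small (F : Frame z) (S : Setting z₀) {w v : G} (hw : w ∈ largeSet z) (hv : v ∈ smallSet z) :
    ¬ Commute w v := by
  intro h
  rcases F.small_card S hv with hU | ⟨a, ha, -, hcent⟩
  · have hd : orderOf w ∣ 972 := by
      rw [← S.card_uty hU, ← Subgroup.orderOf_mk w (mem_centralizer_singleton_iff.2 h.eq :
        w ∈ centralizer ({v} : Set G))]
      exact orderOf_dvd_natCard _
    refine F.large_not_three S hw ⟨5, orderOf_dvd_iff_pow_eq_one.1 ?_⟩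
    exact ((Nat.coprime_two_right.2 hw.1.1).pow_right 2).dvd_of_dvd_mul_left
      (show orderOf w ∣ 2 ^ 2 * 3 ^ 5 from hd)
  · obtain ⟨halt, h0, -⟩ := uList_facts.1 a ha
    exact h0 ((F.eq_one_iff halt).1 (hw.2 (F.f a) (F.comm a halt) (hcent w h).symm))

theorem large_closed (F : Frame z) (S : Setting z₀) {w x : G} (hw : w ∈ largeSet z) (hx : Commute x w)
    (hx1 : x ≠ 1) : x ∈ largeSet z := by
  rcases small_or_large (F.large_real hw hx hx1) with hs | hl
  · exact absurd hx.symm (F.large_small S hw hs)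
  · exact hl

/-- The order of a large real element is prime to six. -/
theorem large_coprime (F : Frame z) (S : Setting z₀) {w : G} (hw : w ∈ largeSet z) :
    Nat.Coprime (orderOf w) 6 := by
  obtain ⟨m, k, -, -, hm, ht⟩ := exists_coprime_part w
  have h1 : w ^ m = 1 := by
    by_contra h
    exact F.large_not_three S (F.large_closed S hw (Commute.pow_self w m) h) ht
  exact (Nat.coprime_two_right.2 hw.1.1).mul_right
    (Nat.Coprime.coprime_dvd_left (orderOf_dvd_of_pow_eq_one h1) hm)

end Frame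

end Cfsg.Agent.U43T
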