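import Cfsg.Agent.Lib.U43T.EOne

/-!
The involutions with even product with the given involution.
-/

set_option autoImplicit false
set_option linter.unusedSectionVars false

namespace Cfsg.Agent.U43T

open Subgroup

variable {G : Type*} [Group G] [Finite G] {z z₀ : G}

/-- The codes of a slice. -/
def sliceG (s g : ℕ) : Bool :=
  sqH g == 0 && g != 0 && ((List.range 24).foldl (fun acc _ => (acc.1 || mulH acc.2 (mulH s g) == 12,
    mulH acc.2 (mulH s g))) (false, 0)).1

/-- Being an involution of the outer kind. -/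
def outerB (g : ℕ) : Bool :=
  sqH g == 0 && g != 0 && g != 12 &&
    ((List.range 1152).any fun y => y != 0 && mulH (mulH y y) y == 0 && mulH y g == mulH g y)

/-- Being an involution of the inner kind. -/
def innerB (g : ℕ) : Bool :=
  sqH g == 0 && g != 0 && g != 12 &&
    !((List.range 1152).any fun y => y != 0 && mulH (mulH y y) y == 0 && mulH y g == mulH g y)

theorem even_facts : ((List.range 1152).filter outerB).length = 48 ∧ ((List.range 1152).filter innerB).length = 18 ∧
    ((List.range 1152).filter (sliceG 25)).length = 9 ∧ ((List.range 1152).filter (sliceG 576)).length = 21 ∧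
    ((List.range 1152).any fun y => y != 0 && mulH (mulH y y) y == 0 && mulH y 25 == mulH 25 y) = false ∧
    outerB 576 = true ∧ outerB 1014 = true := by
  decide +kernel

namespace Frame

variable {c : G} (F : Frame c)

theorem fold_powers {h : ℕ} (hh : h < 1152) (n : ℕ) :
    let r := (List.range n).foldl (fun acc _ => (acc.1 || mulH acc.2 h == 12, mulH acc.2 h)) (false, 0)
    r.2 < 1152 ∧ F.f r.2 = F.f h ^ n ∧ (r.1 = true ↔ ∃ k, 1 ≤ k ∧ k ≤ n ∧ F.f h ^ k = c) := by
  induction n with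
  | zero => simp [F.f0]
  | succ n ih =>
    obtain ⟨h1, h2, h3⟩ := ih
    simp only [List.range_succ, List.foldl_append, List.foldl_cons, List.foldl_nil]
    set r := (List.range n).foldl (fun acc _ => (acc.1 || mulH acc.2 h == 12, mulH acc.2 h)) (false, 0) with hr
    have e : F.f (mulH r.2 h) = F.f h ^ (n + 1) := by rw [F.mul _ _ h1 hh, h2, pow_succ]
    refine ⟨mulH_lt _ _, e, ?_⟩
    simp only [Bool.or_eq_true, beq_iff_eq]
    constructor
    · rintro (h' | h')
      · obtain ⟨k, k1, k2, k3⟩ := h3.1 h'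
        exact ⟨k, k1, by omega, k3⟩
      · exact ⟨n + 1, by omega, le_rfl, by rw [← e, h', F.fz]⟩
    · rintro ⟨k, k1, k2, k3⟩
      rcases Nat.lt_or_ge k (n + 1) with hlt | hge
      · exact Or.inl (h3.2 ⟨k, k1, by omega, k3⟩)
      · obtain rfl : k = n + 1 := by omega
        exact Or.inr (F.inj _ 12 (mulH_lt _ _) (by norm_num) (by rw [e, k3, F.fz]))

theorem slice_codes (z : G) {s : ℕ} (hs : s < 1152) (hse : F.f s = z) (hc : c * c = 1) :
    (sliceSet (⊤ : Subgroup G) z c).ncard = ((List.range 1152).filter (sliceG s)).length := by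
  refine F.ncard_codes _ _ ?_ ?_
  · rintro y ⟨-, hy⟩
    obtain ⟨n, hn⟩ := hy
    dsimp only at hn
    have h : Commute (z * y) c := by
      have h' := Commute.self_zpow (z * y) n
      rwa [hn] at h'
    have := (hse ▸ F.comm s hs : Commute z c).inv_left.mul_left h
    rwa [inv_mul_cancel_left] at this
  · intro g hg
    simp only [sliceG, Bool.and_eq_true, beq_iff_eq, bne_iff_ne]
    rw [← F.sq_eq_one_iff hg]
    have hf := F.fold_powers (mulH_lt s g) 24
    simp only at hf
    obtain ⟨-, -, h3⟩ := hf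
    rw [h3, F.mul _ _ hs hg, hse]
    have h24 : (z * F.f g) ^ 24 = 1 := F.pow_twentyfour (by rw [← hse]; exact (F.comm s hs).mul_left (F.comm g hg))
    constructor
    · rintro ⟨⟨-, h2, h1⟩, h4⟩
      refine ⟨⟨h2, fun e => h1 ((F.eq_one_iff hg).2 e)⟩, ?_⟩
      obtain ⟨k, hk⟩ := mem_powers_iff_mem_zpowers.2 h4
      dsimp only at hk
      have e : (z * F.f g) ^ (k % 24) = c := by
        refine Eq.trans ?_ hk
        conv_rhs => rw [← Nat.div_add_mod k 24, pow_add, pow_mul, h24, one_pow, one_mul]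
      rcases Nat.eq_zero_or_pos (k % 24) with h0 | hpos
      · exact absurd (by rw [← e, h0, pow_zero]) F.centre_ne
      · exact ⟨k % 24, hpos, (Nat.mod_lt k (by norm_num)).le, e⟩
    · rintro ⟨⟨h2, h1⟩, k, -, -, e⟩
      exact ⟨⟨Subgroup.mem_top _, h2, fun e' => h1 ((F.eq_one_iff hg).1 e')⟩, by
        have h := npow_mem_zpowers (z * F.f g) k
        rwa [e] at h⟩

end Frame

namespace Frame

variable (F : Frame z)

include F in
theorem slice_outer (S : Setting z₀) {c y : G} (hc : c * c = 1) (hc1 : c ≠ 1) (hcz : Commute c z) (hne : c ≠ z)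
    (hy : y * y * y = 1) (hy1 : y ≠ 1) (hyz : Commute y z) (hyc : Commute y c) :
    (sliceSet (⊤ : Subgroup G) z c).ncard = 21 := by
  obtain ⟨Fc⟩ := S.exists_frame hc hc1
  obtain ⟨Fn, h576, -⟩ := Fc.normalise F.centre_sq F.centre_ne (fun e => hne e.symm) hcz.symm hy hy1 hyc hyz
  rw [Fn.slice_codes z (by norm_num) h576 hc, even_facts.2.2.2.1]

include F in
theorem slice_inner (S : Setting z₀) {c : G} (hc : c * c = 1) (hc1 : c ≠ 1) (hcz : Commute c z) (hne : c ≠ z)
    (hno : ∀ y : G, y * y * y = 1 → y ≠ 1 → Commute y z → Commute y c → False) :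
    (sliceSet (⊤ : Subgroup G) z c).ncard = 9 := by
  obtain ⟨Fc⟩ := S.exists_frame hc hc1
  obtain ⟨s, hs, hse⟩ := Fc.surj z hcz.symm
  have hs2 : sqH s = 0 := (Fc.sq_eq_one_iff hs).1 (by rw [hse]; exact F.centre_sq)
  have hsh : ∀ t k, k < 1152 → cjH k s = t → ∃ Fn : Frame c, Fn.f t = z := by
    intro t k hk e
    refine ⟨Fc.shift (Fc.f k)⁻¹ (Fc.comm k hk).inv_left, ?_⟩
    rw [Fc.shift_f, ← e, Fc.f_cjH hk hs, hse]; group
  have houter : ∀ t, t < 1152 → outerB t = true → ∀ Fn : Frame c, Fn.f t = z → False := by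
    intro t ht hb Fn hFn
    simp only [outerB, Bool.and_eq_true, List.any_eq_true, List.mem_range, bne_iff_ne, beq_iff_eq] at hb
    obtain ⟨-, y, hy, ⟨hy0, hy3⟩, hyt⟩ := hb
    exact hno (Fn.f y) (Fn.cube_of_code hy hy3) (fun e => hy0 ((Fn.eq_one_iff hy).1 e))
      (hFn ▸ (Fn.commute_iff hy ht).2 hyt) (Fn.comm y hy)
  rcases invol_classes ⟨s, hs⟩ hs2 with h | h | h | h | h
  · simp only at h
    exact absurd (by rw [← hse, h, Fc.f0]) F.centre_ne
  · simp only at h
    exact absurd (by rw [← hse, h, Fc.fz]) (fun e : c = z => hne e)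
  all_goals (simp only [List.any_eq_true, List.mem_range, beq_iff_eq] at h; obtain ⟨k, hk, e⟩ := h)
  · obtain ⟨Fn, hFn⟩ := hsh _ k hk e
    rw [Fn.slice_codes z (by norm_num) hFn hc, even_facts.2.2.1]
  · obtain ⟨Fn, hFn⟩ := hsh _ k hk e
    exact (houter _ (by norm_num) even_facts.2.2.2.2.2.1 Fn hFn).elim
  · obtain ⟨Fn, hFn⟩ := hsh _ k hk e
    exact (houter _ (by norm_num) even_facts.2.2.2.2.2.2 Fn hFn).elim

include F in
/-- The number of involutions with even product with `z`. -/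
theorem ncard_even (S : Setting z₀) : (evenSet (⊤ : Subgroup G) z).ncard = 1170 := by
  classical
  set P : G → Prop := fun c => ∃ y : G, y * y * y = 1 ∧ y ≠ 1 ∧ Commute y z ∧ Commute y c with hP
  have hax : ∀ g, g < 1152 → (F.f g ∈ axesSet (⊤ : Subgroup G) z ↔ (sqH g = 0 ∧ g ≠ 0) ∧ g ≠ 12) := by
    intro g hg
    rw [← F.sq_eq_one_iff hg]
    constructor
    · rintro ⟨⟨-, h2, h1⟩, -, hne⟩
      exact ⟨⟨h2, fun e => h1 ((F.eq_one_iff hg).2 e)⟩, fun e => hne (by rw [e, F.fz])⟩
    · rintro ⟨⟨h2, h1⟩, h12⟩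
      exact ⟨⟨Subgroup.mem_top _, h2, fun e => h1 ((F.eq_one_iff hg).1 e)⟩, F.comm g hg,
        fun e => h12 (F.inj g 12 hg (by norm_num) (e.trans F.fz.symm))⟩
  have hPc : ∀ g, g < 1152 → (P (F.f g) ↔
      ((List.range 1152).any fun y => y != 0 && mulH (mulH y y) y == 0 && mulH y g == mulH g y) = true) := by
    intro g hg
    simp only [hP, List.any_eq_true, List.mem_range, Bool.and_eq_true, bne_iff_ne, beq_iff_eq]
    constructor
    · rintro ⟨y, y3, y1, yz, yg⟩
      obtain ⟨k, hk, rfl⟩ := F.surj y yz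
      exact ⟨k, hk, ⟨fun e => y1 ((F.eq_one_iff hk).2 e), (F.cube_eq_one_iff hk).1 y3⟩, (F.commute_iff hk hg).1 yg⟩
    · rintro ⟨y, hy, ⟨hy0, hy3⟩, hyg⟩
      exact ⟨F.f y, F.cube_of_code hy hy3, fun e => hy0 ((F.eq_one_iff hy).1 e), F.comm y hy,
        (F.commute_iff hy hg).2 hyg⟩
  have h48 : {c | c ∈ axesSet (⊤ : Subgroup G) z ∧ P c}.ncard = 48 := by
    rw [F.ncard_codes outerB _ (fun x hx => hx.1.2.1) ?_, even_facts.1]
    intro g hg
    simp only [Set.mem_ofPred_eq, outerB, Bool.and_eq_true, beq_iff_eq, bne_iff_ne]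
    rw [hax g hg, hPc g hg]
  have h18 : {c | c ∈ axesSet (⊤ : Subgroup G) z ∧ ¬ P c}.ncard = 18 := by
    rw [F.ncard_codes innerB _ (fun x hx => hx.1.2.1) ?_, even_facts.2.1]
    intro g hg
    simp only [Set.mem_ofPred_eq, innerB, Bool.and_eq_true, beq_iff_eq, bne_iff_ne, Bool.not_eq_eq_eq_not,
      Bool.not_true]
    rw [hax g hg, hPc g hg, Bool.not_eq_true]
  rw [ncard_evenSet (Subgroup.mem_top z) F.centre_sq F.centre_ne, ← Finset.sum_filter_add_sum_filter_not _ P,
    Finset.sum_const_nat (m := 21), Finset.sum_const_nat (m := 9)]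
  · have e1 : ((axesSet (⊤ : Subgroup G) z).toFinite.toFinset.filter P).card = 48 := by
      rw [← h48, Set.ncard_eq_toFinset_card _ (Set.toFinite _)]
      congr 1; ext x; simp
    have e2 : ((axesSet (⊤ : Subgroup G) z).toFinite.toFinset.filter fun x => ¬ P x).card = 18 := by
      rw [← h18, Set.ncard_eq_toFinset_card _ (Set.toFinite _)]
      congr 1; ext x; simp
    rw [e1, e2]
  · intro c hc
    simp only [Finset.mem_filter, Set.Finite.mem_toFinset, hP] at hc
    obtain ⟨⟨⟨-, h2, h1⟩, hcz, hne⟩, hno⟩ := hc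
    exact F.slice_inner S h2 h1 hcz hne fun y a b c' d => hno ⟨y, a, b, c', d⟩
  · intro c hc
    simp only [Finset.mem_filter, Set.Finite.mem_toFinset, hP] at hc
    obtain ⟨⟨⟨-, h2, h1⟩, hcz, hne⟩, y, a, b, c', d⟩ := hc
    exact F.slice_outer S h2 h1 hcz hne a b c' d

end Frame

end Cfsg.Agent.U43T
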