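import Cfsg.Agent.Lib.U43T.Param

/-!
The involution centraliser is the coded group.
-/

set_option autoImplicit false
set_option linter.unusedSectionVars false

namespace Cfsg.Agent.U43T

open Subgroup

variable {G : Type*} [Group G] [Finite G] {z : G}

/-- An identification of the centraliser of `c` with the coded group. -/
structure Frame (c : G) where
  f : ℕ → G
  mul : ∀ g h, g < 1152 → h < 1152 → f (mulH g h) = f g * f h
  comm : ∀ g, g < 1152 → Commute (f g) c
  inj : ∀ g h, g < 1152 → h < 1152 → f g = f h → g = h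
  surj : ∀ x, Commute x c → ∃ g, g < 1152 ∧ f g = x
  fz : f 12 = c

/-- Transport of a frame by conjugation. -/
def Frame.conj {c : G} (F : Frame c) (a : G) : Frame (a * c * a⁻¹) where
  f g := a * F.f g * a⁻¹
  mul g h hg hh := by rw [F.mul g h hg hh, conj_mul]
  comm g hg := by
    show _ = _
    rw [conj_mul, conj_mul, (F.comm g hg).eq]
  inj g h hg hh e := F.inj g h hg hh (mul_left_cancel (mul_right_cancel e))
  surj x hx := by
    obtain ⟨g, hg, e⟩ := F.surj (a⁻¹ * x * a) (by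
      show a⁻¹ * x * a * c = c * (a⁻¹ * x * a)
      calc a⁻¹ * x * a * c = a⁻¹ * (x * (a * c * a⁻¹)) * a := by group
        _ = _ := by rw [hx.eq]; group)
    exact ⟨g, hg, by show a * F.f g * a⁻¹ = x; rw [e]; group⟩
  fz := by show a * F.f 12 * a⁻¹ = _; rw [F.fz]

namespace PFrame

variable {K : KData z} {a b c : ℕ} (F : PFrame K a b c)

theorem φ_code {k : ℕ} (hk : k < 288) : F.φ k = K.ι k := by
  rw [F.φ_def, Nat.mod_eq_of_lt hk, Nat.div_eq_of_lt hk, show k / 576 = 0 from Nat.div_eq_of_lt (by omega)]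
  simp

theorem φ_i {k : ℕ} (hk : k < 288) : F.φ (k + 288) = K.ι k * F.t := by
  rw [F.φ_def, show (k + 288) % 288 = k by omega, show (k + 288) / 288 % 2 = 1 by omega,
    show (k + 288) / 576 = 0 by omega]
  simp

theorem φ_j {k : ℕ} (hk : k < 288) : F.φ (k + 576) = K.ι k * F.s := by
  rw [F.φ_def, show (k + 576) % 288 = k by omega, show (k + 576) / 288 % 2 = 0 by omega,
    show (k + 576) / 576 = 1 by omega]
  simp

theorem outer_comm : Commute F.t z ∧ Commute F.s z := by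
  have h1 := F.comm (0 + 288) (by norm_num)
  have h2 := F.comm (0 + 576) (by norm_num)
  rw [F.φ_i (by norm_num), K.ι_zero, one_mul] at h1
  rw [F.φ_j (by norm_num), K.ι_zero, one_mul] at h2
  exact ⟨h1, h2⟩

theorem cond_true (F : PFrame K a b c) (P : PairD K) : condP a b c = true := by
  classical
  obtain ⟨htz, hsz⟩ := F.outer_comm
  have mk : ∀ {r : G}, Commute r z → ∃ k, k < 288 ∧ K.ι k * r ∈ P.bsub := by
    intro r hr
    obtain ⟨k, hk, x, hx, e⟩ := P.exists_b hr
    exact ⟨iK k, (iK_spec ⟨k, hk⟩).2, by rw [K.ι_iK hk, e, inv_mul_cancel_left]; exact hx⟩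
  obtain ⟨k, hk, hX⟩ := mk htz
  obtain ⟨l, hl, hY⟩ := mk hsz
  rw [← F.φ_i hk] at hX
  rw [← F.φ_j hl] at hY
  set X := k + 288 with hXdef
  set Y := l + 576 with hYdef
  have hX1 : X < 1152 := by omega
  have hY1 : Y < 1152 := by omega
  have code : ∀ {g h : ℕ}, g < 1152 → h < 1152 → F.φ g = F.φ h → g = h := fun hg hh e => F.inj _ _ hg hh e
  have hV : ∀ v ∈ vList, v < 1152 ∧ F.φ v = K.ι v := fun v hv =>
    ⟨by have := (vList_lt v hv).1; omega, F.φ_code (vList_lt v hv).1⟩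
  have c25 : F.φ 25 = K.ι 25 := F.φ_code (by norm_num)
  have hcentV : ∀ v ∈ vList, ∀ x ∈ P.bsub, Commute x (K.ι v) := by
    intro v hv x hx
    obtain ⟨hxg, hxz⟩ := P.mem_bsub.1 hx
    simp only [vList, List.mem_cons, List.not_mem_nil, or_false] at hv
    rcases hv with rfl | rfl | rfl | rfl
    · rw [K.ι_zero]; exact Commute.one_right x
    · rw [K.ι_z]; exact hxz
    · exact P.qg_comm_s hxg
    · rw [show (37 : ℕ) = mulK 12 25 by decide +kernel, K.ι_mul (by norm_num) (by norm_num), K.ι_z]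
      exact hxz.mul_right (P.qg_comm_s hxg)
  -- relation between an element of the quaternion centraliser and an element of `bsub`
  have hrelq : ∀ q ∈ cqList, ∀ w, w < 1152 → F.φ w ∈ P.bsub → ∃ v ∈ vList, relP a b c q w v = true ∧
      relP a b c w q v = true := by
    intro q hq w hw hwB
    obtain ⟨hqQ, hqs⟩ := cq_in q hq
    have hq' := CP.qList_lt q hqQ
    obtain ⟨v, hv, e⟩ := P.cq_commutator hwB hq
    have hqv : Commute (K.ι q) (K.ι v) := by
      refine (K.commute_iff hq' (vList_lt v hv).1).2 ?_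
      have : ∀ q ∈ cqList, ∀ v ∈ vList, mulK q v = mulK v q := by decide +kernel
      exact this q hq v hv
    have hvv : K.ι v * K.ι v = 1 := by
      rw [← K.ι_mul (vList_lt v hv).1 (vList_lt v hv).1, ← K.ι_zero]
      exact congrArg K.ι ((show ∀ v ∈ vList, mulK v v = 0 by decide +kernel) v hv)
    have hwv := hcentV v hv _ hwB
    refine ⟨v, hv, ?_, ?_⟩ <;> simp only [relP, beq_iff_eq] <;>
      refine code (mulP_lt ..) (mulP_lt ..) ?_ <;>
      rw [F.mul _ _ (by omega) (by omega), F.mul _ _ (mulP_lt ..) (hV v hv).1, F.mul _ _ (by omega) (by omega),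
        F.φ_code hq', (hV v hv).2]
    · -- q w = w q v
      have h1 : F.φ w * K.ι q = K.ι v * (K.ι q * F.φ w) := by rw [e]; group
      rw [h1, mul_assoc (K.ι v), (hqv.mul_left hwv).eq, ← mul_assoc, hvv, one_mul]
    · have h1 : F.φ w * K.ι q = K.ι v * (K.ι q * F.φ w) := by rw [e]; group
      rw [h1, (hqv.mul_left hwv).eq]
  have hsq : ∀ w, w < 1152 → F.φ w ∈ P.bsub → [0, 25].any (fun v => mulP a b c w w == v) = true := by
    intro w hw hwB
    simp only [List.any_eq_true, List.mem_cons, List.not_mem_nil, or_false, beq_iff_eq]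
    rcases P.qg_sq (P.mem_bsub.1 hwB).1 with h | h
    · exact ⟨0, Or.inl rfl, code (mulP_lt ..) (by norm_num)
        (by rw [F.mul _ _ hw hw, h, F.φ_code (by norm_num), K.ι_zero])⟩
    · exact ⟨25, Or.inr rfl, code (mulP_lt ..) (by norm_num) (by rw [F.mul _ _ hw hw, h, c25])⟩
  have hcand : ∀ w, w < 1152 → F.φ w ∈ P.bsub → candP a b c w = true := by
    intro w hw hwB
    simp only [candP, Bool.and_eq_true, beq_iff_eq]
    refine ⟨⟨⟨?_, hsq w hw hwB⟩, ?_⟩, ?_⟩
    · exact code (mulP_lt ..) (mulP_lt ..) (by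
        rw [F.mul _ _ hw (by norm_num), F.mul _ _ (by norm_num) hw, c25, (P.qg_comm_s (P.mem_bsub.1 hwB).1).eq])
    · obtain ⟨v, hv, -, h⟩ := hrelq 1 (by decide) w hw hwB
      exact List.any_eq_true.2 ⟨v, hv, h⟩
    · obtain ⟨v, hv, -, h⟩ := hrelq 175 (by decide) w hw hwB
      exact List.any_eq_true.2 ⟨v, hv, h⟩
  simp only [condP, List.any_eq_true, List.mem_filter, List.mem_map, List.mem_range, Bool.and_eq_true]
  refine ⟨X, ⟨⟨k, hk, rfl⟩, hcand X hX1 hX⟩, Y, ⟨⟨l, hl, rfl⟩, hcand Y hY1 hY⟩, ?_⟩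
  have hXY : (relP a b c X Y 0 || relP a b c X Y 25) = true := by
    simp only [relP, Bool.or_eq_true, beq_iff_eq]
    rcases P.qg_commutator (P.mem_bsub.1 hX).1 (P.mem_bsub.1 hY).1 with h | h
    · left
      refine code (mulP_lt ..) (mulP_lt ..) ?_
      rw [F.mul _ _ hX1 hY1, F.mul _ _ (mulP_lt ..) (by norm_num), F.mul _ _ hY1 hX1,
        F.φ_code (k := 0) (by norm_num), K.ι_zero, mul_one]
      calc F.φ X * F.φ Y = F.φ Y * F.φ X * ((F.φ X)⁻¹ * (F.φ Y)⁻¹ * (F.φ X * F.φ Y)) := by group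
        _ = _ := by rw [h, mul_one]
    · right
      refine code (mulP_lt ..) (mulP_lt ..) ?_
      rw [F.mul _ _ hX1 hY1, F.mul _ _ (mulP_lt ..) (by norm_num), F.mul _ _ hY1 hX1, c25]
      calc F.φ X * F.φ Y = F.φ Y * F.φ X * ((F.φ X)⁻¹ * (F.φ Y)⁻¹ * (F.φ X * F.φ Y)) := by group
        _ = _ := by rw [h]
  -- the automorphism
  obtain ⟨h, hhg, hhz⟩ : ∃ h ∈ P.qg, ¬ Commute h z := by
    by_contra hc
    push Not at hc
    have heq : P.bsub = P.qg := le_antisymm inf_le_left fun x hx => P.mem_bsub.2 ⟨hx, hc x hx⟩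
    have h1 := P.card_bsub
    rw [heq, show Nat.card P.qg = Nat.card ↥(K.qsub.map (MulAut.conj P.g).toMonoidHom) from rfl,
      card_map_of_injective (MulEquiv.injective _), K.card_qsub] at h1
    omega
  have hhs : Commute h (K.ι 25) := P.qg_comm_s hhg
  have h37 : K.ι 37 = z * K.ι 25 := by
    rw [show (37 : ℕ) = mulK 12 25 by decide +kernel, K.ι_mul (by norm_num) (by norm_num), K.ι_z]
  have hzinv : z⁻¹ = z := inv_eq_of_mul_eq_one_right K.z_mul_z
  have hconjz : h * z * h⁻¹ = K.ι 37 := by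
    have key : ∀ e, h⁻¹⁻¹ * z⁻¹ * (h⁻¹ * z) = e → h * z * h⁻¹ = e * z := fun e he => by
      rw [← he, inv_inv, hzinv]
      calc h * z * h⁻¹ = h * z * h⁻¹ * (z * z) := by rw [K.z_mul_z, mul_one]
        _ = _ := by group
    rw [h37]
    rcases P.qg_commutator (inv_mem hhg) P.z_mem_qg with e | e
    · refine absurd ?_ hhz
      have h1 := key _ e
      rw [one_mul] at h1
      exact mul_inv_eq_iff_eq_mul.1 h1
    · rw [key _ e, ((K.k_cent 25 (by norm_num))).eq]
  have hconjV : ∀ v ∈ vList, h * K.ι v * h⁻¹ = K.ι (th v) := by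
    intro v hv
    simp only [vList, List.mem_cons, List.not_mem_nil, or_false] at hv
    rcases hv with rfl | rfl | rfl | rfl
    · rw [show th 0 = 0 from rfl, K.ι_zero]; group
    · rw [show th 12 = 37 from rfl, K.ι_z, hconjz]
    · rw [show th 25 = 25 from rfl, hhs.eq]; group
    · rw [show th 37 = 12 from rfl, h37, ← conj_mul, hconjz, hhs.eq, mul_inv_cancel_right, h37, K.ι_z, mul_assoc,
        ← K.ι_mul (by norm_num) (by norm_num), show mulK 25 25 = 0 by decide +kernel, K.ι_zero, mul_one]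
  have hth : ∀ v ∈ vList, th v ∈ vList := by decide
  -- images
  have himg : ∀ q ∈ cqList, ∃ d ∈ dList a b c X Y, d < 1152 ∧ F.φ d = h * K.ι q * h⁻¹ := by
    intro q hq
    obtain ⟨hqQ, hqs⟩ := cq_in q hq
    have hq' := CP.qList_lt q hqQ
    set d := h * K.ι q * h⁻¹ with hd
    have hdz : Commute d z := by
      show d * z = z * d
      have hz' : h⁻¹ * z * h = z * K.ι 25 := by
        have := hconjV 37 (by decide)
        rw [show th 37 = 12 from rfl, K.ι_z, h37] at this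
        calc h⁻¹ * z * h = h⁻¹ * (h * (z * K.ι 25) * h⁻¹) * h := by rw [this]
          _ = z * K.ι 25 := by group
      have hc : Commute (K.ι q) (z * K.ι 25) :=
        (K.k_cent q hq').mul_right ((K.commute_iff hq' (by norm_num)).2 hqs)
      calc d * z = h * (K.ι q * (h⁻¹ * z * h)) * h⁻¹ := by rw [hd]; group
        _ = z * d := by rw [hz', hc.eq, ← hz', hd]; group
    have h7z : Commute (K.ι 7) z := K.k_cent 7 (by norm_num)
    have hwg : (K.ι 7)⁻¹ * d * K.ι 7 ∈ P.qg := by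
      rw [P.mem_qg]
      have he : Commute (h⁻¹ * K.ι 7 * P.g) z := by
        show h⁻¹ * K.ι 7 * P.g * z = z * (h⁻¹ * K.ι 7 * P.g)
        have e7 : K.ι 7 * K.ι 25 = z * (K.ι 25 * K.ι 7) := by
          rw [← K.ι_mul (by norm_num) (by norm_num), seven, K.ι_mul (by norm_num) (mulK_lt (by norm_num) (by norm_num)),
            K.ι_mul (by norm_num) (by norm_num), K.ι_z]
        have hz' : h⁻¹ * (z * K.ι 25) = z * h⁻¹ := by
          rw [← h37, ← hconjz]; group
        calc h⁻¹ * K.ι 7 * P.g * z = h⁻¹ * (K.ι 7 * (P.g * z * P.g⁻¹)) * P.g := by group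
          _ = h⁻¹ * (z * K.ι 25) * K.ι 7 * P.g := by rw [P.hg, e7]; group
          _ = z * (h⁻¹ * K.ι 7 * P.g) := by rw [hz']; group
      have := K.conj_qsub he.inv_left ⟨q, hqQ, rfl⟩
      convert this using 1
      rw [hd]; group
    set w := (K.ι 7)⁻¹ * d * K.ι 7 with hw
    have hwB : w ∈ P.bsub := P.mem_bsub.2 ⟨hwg, (h7z.inv_left.mul_left hdz).mul_left h7z⟩
    obtain ⟨e, he, hee⟩ := F.surj w (P.mem_bsub.1 hwB).2
    -- a representative in the same coset
    have hrep : ∃ r ∈ [0, X, Y, mulP a b c X Y], r < 1152 ∧ F.φ r ∈ P.bsub ∧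
        ∃ m, m < 288 ∧ F.φ r = K.ι m * F.t ^ (e / 288 % 2) * F.s ^ (e / 576) := by
      have hz0 : F.φ 0 = 1 := by rw [F.φ_code (by norm_num), K.ι_zero]
      have h01 : e / 288 % 2 = 0 ∨ e / 288 % 2 = 1 := by omega
      have h02 : e / 576 = 0 ∨ e / 576 = 1 := by omega
      rcases h01 with hi | hi <;> rcases h02 with hj | hj <;> rw [hi, hj]
      · exact ⟨0, by simp, by norm_num, hz0 ▸ one_mem _, 0, by norm_num, by simp [hz0, K.ι_zero]⟩
      · exact ⟨Y, by simp, hY1, hY, l, hl, by rw [hYdef, F.φ_j hl]; simp⟩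
      · exact ⟨X, by simp, hX1, hX, k, hk, by rw [hXdef, F.φ_i hk]; simp⟩
      · refine ⟨_, by simp, mulP_lt .., F.mul _ _ hX1 hY1 ▸ mul_mem hX hY, ?_⟩
        obtain ⟨m, hm, hme⟩ := K.normal F.t htz l hl
        refine ⟨mulK k m, mulK_lt hk hm, ?_⟩
        rw [F.mul _ _ hX1 hY1, hXdef, F.φ_i hk, hYdef, F.φ_j hl, K.ι_mul hk hm, ← hme, pow_one, pow_one]
        group
    obtain ⟨r, hr, hr1, hrB, m, hm, hme⟩ := hrep
    have he' : e % 288 < 288 := Nat.mod_lt _ (by norm_num)
    have him := (iK_spec ⟨m, hm⟩).2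
    set v := mulK (e % 288) (iK m) with hv
    have hv' : v < 288 := mulK_lt he' him
    have hve : K.ι v = w * (F.φ r)⁻¹ := by
      rw [hv, K.ι_mul he' him, K.ι_iK hm, hme, ← hee, F.φ_def e]
      group
    have hvV : v ∈ vList := P.bsub_inter hv' (hve ▸ mul_mem hwB (inv_mem hrB))
    refine ⟨mulP a b c (mulP a b c 7 (mulP a b c v r)) (iK 7), ?_, mulP_lt .., ?_⟩
    · simp only [dList, List.mem_flatMap, List.mem_map]
      exact ⟨v, hvV, r, hr, rfl⟩
    · have h7 := (iK_spec ⟨7, by norm_num⟩).2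
      rw [F.mul _ _ (mulP_lt ..) (by simp only at h7; omega), F.mul _ _ (by norm_num) (mulP_lt ..),
        F.mul _ _ (by omega) hr1, F.φ_code (by norm_num), F.φ_code hv', F.φ_code h7, K.ι_iK (by norm_num), hve,
        hw]
      group
  have himgP : ∀ q ∈ cqList, ∀ d, d < 1152 → F.φ d = h * K.ι q * h⁻¹ → imgP a b c X Y q d = true := by
    intro q hq d hd1 hde
    have hq' := CP.qList_lt q (cq_in q hq).1
    simp only [imgP, Bool.and_eq_true, List.any_eq_true, beq_iff_eq]
    have hwrel : ∀ w, w < 1152 → F.φ w ∈ P.bsub →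
        ∃ v ∈ vList, relP a b c q w v = true ∧ relP a b c d w (th v) = true := by
      intro w hw hwB
      obtain ⟨v, hv, h1, -⟩ := hrelq q hq w hw hwB
      refine ⟨v, hv, h1, ?_⟩
      simp only [relP, beq_iff_eq] at h1 ⊢
      refine code (mulP_lt ..) (mulP_lt ..) ?_
      have hv' := hth v hv
      rw [F.mul _ _ hd1 hw, F.mul _ _ (mulP_lt ..) (hV _ hv').1, F.mul _ _ hw hd1, hde, (hV _ hv').2]
      have h1' := congrArg F.φ h1
      rw [F.mul _ _ (by omega) hw, F.mul _ _ (mulP_lt ..) (hV v hv).1, F.mul _ _ hw (by omega), F.φ_code hq',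
        (hV v hv).2] at h1'
      -- the image of the element of the conjugate group differs by a central element
      obtain ⟨hwg, -⟩ := P.mem_bsub.1 hwB
      obtain ⟨ε, hεc, hεq, hc⟩ : ∃ ε, Commute ε (F.φ w) ∧ Commute ε (h * K.ι q * h⁻¹) ∧
          h * F.φ w * h⁻¹ = F.φ w * ε := by
        have key : ∀ e, Commute e (F.φ w) → h⁻¹⁻¹ * (F.φ w)⁻¹ * (h⁻¹ * F.φ w) = e →
            h * F.φ w * h⁻¹ = F.φ w * e⁻¹ := fun e _ he => by
          rw [← he]; group
        rcases P.qg_commutator (inv_mem hhg) hwg with e | e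
        · exact ⟨1, Commute.one_left _, Commute.one_left _, by rw [key 1 (Commute.one_left _) e, inv_one]⟩
        · refine ⟨(K.ι 25)⁻¹, (P.qg_comm_s hwg).symm.inv_left, ?_, key _ (P.qg_comm_s hwg).symm e⟩
          exact (((hhs.symm.mul_right ((K.commute_iff (by norm_num) hq').2 (cq_in q hq).2.symm)).mul_right
            hhs.symm.inv_right)).inv_left
      have hmain : h * K.ι q * h⁻¹ * F.φ w * ε = F.φ w * (h * K.ι q * h⁻¹) * K.ι (th v) * ε := by
        have hεv : Commute ε (h * K.ι v * h⁻¹) := by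
          rw [show h * K.ι v * h⁻¹ = (h * F.φ w * h⁻¹ * (h * K.ι q * h⁻¹))⁻¹ *
            ((h * K.ι q * h⁻¹) * (h * F.φ w * h⁻¹)) by
              have hh' : K.ι v = (F.φ w * K.ι q)⁻¹ * (K.ι q * F.φ w) := by rw [h1']; group
              rw [hh']; group, hc]
          exact (((hεc.mul_right (Commute.refl ε)).mul_right hεq)).inv_right.mul_right
            (hεq.mul_right (hεc.mul_right (Commute.refl ε)))
        calc h * K.ι q * h⁻¹ * F.φ w * ε = h * (K.ι q * F.φ w) * h⁻¹ := by rw [mul_assoc, ← hc]; group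
          _ = (h * F.φ w * h⁻¹) * (h * K.ι q * h⁻¹) * (h * K.ι v * h⁻¹) := by rw [h1']; group
          _ = F.φ w * (ε * (h * K.ι q * h⁻¹) * (h * K.ι v * h⁻¹)) := by rw [hc]; group
          _ = _ := by
            rw [mul_assoc ε, (hεq.mul_right hεv).eq, hconjV v hv]; group
      exact mul_right_cancel hmain
    refine ⟨⟨?_, ?_⟩, ?_⟩
    · obtain ⟨v, hv, hvv⟩ : ∃ v ∈ vList, mulK q q = v :=
        ⟨_, (show ∀ q ∈ cqList, mulK q q ∈ vList by decide +kernel) q hq, rfl⟩
      refine ⟨v, hv, code (mulP_lt ..) (hV v hv).1 ?_, code (mulP_lt ..) (hV _ (hth v hv)).1 ?_⟩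
      · rw [F.mul _ _ (by omega) (by omega), F.φ_code hq', (hV v hv).2, ← hvv, K.ι_mul hq' hq']
      · rw [F.mul _ _ hd1 hd1, hde, (hV _ (hth v hv)).2, conj_mul, ← K.ι_mul hq' hq', hvv, hconjV v hv]
    · obtain ⟨v, hv, h1, h2⟩ := hwrel X hX1 hX
      exact ⟨v, hv, h1, h2⟩
    · obtain ⟨v, hv, h1, h2⟩ := hwrel Y hY1 hY
      exact ⟨v, hv, h1, h2⟩
  obtain ⟨d, hdD, hd1, hde⟩ := himg 1 (by decide)
  obtain ⟨d', hdD', hd1', hde'⟩ := himg 175 (by decide)
  refine ⟨hXY, d, hdD, himgP 1 (by decide) d hd1 hde, d', hdD', himgP 175 (by decide) d' hd1' hde', ?_⟩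
  obtain ⟨v, hv, hvv⟩ : ∃ v ∈ vList, mulK 1 175 = mulK (mulK 175 1) v := by decide +kernel
  refine ⟨v, hv, ?_, ?_⟩ <;> simp only [relP, beq_iff_eq] <;> refine code (mulP_lt ..) (mulP_lt ..) ?_
  · have := congrArg K.ι hvv
    rw [K.ι_mul (by norm_num) (by norm_num), K.ι_mul (mulK_lt (by norm_num) (by norm_num)) (vList_lt v hv).1,
      K.ι_mul (by norm_num) (by norm_num)] at this
    rw [F.mul _ _ (by norm_num) (by norm_num), F.mul _ _ (mulP_lt ..) (hV v hv).1,
      F.mul _ _ (by norm_num) (by norm_num), F.φ_code (by norm_num), F.φ_code (by norm_num), (hV v hv).2, this]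
  · have := congrArg K.ι hvv
    rw [K.ι_mul (by norm_num) (by norm_num), K.ι_mul (mulK_lt (by norm_num) (by norm_num)) (vList_lt v hv).1,
      K.ι_mul (by norm_num) (by norm_num)] at this
    rw [F.mul _ _ hd1 hd1', F.mul _ _ (mulP_lt ..) (hV _ (hth v hv)).1, F.mul _ _ hd1' hd1, hde, hde',
      (hV _ (hth v hv)).2, ← hconjV v hv, conj_mul, conj_mul, conj_mul, this]

end PFrame

/-- The centraliser of `z` is the coded group. -/
theorem KData.exists_frame (K : KData z) :
    ∃ F : Frame z, ∀ q ∈ qList, F.f q = K.ι q := by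
  obtain ⟨P⟩ := K.nonempty_pair
  obtain ⟨a, b, c, ⟨F⟩⟩ := K.exists_pframe P
  obtain ⟨ha, hb, hc⟩ := cond_unique a b c (F.cond_true P)
  subst ha hb hc
  refine ⟨⟨F.φ, F.mul, F.comm, F.inj, F.surj, ?_⟩, fun q hq => F.φ_code (CP.qList_lt q hq)⟩
  rw [F.φ_code (by norm_num), K.ι_z]

end Cfsg.Agent.U43T
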