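import Cfsg.Agent.Lib.U43T.General
import Mathlib.GroupTheory.Sylow
import Mathlib.Algebra.BigOperators.Group.Finset.Basic

/-!
Further elementary lemmas on counting involutions and on free conjugation actions.
-/

set_option autoImplicit false
set_option linter.unusedSectionVars false

namespace Cfsg.Agent.U43T

open Subgroup

variable {G : Type*} [Group G] [Finite G]

/-- The involutions of `X` commuting with `z`, other than `z`. -/
def axesSet (X : Subgroup G) (z : G) : Set G := {c | c ∈ involSet X ∧ Commute c z ∧ c ≠ z}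

/-- The involutions `y` of `X` with `c` a power of `z * y`. -/
def sliceSet (X : Subgroup G) (z c : G) : Set G := {y | y ∈ involSet X ∧ c ∈ zpowers (z * y)}

theorem invol_inv {y : G} (hy : y * y = 1) : y⁻¹ = y := inv_eq_of_mul_eq_one_right hy

/-- Two involutions commute with the central involution of the dihedral group they generate. -/
theorem half_power {z y : G} (hz : z * z = 1) (hy : y * y = 1) (h : Even (orderOf (z * y))) :
    ∃ k, (z * y) ^ k * (z * y) ^ k = 1 ∧ (z * y) ^ k ≠ 1 ∧
      Commute ((z * y) ^ k) z ∧ Commute ((z * y) ^ k) y := by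
  obtain ⟨k, hk⟩ := h
  have h0 : 0 < orderOf (z * y) := orderOf_pos _
  have h2 : (z * y) ^ k * (z * y) ^ k = 1 := by rw [← pow_add, ← hk, pow_orderOf_eq_one]
  refine ⟨k, h2, pow_ne_one_of_lt_orderOf (by omega) (by omega), ?_, ?_⟩ <;> refine (mul_inv_eq_iff_eq_mul.1 ?_).symm
  · rw [← conj_pow, show z * (z * y) * z⁻¹ = (z * y)⁻¹ by
      rw [mul_inv_rev, invol_inv hz, invol_inv hy, ← mul_assoc, hz, one_mul], inv_pow]
    exact invol_inv h2
  · rw [← conj_pow, show y * (z * y) * y⁻¹ = (z * y)⁻¹ by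
      rw [mul_inv_rev, invol_inv hz, invol_inv hy, mul_assoc y, mul_assoc z, hy, mul_one], inv_pow]
    exact invol_inv h2

/-- A cyclic group has at most one involution. -/
theorem invol_zpowers_unique {a c d : G} (hc : c ∈ zpowers a) (hd : d ∈ zpowers a) (hc2 : c * c = 1) (hc1 : c ≠ 1)
    (hd2 : d * d = 1) (hd1 : d ≠ 1) : c = d := by
  classical
  haveI : IsCyclic (zpowers a) := inferInstance
  by_contra hne
  haveI := Fintype.ofFinite (zpowers a)
  have hle := IsCyclic.card_pow_eq_one_le (α := zpowers a) (n := 2) (by norm_num)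
  have hsub : ({1, ⟨c, hc⟩, ⟨d, hd⟩} : Finset (zpowers a)) ⊆
      Finset.univ.filter (fun x => x ^ 2 = 1) := by
    intro x hx
    simp only [Finset.mem_insert, Finset.mem_singleton] at hx
    rcases hx with rfl | rfl | rfl <;> simp [pow_two, Subtype.ext_iff, hc2, hd2]
  have := Finset.card_le_card hsub
  rw [Finset.card_insert_of_notMem (by simp [Subtype.ext_iff, Ne.symm hc1, Ne.symm hd1]),
    Finset.card_pair (by simpa [Subtype.ext_iff] using hne)] at this
  omega

theorem sliceSet_axis {X : Subgroup G} {z y : G} (hz : z ∈ X) (hzz : z * z = 1) (hz1 : z ≠ 1)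
    (hy : y ∈ evenSet X z) : ∃ c ∈ axesSet X z, y ∈ sliceSet X z c := by
  obtain ⟨⟨hyX, hy2, hy1⟩, he⟩ := hy
  obtain ⟨k, k2, k1, kz, -⟩ := half_power hzz hy2 he
  refine ⟨_, ⟨⟨pow_mem (mul_mem hz hyX) k, k2, k1⟩, kz, ?_⟩, ⟨hyX, hy2, hy1⟩, npow_mem_zpowers _ k⟩
  intro e
  -- then `z` and `y` commute
  have hc : Commute (z * y) z := by
    have h := (Commute.self_pow (z * y) k)
    rwa [e] at h
  have hzy : Commute z y := by
    have h : z * y * z = z * (z * y) := hc.eq
    rw [← mul_assoc, hzz, one_mul] at h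
    show z * y = y * z
    calc z * y = z * (z * y * z) := by rw [h]
      _ = (z * z) * y * z := by group
      _ = y * z := by rw [hzz, one_mul]
  have hsq : (z * y) ^ 2 = 1 := by rw [hzy.mul_pow, pow_two, pow_two, hzz, hy2, one_mul]
  rcases Nat.even_or_odd k with ⟨j, rfl⟩ | ⟨j, rfl⟩
  · exact k1 (by rw [← two_mul, pow_mul, hsq, one_pow])
  · rw [pow_succ, pow_mul, hsq, one_pow, one_mul] at e
    exact hy1 (mul_eq_left.1 e)

theorem slice_subset_even {X : Subgroup G} {z c : G} (hc : c * c = 1) (hc1 : c ≠ 1) :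
    sliceSet X z c ⊆ evenSet X z := by
  intro y hy
  refine ⟨hy.1, ?_⟩
  have h : orderOf c ∣ orderOf (z * y) := orderOf_dvd_of_mem_zpowers hy.2
  rw [orderOf_eq_prime (by rw [pow_two, hc]) hc1] at h
  exact even_iff_two_dvd.2 h

theorem evenSet_eq {X : Subgroup G} {z : G} (hz : z ∈ X) (hzz : z * z = 1) (hz1 : z ≠ 1) :
    evenSet X z = ⋃ c ∈ axesSet X z, sliceSet X z c := by
  ext y
  simp only [Set.mem_iUnion, exists_prop]
  exact ⟨fun hy => sliceSet_axis hz hzz hz1 hy,
    fun ⟨c, hc, hy⟩ => slice_subset_even hc.1.2.1 hc.1.2.2 hy⟩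

/-- The even part is cut into slices. -/
theorem ncard_evenSet {X : Subgroup G} {z : G} (hz : z ∈ X) (hzz : z * z = 1) (hz1 : z ≠ 1) :
    (evenSet X z).ncard = ∑ c ∈ (axesSet X z).toFinite.toFinset, (sliceSet X z c).ncard := by
  classical
  haveI := Fintype.ofFinite G
  have h : (evenSet X z).toFinite.toFinset =
      (axesSet X z).toFinite.toFinset.biUnion (fun c => (sliceSet X z c).toFinite.toFinset) := by
    ext y
    simp [evenSet_eq hz hzz hz1]
  rw [Set.ncard_eq_toFinset_card _ (Set.toFinite _), h, Finset.card_biUnion]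
  · exact Finset.sum_congr rfl fun c _ => (Set.ncard_eq_toFinset_card _ (Set.toFinite _)).symm
  · intro c hc d hd hne
    refine Finset.disjoint_left.2 fun y h1 h2 => hne ?_
    simp only [Finset.mem_coe, Set.Finite.mem_toFinset] at hc hd h1 h2
    exact invol_zpowers_unique h1.2 h2.2 hc.1.2.1 hc.1.2.2 hd.1.2.1 hd.1.2.2

/-- Orbits of a subgroup acting by conjugation with stabilisers of constant order. -/
theorem index_dvd_ncard {Q : Subgroup G} (S : Set G) (m : ℕ) (hinv : ∀ q ∈ Q, ∀ w ∈ S, q * w * q⁻¹ ∈ S)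
    (hst : ∀ w ∈ S, Nat.card ↥(Q ⊓ centralizer ({w} : Set G)) = m) :
    Nat.card Q ∣ m * S.ncard := by
  classical
  haveI := Fintype.ofFinite G
  induction hn : S.ncard using Nat.strong_induction_on generalizing S with
  | _ n ih =>
    rcases S.eq_empty_or_nonempty with rfl | ⟨w, hw⟩
    · rw [← hn]; simp
    set O : Set G := {y | ∃ q ∈ Q, q * w * q⁻¹ = y} with hO
    have hOS : O ⊆ S := fun y ⟨q, hq, e⟩ => e ▸ hinv q hq w hw
    have hcard : Nat.card Q = m * O.ncard := by
      have hstab : ∀ g : ConjAct G, g • w = ConjAct.ofConjAct g * w * (ConjAct.ofConjAct g)⁻¹ :=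
        fun g => ConjAct.smul_def g w
      have e := Nat.card_congr (MulAction.orbitEquivQuotientStabilizer (Q.map (ConjAct.toConjAct (G := G)).toMonoidHom) w)
      have hQ : Nat.card ↥(Q.map (ConjAct.toConjAct (G := G)).toMonoidHom) = Nat.card Q :=
        card_map_of_injective (MulEquiv.injective _)
      have hs : Nat.card (MulAction.stabilizer (Q.map (ConjAct.toConjAct (G := G)).toMonoidHom) w) =
          Nat.card ↥(Q ⊓ centralizer ({w} : Set G)) := by
        refine Nat.card_congr
          { toFun := fun g => ⟨ConjAct.ofConjAct (g.1 : ConjAct G), ?_, ?_⟩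
            invFun := fun q => ⟨⟨ConjAct.toConjAct (q : G), ⟨q, q.2.1, rfl⟩⟩, ?_⟩
            left_inv := fun g => rfl
            right_inv := fun q => rfl }
        · obtain ⟨q, hq, e'⟩ := g.1.2
          rw [← e']; exact hq
        · have := g.2
          rw [MulAction.mem_stabilizer_iff, Subgroup.smul_def, hstab] at this
          exact mem_centralizer_singleton_iff.2 (mul_inv_eq_iff_eq_mul.1 this)
        · rw [MulAction.mem_stabilizer_iff, Subgroup.smul_def, hstab]
          exact mul_inv_eq_iff_eq_mul.2 (mem_centralizer_singleton_iff.1 q.2.2)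
      have hOe : Nat.card (MulAction.orbit (Q.map (ConjAct.toConjAct (G := G)).toMonoidHom) w) = O.ncard := by
        rw [← Nat.card_coe_set_eq]
        congr 1
        apply congrArg (fun s : Set G => (s : Type _))
        ext y
        constructor
        · rintro ⟨⟨g, q, hq, rfl⟩, rfl⟩
          exact ⟨q, hq, (hstab _).symm⟩
        · rintro ⟨q, hq, rfl⟩
          exact ⟨⟨ConjAct.toConjAct q, q, hq, rfl⟩, hstab _⟩
      rw [← hOe, e, ← hst w hw, ← hs, ← hQ, mul_comm]
      exact card_eq_card_quotient_mul_card_subgroup _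
    have hlt : (S \ O).ncard < n := by
      rw [← hn]
      refine Set.ncard_lt_ncard (Set.ssubset_iff_exists.2 ⟨Set.diff_subset, w, hw, fun h => h.2 ?_⟩) (Set.toFinite _)
      exact ⟨1, one_mem Q, by simp⟩
    have h1 := ih _ hlt (S \ O) ?_ (fun y hy => hst y hy.1) rfl
    · rw [← hn, ← Set.ncard_sdiff_add_ncard_of_subset hOS (Set.toFinite _), mul_add, ← hcard]
      exact dvd_add h1 dvd_rfl
    · rintro q hq y ⟨hy, hy'⟩
      refine ⟨hinv q hq y hy, fun ⟨p, hp, e⟩ => hy' ⟨q⁻¹ * p, mul_mem (inv_mem hq) hp, ?_⟩⟩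
      calc q⁻¹ * p * w * (q⁻¹ * p)⁻¹ = q⁻¹ * (p * w * p⁻¹) * q := by group
        _ = y := by rw [e]; group

/-- The centraliser of a conjugate has the same order. -/
theorem card_centralizer_conj (g x : G) :
    Nat.card ↥(centralizer ({g * x * g⁻¹} : Set G)) = Nat.card ↥(centralizer ({x} : Set G)) := by
  refine Nat.card_congr
    { toFun := fun a => ⟨g⁻¹ * a * g, ?_⟩
      invFun := fun a => ⟨g * a * g⁻¹, ?_⟩
      left_inv := fun a => Subtype.ext (by simp [mul_assoc])
      right_inv := fun a => Subtype.ext (by simp [mul_assoc]) }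
  · have h := mem_centralizer_singleton_iff.1 a.2
    rw [mem_centralizer_singleton_iff]
    calc g⁻¹ * (a : G) * g * x = g⁻¹ * ((a : G) * (g * x * g⁻¹)) * g := by group
      _ = _ := by rw [h]; group
  · have h := mem_centralizer_singleton_iff.1 a.2
    rw [mem_centralizer_singleton_iff]
    calc g * (a : G) * g⁻¹ * (g * x * g⁻¹) = g * ((a : G) * x) * g⁻¹ := by group
      _ = _ := by rw [h]; group

/-- Conjugating slices. -/
theorem sliceSet_conj {X : Subgroup G} {g : G} (hg : g ∈ X) (z c : G) :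
    sliceSet X (g * z * g⁻¹) (g * c * g⁻¹) = (fun y => g * y * g⁻¹) '' sliceSet X z c := by
  have key : ∀ {g : G}, g ∈ X → ∀ z c y : G, y ∈ sliceSet X z c →
      g * y * g⁻¹ ∈ sliceSet X (g * z * g⁻¹) (g * c * g⁻¹) := by
    intro g hg z c y ⟨⟨hyX, hy2, hy1⟩, hc⟩
    refine ⟨⟨mul_mem (mul_mem hg hyX) (inv_mem hg), by rw [conj_mul, hy2, mul_one, mul_inv_cancel],
      fun e => hy1 (conj_eq_one_iff.1 e)⟩, ?_⟩
    obtain ⟨n, hn⟩ := hc
    refine ⟨n, ?_⟩
    dsimp only at hn ⊢
    rw [conj_mul, conj_zpow, hn]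
  ext y
  constructor
  · intro hy
    refine ⟨g⁻¹ * y * g, ?_, by group⟩
    have := key (inv_mem hg) _ _ y hy
    simpa [mul_assoc] using this
  · rintro ⟨x, hx, rfl⟩
    exact key hg z c x hx

theorem ncard_sliceSet_conj {X : Subgroup G} {g : G} (hg : g ∈ X) (z c : G) :
    (sliceSet X (g * z * g⁻¹) (g * c * g⁻¹)).ncard = (sliceSet X z c).ncard := by
  rw [sliceSet_conj hg, Set.ncard_image_of_injective _ fun a b h => mul_left_cancel (mul_right_cancel h)]

end Cfsg.Agent.U43T
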