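import Cfsg.Agent.Lib.U43T.CP
import Cfsg.Agent.Lib.Components.FStar
import Cfsg.Agent.Lib.Transfer.Basic
import Cfsg.Prelude.Def_Solvable

/-!
From the hypotheses of the characterisation of groups of unitary type `U₄(3)` to coded data.
-/

set_option autoImplicit false
set_option linter.unusedSectionVars false

namespace Cfsg.Agent.U43T

open Subgroup

/-- The coded form of the hypotheses. -/
structure KData {G : Type*} [Group G] (z : G) extends CP z where
  card_cent : Nat.card ↥(centralizer ({z} : Set G)) = 1152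
  k_cent : ∀ k, k < 288 → Commute (toCP.ι k) z
  normal : ∀ h, Commute h z → ∀ k, k < 288 → ∃ l, l < 288 ∧ h * toCP.ι k * h⁻¹ = toCP.ι l
  selfc : ∀ h, Commute h z → (∀ q ∈ qList, Commute h (toCP.ι q)) → ∃ q ∈ qList, h = toCP.ι q
  nwc : ∃ g : G, ∃ q ∈ qList, g * z * g⁻¹ = toCP.ι q ∧ g * z * g⁻¹ ≠ z
  meet4 : ∀ g : G, g * z * g⁻¹ ∈ toCP.qsub → g * z * g⁻¹ ≠ z →
    Nat.card ↥(toCP.qsub ⊓ toCP.qsub.map (MulAut.conj g).toMonoidHom) = 4

theorem sl_gen : ∀ g : SL23, ∃ a b : SL23, a * a * a = 1 ∧ b * b * b = 1 ∧ (g = a * b ∨ g = a * b * (a * b)) := by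
  decide +kernel

theorem k_two_power : ∀ k : Fin 288, mulK (mulK (mulK k k) (mulK k k)) (mulK (mulK k k) (mulK k k)) = 0 →
    (k : ℕ) ∈ qList := by decide +kernel

theorem q_pow_four : ∀ a ∈ qList, mulK (mulK a a) (mulK a a) = 0 := by decide +kernel

theorem k_exponent : ∀ k : Fin 288,
    mulK (mulK (mulK k k) (mulK k k)) (mulK (mulK (mulK k k) (mulK k k)) (mulK (mulK k k) (mulK k k))) = 0 := by
  decide +kernel

theorem q_normal : ∀ k : Fin 288, ∀ a ∈ qList, ∃ b ∈ qList, mulK k a = mulK b k := by decide +kernel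

theorem mulK_lt {a b : ℕ} (ha : a < 288) (hb : b < 288) : mulK a b < 288 := by
  rw [mulK_eq ha hb]
  exact pk_lt (sMul_lt ⟨a / 24, by omega⟩ ⟨b / 24, by omega⟩) (sMul_lt ⟨a % 24, by omega⟩ ⟨b % 24, by omega⟩)

variable {G : Type*} [Group G] [Finite G]

/-- Two normal factors isomorphic to `SL(2,3)` meeting in a group of order two commute. -/
theorem factors_commute {X : Type*} [Group X] {z : X} (A B : Subgroup X) (eA : A ≃* SL23)
    (hz : z * z = 1) (hzc : ∀ x : X, z * x = x * z) (hmeet : A ⊓ B ≤ zpowers z)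
    (hAn : ∀ b ∈ B, ∀ a ∈ A, b * a * b⁻¹ ∈ A) (hBn : ∀ a ∈ A, ∀ b ∈ B, a * b * a⁻¹ ∈ B) :
    ∀ a ∈ A, ∀ b ∈ B, a * b = b * a := by
  intro a ha b hb
  set c := fun (x : X) => x * b * x⁻¹ * b⁻¹ with hc
  have hmem : ∀ x ∈ A, c x = 1 ∨ c x = z := fun x hx => by
    have h1 : c x ∈ A := by
      have : c x = x * (b * x⁻¹ * b⁻¹) := by simp only [hc]; group
      rw [this]; exact mul_mem hx (hAn b hb _ (inv_mem hx))
    have h2 : c x ∈ B := mul_mem (hBn x hx b hb) (inv_mem hb)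
    obtain ⟨n, hn⟩ := mem_zpowers_iff.1 (hmeet ⟨h1, h2⟩)
    rw [← hn]
    have hz2 : z ^ (2 : ℤ) = 1 := by rw [show (2 : ℤ) = ((2 : ℕ) : ℤ) from rfl, zpow_natCast, pow_two, hz]
    rcases Int.even_or_odd' n with ⟨k, rfl | rfl⟩
    · left; rw [zpow_mul, hz2, one_zpow]
    · right; rw [zpow_add, zpow_mul, hz2, one_zpow, one_mul, zpow_one]
  have hmul : ∀ x ∈ A, ∀ y ∈ A, c (x * y) = c x * c y := fun x _ y hy => by
    have hcy : ∀ w : X, w * c y = c y * w := fun w => by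
      rcases hmem y hy with e | e <;> rw [e]
      · simp
      · exact (hzc w).symm
    calc c (x * y) = x * c y * (b * x⁻¹ * b⁻¹) := by simp only [hc]; group
      _ = c y * (x * (b * x⁻¹ * b⁻¹)) := by rw [hcy x, mul_assoc]
      _ = c y * c x := by simp only [hc]; group
      _ = c x * c y := (hcy (c x)).symm
  have hone : c 1 = 1 := by simp [hc]
  have hcube : ∀ x ∈ A, x * x * x = 1 → c x = 1 := fun x hx h3 => by
    rcases hmem x hx with e | e
    · exact e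
    · have := hmul (x * x) (mul_mem hx hx) x hx
      rw [h3, hone, hmul x hx x hx, e, hz, one_mul] at this
      rw [e]; exact this.symm
  obtain ⟨p, q, hp, hq, he⟩ := sl_gen (eA ⟨a, ha⟩)
  set p' : A := eA.symm p with hp'
  set q' : A := eA.symm q with hq'
  have hp3 : (p' : X) * p' * p' = 1 := by
    have : p' * p' * p' = 1 := by rw [hp', ← map_mul, ← map_mul, hp, map_one]
    exact_mod_cast congrArg Subtype.val this
  have hq3 : (q' : X) * q' * q' = 1 := by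
    have : q' * q' * q' = 1 := by rw [hq', ← map_mul, ← map_mul, hq, map_one]
    exact_mod_cast congrArg Subtype.val this
  have hab : c ((p' : X) * q') = 1 := by
    rw [hmul _ p'.2 _ q'.2, hcube _ p'.2 hp3, hcube _ q'.2 hq3, one_mul]
  have hfin : c a = 1 := by
    rcases he with e | e
    · have : (⟨a, ha⟩ : A) = p' * q' := eA.injective (by rw [e, map_mul, hp', hq']; simp)
      rw [show a = (p' : X) * q' from congrArg Subtype.val this]; exact hab
    · have : (⟨a, ha⟩ : A) = p' * q' * (p' * q') := eA.injective (by rw [e]; simp [hp', hq'])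
      rw [show a = (p' : X) * q' * ((p' : X) * q') from congrArg Subtype.val this,
        hmul _ (mul_mem p'.2 q'.2) _ (mul_mem p'.2 q'.2), hab, one_mul]
  simp only [hc] at hfin
  rwa [mul_inv_eq_one, mul_inv_eq_iff_eq_mul] at hfin

open scoped Classical in
theorem exists_kdata (z : G) (hz : orderOf z = 2) (H₁ H₂ : Subgroup (centralizer ({z} : Set G)))
    (hK : H₁ ⊔ H₂ = closure {x : centralizer ({z} : Set G) | Odd (orderOf x)})
    (hn₁ : (H₁.subgroupOf (H₁ ⊔ H₂)).Normal) (hn₂ : (H₂.subgroupOf (H₁ ⊔ H₂)).Normal)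
    (e₁ : H₁ ≃* SL23) (e₂ : H₂ ≃* SL23)
    (hmeet : (H₁ ⊓ H₂).map (Subgroup.subtype (centralizer ({z} : Set G))) = zpowers z)
    (Q : Subgroup (centralizer ({z} : Set G)))
    (hQ : Q = (Cfsg.pCore 2 ↥(H₁ ⊔ H₂)).map (Subgroup.subtype (H₁ ⊔ H₂)))
    (hF : Cfsg.generalizedFittingSubgroup (centralizer ({z} : Set G)) = Q)
    (hnwc : ∃ g : G, (∃ hq : g * z * g⁻¹ ∈ centralizer ({z} : Set G),
      (⟨g * z * g⁻¹, hq⟩ : centralizer ({z} : Set G)) ∈ Q) ∧ g * z * g⁻¹ ≠ z)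
    (hH : Nat.card ↥(centralizer ({z} : Set G)) = 2 ^ 7 * 3 ^ 2)
    (hQQg : ∀ g : G, g * z * g⁻¹ ∈ Q.map (Subgroup.subtype (centralizer ({z} : Set G))) → g * z * g⁻¹ ≠ z →
      Nat.card ↥((Q.map (Subgroup.subtype (centralizer ({z} : Set G)))) ⊓
        (Q.map (Subgroup.subtype (centralizer ({z} : Set G)))).map (MulAut.conj g).toMonoidHom) = 4) :
    Nonempty (KData z) := by
  have hz2 : z * z = 1 := by
    have := pow_orderOf_eq_one z
    rwa [hz, pow_two] at this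
  have hzne : z ≠ 1 := fun h => by rw [h, orderOf_one] at hz; omega
  have hzX : z ∈ (centralizer ({z} : Set G)) := mem_centralizer_singleton_iff.2 rfl
  have hzc : ∀ x : (centralizer ({z} : Set G)), (⟨z, hzX⟩ : (centralizer ({z} : Set G))) * x = x * ⟨z, hzX⟩ := fun x =>
    Subtype.ext (mem_centralizer_singleton_iff.1 x.2).symm
  have hzmem : (⟨z, hzX⟩ : (centralizer ({z} : Set G))) ∈ H₁ ⊓ H₂ := by
    have : z ∈ (H₁ ⊓ H₂).map (centralizer ({z} : Set G)).subtype := hmeet ▸ mem_zpowers z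
    obtain ⟨w, hw, e⟩ := this
    rwa [show (⟨z, hzX⟩ : (centralizer ({z} : Set G))) = w from Subtype.ext e.symm]
  have hmeet' : H₁ ⊓ H₂ ≤ zpowers (⟨z, hzX⟩ : (centralizer ({z} : Set G))) := fun w hw => by
    have : (w : G) ∈ zpowers z := hmeet ▸ ⟨w, hw, rfl⟩
    obtain ⟨n, hn⟩ := mem_zpowers_iff.1 this
    exact mem_zpowers_iff.2 ⟨n, Subtype.ext (by rw [coe_zpow]; exact hn)⟩
  have hc₁ : ∀ b ∈ H₂, ∀ a ∈ H₁, b * a * b⁻¹ ∈ H₁ := fun b hb a ha =>
    hn₁.conj_mem ⟨a, mem_sup_left ha⟩ ha ⟨b, mem_sup_right hb⟩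
  have hc₂ : ∀ a ∈ H₁, ∀ b ∈ H₂, a * b * a⁻¹ ∈ H₂ := fun a ha b hb =>
    hn₂.conj_mem ⟨b, mem_sup_right hb⟩ hb ⟨a, mem_sup_left ha⟩
  have hcomm := factors_commute H₁ H₂ e₁ (z := (⟨z, hzX⟩ : (centralizer ({z} : Set G)))) (Subtype.ext hz2) hzc hmeet' hc₁ hc₂
  set φ₁ : SL23 →* G := (centralizer ({z} : Set G)).subtype.comp (H₁.subtype.comp e₁.symm.toMonoidHom) with hφ₁
  set φ₂ : SL23 →* G := (centralizer ({z} : Set G)).subtype.comp (H₂.subtype.comp e₂.symm.toMonoidHom) with hφ₂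
  have hi₁ : Function.Injective φ₁ := fun a b h => e₁.symm.injective (Subtype.ext (Subtype.ext h))
  have hi₂ : Function.Injective φ₂ := fun a b h => e₂.symm.injective (Subtype.ext (Subtype.ext h))
  have hcent : ∀ (H : Subgroup (centralizer ({z} : Set G))) (e : H ≃* SL23), (⟨z, hzX⟩ : (centralizer ({z} : Set G))) ∈ H →
      ((centralizer ({z} : Set G)).subtype.comp (H.subtype.comp e.symm.toMonoidHom)) (decS 12) = z := by
    intro H e hm
    set w := e ⟨⟨z, hzX⟩, hm⟩ with hw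
    have h1 : w * w = 1 := by
      rw [hw, ← map_mul, show (⟨⟨z, hzX⟩, hm⟩ : H) * ⟨⟨z, hzX⟩, hm⟩ = 1 from
        Subtype.ext (Subtype.ext hz2), map_one]
    have h2 : w ≠ 1 := fun h => hzne (by
      have := congrArg e.symm h
      rw [hw, MulEquiv.symm_apply_apply, map_one] at this
      exact congrArg (fun v : H => ((v : (centralizer ({z} : Set G))) : G)) this)
    rw [← involution_eq w h1 h2, hw]
    simp
  have hz₁ := hcent H₁ e₁ hzmem.1
  have hz₂ := hcent H₂ e₂ hzmem.2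
  let C : CP z :=
    { f1 := pull φ₁
      f2 := pull φ₂
      mul1 := fun s t hs ht => pull_mul φ₁ hs ht
      mul2 := fun s t hs ht => pull_mul φ₂ hs ht
      comm := fun s t hs ht => by
        obtain ⟨a, ha⟩ : ∃ a : H₁, pull φ₁ s = ((a : (centralizer ({z} : Set G))) : G) := ⟨e₁.symm (decS ⟨s, hs⟩), by
          rw [pull, dif_pos hs]; rfl⟩
        obtain ⟨b, hb⟩ : ∃ b : H₂, pull φ₂ t = ((b : (centralizer ({z} : Set G))) : G) := ⟨e₂.symm (decS ⟨t, ht⟩), by
          rw [pull, dif_pos ht]; rfl⟩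
        rw [ha, hb]
        exact congrArg Subtype.val (hcomm _ a.2 _ b.2)
      z1 := by rw [pull, dif_pos (by norm_num)]; exact hz₁
      z2 := by rw [pull, dif_pos (by norm_num)]; exact hz₂
      inj1 := fun s t hs ht h => pull_inj φ₁ hi₁ hs ht h
      inj2 := fun s t hs ht h => pull_inj φ₂ hi₂ hs ht h
      meet := fun s t hs ht h => by
        rw [pull, dif_pos hs, pull, dif_pos ht] at h
        have hm : ((e₁.symm (decS ⟨s, hs⟩) : H₁) : (centralizer ({z} : Set G))) ∈ H₁ ⊓ H₂ := by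
          refine ⟨(e₁.symm (decS ⟨s, hs⟩)).2, ?_⟩
          rw [show ((e₁.symm (decS ⟨s, hs⟩) : H₁) : (centralizer ({z} : Set G))) = ((e₂.symm (decS ⟨t, ht⟩) : H₂) : (centralizer ({z} : Set G))) from
            Subtype.ext h]
          exact (e₂.symm (decS ⟨t, ht⟩)).2
        obtain ⟨n, hn⟩ := mem_zpowers_iff.1 (hmeet' hm)
        have hn' : φ₁ (decS ⟨s, hs⟩) = z ^ n := by
          have := congrArg Subtype.val hn.symm
          rwa [coe_zpow] at this
        have hz2' : z ^ (2 : ℤ) = 1 := by rw [show (2 : ℤ) = ((2 : ℕ) : ℤ) from rfl, zpow_natCast, pow_two, hz2]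
        rcases Int.even_or_odd' n with ⟨k, rfl | rfl⟩
        · left
          rw [zpow_mul, hz2', one_zpow] at hn'
          exact congrArg Fin.val (decS_inj' ⟨s, hs⟩ 0 (hi₁ (by rw [hn', decS_zero, map_one])))
        · right
          rw [zpow_add, zpow_mul, hz2', one_zpow, one_mul, zpow_one, ← hz₁] at hn'
          exact congrArg Fin.val (decS_inj' ⟨s, hs⟩ 12 (hi₁ hn')) }
  have hf1 : ∀ s, s < 24 → ∃ a : H₁, C.f1 s = ((a : (centralizer ({z} : Set G))) : G) := fun s hs => ⟨e₁.symm (decS ⟨s, hs⟩), by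
    show pull φ₁ s = _; rw [pull, dif_pos hs]; rfl⟩
  have hf2 : ∀ s, s < 24 → ∃ a : H₂, C.f2 s = ((a : (centralizer ({z} : Set G))) : G) := fun s hs => ⟨e₂.symm (decS ⟨s, hs⟩), by
    show pull φ₂ s = _; rw [pull, dif_pos hs]; rfl⟩
  -- the product is the join
  have hsub : C.sub = (H₁ ⊔ H₂).map (centralizer ({z} : Set G)).subtype := by
    refine le_antisymm ?_ ?_
    · rintro _ ⟨k, hk, rfl⟩
      obtain ⟨a, ha⟩ := hf1 (k / 24) (by omega)
      obtain ⟨b, hb⟩ := hf2 (k % 24) (by omega)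
      exact ⟨(a : (centralizer ({z} : Set G))) * b, mul_mem (mem_sup_left a.2) (mem_sup_right b.2), by
        rw [CP.ι, ha, hb]; rfl⟩
    · rw [map_le_iff_le_comap]
      refine sup_le (fun a ha => ?_) (fun b hb => ?_)
      · obtain ⟨k, hk⟩ := decS_surj (e₁ ⟨a, ha⟩)
        have : C.f1 k = (a : G) := by
          show pull φ₁ k = _
          rw [pull, dif_pos k.2, show (⟨(k : ℕ), k.2⟩ : Fin 24) = k from rfl, hk]
          simp [hφ₁]
        show (a : G) ∈ C.sub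
        rw [← this]; exact C.mem_of_f1 k.2
      · obtain ⟨k, hk⟩ := decS_surj (e₂ ⟨b, hb⟩)
        have : C.f2 k = (b : G) := by
          show pull φ₂ k = _
          rw [pull, dif_pos k.2, show (⟨(k : ℕ), k.2⟩ : Fin 24) = k from rfl, hk]
          simp [hφ₂]
        show (b : G) ∈ C.sub
        rw [← this]; exact C.mem_of_f2 k.2
  have hkmem : ∀ k, k < 288 → ∃ a ∈ H₁ ⊔ H₂, ((a : (centralizer ({z} : Set G))) : G) = C.ι k := fun k hk => by
    have : C.ι k ∈ (H₁ ⊔ H₂).map (centralizer ({z} : Set G)).subtype := hsub ▸ ⟨k, hk, rfl⟩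
    obtain ⟨a, ha, e⟩ := this
    exact ⟨a, ha, e⟩
  -- the 2-core
  have hqX : ∀ q ∈ qList, ∃ a ∈ H₁ ⊔ H₂, ((a : (centralizer ({z} : Set G))) : G) = C.ι q := fun q hq => hkmem q (CP.qList_lt q hq)
  have hQeq : Q.map (centralizer ({z} : Set G)).subtype = C.qsub := by
    haveI : Fact (Nat.Prime 2) := ⟨Nat.prime_two⟩
    subst hQ
    apply le_antisymm
    · rintro _ ⟨_, ⟨w, hw, rfl⟩, rfl⟩
      obtain ⟨k, hk, hkw⟩ : ((w : (centralizer ({z} : Set G))) : G) ∈ C.sub := hsub ▸ ⟨(w : (centralizer ({z} : Set G))), w.2, rfl⟩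
      obtain ⟨n, hn⟩ := (PBasic.pCore_isPGroup 2 ↥(H₁ ⊔ H₂)) ⟨w, hw⟩
      have hpow : (C.ι k) ^ 2 ^ n = 1 := by
        have := congrArg (fun u : Cfsg.pCore 2 ↥(H₁ ⊔ H₂) => (((u : ↥(H₁ ⊔ H₂)) : (centralizer ({z} : Set G))) : G)) hn
        simpa [hkw] using this
      refine ⟨k, ?_, hkw⟩
      refine k_two_power ⟨k, hk⟩ (C.ι_inj (mulK_lt (mulK_lt (mulK_lt hk hk) (mulK_lt hk hk))
        (mulK_lt (mulK_lt hk hk) (mulK_lt hk hk))) (by norm_num) ?_)
      have hk2 := mulK_lt hk hk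
      have hk4 := mulK_lt hk2 hk2
      have h12 : (C.ι k) ^ 12 = 1 := by
        have h := congrArg C.ι (k_exponent ⟨k, hk⟩)
        simp only at h
        rw [C.ι_zero, C.ι_mul hk4 (mulK_lt hk4 hk4), C.ι_mul hk4 hk4, C.ι_mul hk2 hk2, C.ι_mul hk hk] at h
        rw [← h]; simp [pow_succ, mul_assoc]
      have hd : orderOf (C.ι k) ∣ 8 := by
        obtain ⟨j, -, hj⟩ := (Nat.dvd_prime_pow Nat.prime_two).1 (orderOf_dvd_of_pow_eq_one hpow)
        have h12' : 2 ^ j ∣ 12 := hj ▸ orderOf_dvd_of_pow_eq_one h12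
        have hjle : j ≤ 2 := by
          by_contra hc
          have : 2 ^ 3 ∣ 12 := (pow_dvd_pow 2 (show 3 ≤ j by omega)).trans h12'
          norm_num at this
        rw [hj]
        exact (pow_dvd_pow 2 (show j ≤ 3 by omega))
      rw [C.ι_mul hk4 hk4, C.ι_mul hk2 hk2, C.ι_mul hk hk, C.ι_zero,
        ← orderOf_dvd_iff_pow_eq_one.1 hd]
      simp [pow_succ, mul_assoc]
    · have hle : C.qsub ≤ (H₁ ⊔ H₂).map (centralizer ({z} : Set G)).subtype := hsub ▸ fun x ⟨a, ha, e⟩ => ⟨a, CP.qList_lt a ha, e⟩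
      let N : Subgroup ↥(H₁ ⊔ H₂) := C.qsub.comap ((centralizer ({z} : Set G)).subtype.comp (H₁ ⊔ H₂).subtype)
      have hN : N.Normal := ⟨fun v hv g => by
        obtain ⟨a, ha, e⟩ := hv
        obtain ⟨k, hk, hkg⟩ : (((g : (centralizer ({z} : Set G))) : G)) ∈ C.sub := hsub ▸ ⟨(g : (centralizer ({z} : Set G))), g.2, rfl⟩
        obtain ⟨b, hb, hb'⟩ := q_normal ⟨k, hk⟩ a ha
        refine ⟨b, hb, ?_⟩
        have := congrArg C.ι hb'
        simp only at this
        rw [C.ι_mul hk (CP.qList_lt a ha), C.ι_mul (CP.qList_lt b hb) hk, hkg] at this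
        simp only [MonoidHom.comp_apply, coe_subtype, Subgroup.coe_mul, Subgroup.coe_inv] at e ⊢
        rw [← e, this]; group⟩
      have hN2 : IsPGroup 2 N := fun v => by
        obtain ⟨a, ha, e⟩ := v.2
        refine ⟨2, Subtype.ext (Subtype.ext (Subtype.ext ?_))⟩
        have h := congrArg C.ι (q_pow_four a ha)
        have ha' := CP.qList_lt a ha
        rw [C.ι_mul (mulK_lt ha' ha') (mulK_lt ha' ha'), C.ι_mul ha' ha', C.ι_zero, e] at h
        simp only [MonoidHom.comp_apply, coe_subtype] at h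
        simp only [Subgroup.coe_pow, OneMemClass.coe_one]
        rw [← h]; simp [pow_succ, mul_assoc]
      intro x hx
      obtain ⟨w, hw, rfl⟩ := hle hx
      refine ⟨w, ⟨⟨w, hw⟩, le_sSup (show N ∈ {N : Subgroup ↥(H₁ ⊔ H₂) | N.Normal ∧ IsPGroup 2 N} from
        ⟨hN, hN2⟩) hx, rfl⟩, rfl⟩
  obtain ⟨g, ⟨hgX, hgQ⟩, hgne⟩ := hnwc
  refine ⟨{ toCP := C, card_cent := by rw [hH]; norm_num, k_cent := ?_, normal := ?_, selfc := ?_,
            nwc := ?_, meet4 := ?_ }⟩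
  · intro k hk
    obtain ⟨a, -, e⟩ := hkmem k hk
    exact e ▸ mem_centralizer_singleton_iff.1 a.2
  · intro h hh k hk
    have hhX : h ∈ (centralizer ({z} : Set G)) := mem_centralizer_singleton_iff.2 hh
    obtain ⟨a, ha, e⟩ := hkmem k hk
    have hc : (⟨h, hhX⟩ : (centralizer ({z} : Set G))) * a * (⟨h, hhX⟩ : (centralizer ({z} : Set G)))⁻¹ ∈ H₁ ⊔ H₂ := by
      rw [hK] at ha ⊢
      refine closure_induction (p := fun v _ => (⟨h, hhX⟩ : (centralizer ({z} : Set G))) * v * (⟨h, hhX⟩ : (centralizer ({z} : Set G)))⁻¹ ∈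
        closure {x : (centralizer ({z} : Set G)) | Odd (orderOf x)}) (fun v hv => subset_closure ?_) ?_ ?_ ?_ ha
      · show Odd (orderOf _)
        rw [← MulAut.conj_apply, MulEquiv.orderOf_eq]; exact hv
      · simp
      · intro v w _ _ h1 h2; rw [← conj_mul]; exact mul_mem h1 h2
      · intro v _ h1; rw [← conj_inv]; exact inv_mem h1
    obtain ⟨l, hl, hle⟩ : (((⟨h, hhX⟩ : (centralizer ({z} : Set G))) * a * (⟨h, hhX⟩ : (centralizer ({z} : Set G)))⁻¹ : (centralizer ({z} : Set G))) : G) ∈ C.sub := hsub ▸ ⟨_, hc, rfl⟩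
    exact ⟨l, hl, by rw [hle, ← e]; rfl⟩
  · intro h hh hq
    have hhX : h ∈ (centralizer ({z} : Set G)) := mem_centralizer_singleton_iff.2 hh
    have : (⟨h, hhX⟩ : (centralizer ({z} : Set G))) ∈ Q := by
      rw [← hF]
      refine Components.centralizer_generalizedFitting_le (mem_centralizer_iff.2 fun q hq' => ?_)
      rw [hF] at hq'
      obtain ⟨a, ha, e⟩ : (q : G) ∈ C.qsub := hQeq ▸ ⟨q, hq', rfl⟩
      refine Subtype.ext ?_
      show (q : G) * h = h * q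
      rw [← e]; exact (hq a ha).symm
    obtain ⟨a, ha, e⟩ : h ∈ C.qsub := hQeq ▸ ⟨_, this, rfl⟩
    exact ⟨a, ha, e.symm⟩
  · obtain ⟨a, ha, e⟩ : g * z * g⁻¹ ∈ C.qsub := hQeq ▸ ⟨_, hgQ, rfl⟩
    exact ⟨g, a, ha, e.symm, hgne⟩
  · intro g' h1 h2
    rw [← hQeq] at h1 ⊢
    exact hQQg g' h1 h2

end Cfsg.Agent.U43T
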