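import Cfsg.Agent.Lib.U43T.CP

/-!
Finite facts about the coded central product.
-/

set_option autoImplicit false

namespace Cfsg.Agent.U43T

/-- Inversion in the coded central product. -/
def iK (k : ℕ) : ℕ := pk (sInv (k / 24)) (sInv (k % 24))

/-- Conjugation in the coded central product. -/
def cj (g x : ℕ) : ℕ := mulK (mulK g x) (iK g)

/-- Elements of order three with a noncentral fixed point in the quaternion part. -/
def spList : List ℕ := [3, 4, 5, 6, 9, 14, 20, 22, 60, 72, 96, 120, 144, 204, 216, 252]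

/-- The centraliser of the involution `25` in the quaternion part. -/
def cqList : List ℕ := [0, 1, 12, 13, 24, 25, 36, 37, 175, 179, 187, 191, 271, 275, 283, 287]

/-- The four group `⟨z, s⟩`. -/
def vList : List ℕ := [0, 12, 25, 37]

theorem iK_spec : ∀ k : Fin 288, mulK k (iK k) = 0 ∧ iK k < 288 := by decide +kernel

theorem iK_mem : ∀ a ∈ qList, iK a ∈ qList := by decide +kernel

theorem sp_spec : ∀ k : Fin 288, mulK (mulK k k) k = 0 → (k : ℕ) ≠ 0 →
    (qList.any fun q => q != 0 && q != 12 && mulK q k == mulK k q) = true → (k : ℕ) ∈ spList := by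
  decide +kernel

theorem sp_lt : ∀ k ∈ spList, k < 288 := by decide +kernel

theorem pair_norm : ∀ a ∈ spList, ∀ b ∈ spList, mulK a b = mulK b a → b ≠ a → b ≠ mulK a a →
    ∃ k : Fin 288, (cj k a, cj k b) ∈ [((144 : ℕ), (6 : ℕ)), (216, 9), (6, 144), (9, 216), (216, 6), (144, 9),
      (6, 216), (9, 144)] := by decide +kernel

theorem cent_pair : ∀ k : Fin 288, mulK k 144 = mulK 144 k → mulK k 6 = mulK 6 k →
    (k : ℕ) ∈ [(0 : ℕ), 6, 9, 12, 18, 21, 144, 150, 153, 156, 162, 165, 216, 222, 225, 228, 234, 237] := by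
  decide +kernel

theorem cent_pair_q : ∀ q ∈ qList, mulK q 144 = mulK 144 q → mulK q 6 = mulK 6 q → q = 0 ∨ q = 12 := by
  decide +kernel

theorem no_inverter : ∀ k : Fin 288,
    (cj k 144 = 216 ∨ cj k 6 = 9 ∨ cj k 144 = 6 ∨ cj k 144 = 9) → False := by decide +kernel

theorem img_fix₁ : ∀ q ∈ qList, mulK q 6 = mulK 6 q → q ≠ 0 → q ≠ 12 →
    mulK q (cj 144 q) = cj 144 (cj 144 q) → ∃ k ∈ [(0 : ℕ), 144, 216], cj k 24 = q := by decide +kernel

theorem img_fix₂ : ∀ q ∈ qList, mulK q 144 = mulK 144 q → q ≠ 0 → q ≠ 12 →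
    mulK q (cj 6 q) = cj 6 (cj 6 q) → ∃ k ∈ [(0 : ℕ), 6, 9], cj k 1 = q := by decide +kernel

theorem img_inv₁ : ∀ q ∈ qList, mulK q 6 = mulK 6 q → q ≠ 0 → q ≠ 12 →
    mulK q (cj 216 q) = cj 216 (cj 216 q) → ∃ k ∈ [(0 : ℕ), 144, 216], cj k 36 = q := by decide +kernel

theorem img_inv₂ : ∀ q ∈ qList, mulK q 144 = mulK 144 q → q ≠ 0 → q ≠ 12 →
    mulK q (cj 9 q) = cj 9 (cj 9 q) → ∃ k ∈ [(0 : ℕ), 6, 9], cj k (sRef 1) = q := by decide +kernel

theorem rel₁ : mulK 24 (cj 144 24) = cj 144 (cj 144 24) := by decide +kernel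

theorem rel₂ : mulK 1 (cj 6 1) = cj 6 (cj 6 1) := by decide +kernel

theorem word : ∀ s : Fin 24, ∃ a : Fin 3, ∃ b : Fin 4, ∃ c : Fin 3, ∃ d : Fin 4,
    ([0, 6, 9][a.val]! : ℕ) < 24 ∧
    sMul (sMul ([0, 6, 9][a.val]! : ℕ) ([0, 1, 12, 13][b.val]! : ℕ))
      (sMul ([0, 6, 9][c.val]! : ℕ) ([0, 1, 12, 13][d.val]! : ℕ)) = s := by decide +kernel

theorem cent_s : ∀ k : Fin 288, mulK k 25 = mulK 25 k → (k : ℕ) ∈ cqList := by decide +kernel

theorem q_orbit : ∀ q ∈ qList, mulK q q = 0 → q ≠ 0 → q ≠ 12 → ∃ k : Fin 288, cj k q = 25 := by decide +kernel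

theorem q_sq : ∀ q ∈ qList, mulK q q = 0 ∨ mulK q q = 12 := by decide +kernel

theorem q_comm : ∀ a ∈ qList, ∀ b ∈ qList,
    mulK (mulK (iK a) (iK b)) (mulK a b) = 0 ∨ mulK (mulK (iK a) (iK b)) (mulK a b) = 12 := by decide +kernel

theorem q_cent_card : ∀ q ∈ qList, q ≠ 0 → q ≠ 12 →
    (qList.filter fun a => mulK a q == mulK q a).length = 16 := by decide +kernel

theorem four_normal : ∀ v ∈ cqList, v ∉ vList → ∃ c ∈ cqList, cj c v = mulK 12 v := by decide +kernel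

theorem seven : mulK 7 25 = mulK 12 (mulK 25 7) := by decide +kernel

theorem no_diag₁ : ∀ k : Fin 288, cj k (pk (sRef 1) 1) = 25 →
    mulK (cj k (sRef 0 * 24 + 1)) (iK 1) ∈ vList →
    mulK (cj k (pk (sRef 7) 7)) (iK 175) ∈ vList → False := by decide +kernel

theorem no_diag₂ : ∀ k : Fin 288, cj k (pk 1 (sRef 1)) = 25 →
    mulK (cj k (pk 0 (sRef 1))) (iK 1) ∈ vList →
    mulK (cj k (pk 7 (sRef 7))) (iK 175) ∈ vList → False := by decide +kernel

end Cfsg.Agent.U43T
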