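import Mathlib.Data.Nat.Notation
import Mathlib.Tactic.NormNum

/-!
A concrete model of the centralizer of an involution in the unitary group of dimension four over the field with
nine elements (order 1152): two copies of `SL(2,3)` with identified centres, extended by two further elements.

An element is coded by a number `h < 1152`; `h % 288` codes the pair of matrices up to common sign and `h / 288`
the coset.  The three Boolean parameters describe all a priori possible extensions; `mulH` is the one that occurs.
-/

set_option autoImplicit false

namespace Cfsg.Agent.U43T

/-- Multiplication table of `SL(2,3)`, one byte per entry. -/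
def mulTab : ℕ := 0xc0f08150105120e0a04130b000314090d11060216100717110e07170f0414010900120a0502130b0310080d150c0616100106160e00130f0b051409040d120a020c07031711081502130503100b0d160c1209080e07110f0417010a000615140d1204020c0a031511140b070106100e00160f09050817130314000d1109021710130a060f080c0105150e0b040716120a090b0706080400020d0f05161517131214100c0e010311090b0a06080700050d030e041517161214130c11010f021012040d0c0a0215071417050306100100160e0913080b110f14000311090d170613160402080c0f0515010b12070a100e07110e04170f0a1406090c01130502100b0316081215000d0b0a0908070605040302010017161514131211100f0e0d0c000314090d110602161007170c0f08150105120e0a04130b0502130b0310080d150c0616110e07170f0414010900120a040d120a020c070317110815100106160e00130f0b0514090e07110f0417010a0006151402130503100b0d160c1209080106100e00160f09050817130d1204020c0a031511140b070f080c0105150e0b040716120314000d1109021710130a06161517131214100c0e0103110a090b0706080400020d0f051517161214130c11010f0210090b0a06080700050d030e0406100100160e0913080b110f12040d0c0a02150714170503080c0f0515010b12070a100e14000311090d170613160402130502100b0316081215000d07110e04170f0a1406090c0117161514131211100f0e0d0c0b0a09080706050403020100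
/-- Inversion table of `SL(2,3)`. -/
def invTab : ℕ := 0xb0e1203071510110816010c1702060f13090405140a0d00
/-- The outer automorphism by conjugation with `diag(1,-1)`. -/
def refTab : ℕ := 0x13141216171510110203010c0708060a0b0904050e0f0d00
/-- The matrices, base three digits. -/
def matTab : ℕ := 0x29173b11353e414a2a4515384f102216431f2e254b300f1c

def sMul (s t : ℕ) : ℕ := (mulTab >>> (8 * (24 * s + t))) % 256
def sInv (s : ℕ) : ℕ := (invTab >>> (8 * s)) % 256
def sRef (s : ℕ) : ℕ := (refTab >>> (8 * s)) % 256
def sNeg (s : ℕ) : ℕ := (s + 12) % 24

/-- The code of a pair up to common sign. -/
def pk (s t : ℕ) : ℕ := if s < 12 then 24 * s + t else 24 * sNeg s + sNeg t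

/-- The automorphism of a pair induced by the coset representative with bits `i`, `j`. -/
def act1 (i j s t : ℕ) : ℕ :=
  if i = 0 then (if j = 0 then s else t) else sRef (if j = 0 then s else t)
def act2 (i j s t : ℕ) : ℕ :=
  if i = 0 then (if j = 0 then t else s) else sRef (if j = 0 then t else s)

/-- Multiplication with parameters: commutator, square of the first and of the second representative. -/
def mulP (a b c g h : ℕ) : ℕ :=
  let s := g % 288 / 24
  let t := g % 24
  let i := g / 288 % 2
  let j := g / 576
  let s' := h % 288 / 24
  let t' := h % 24
  let i' := h / 288 % 2
  let j' := h / 576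
  let x := sMul s (act1 i j s' t')
  let y := sMul t (act2 i j s' t')
  pk (if (a * j * i' + b * i * i' + c * j * j') % 2 = 0 then x else sNeg x) y
    + 288 * ((i + i') % 2 + 2 * ((j + j') % 2))

/-- Multiplication in the model. -/
def mulH (g h : ℕ) : ℕ := mulP 1 1 0 g h

def zH : ℕ := 12

end Cfsg.Agent.U43T

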