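import Cfsg.Agent.Lib.U43T.KData
import Cfsg.Agent.Lib.U43T.KFacts

/-!
The action of the involution centraliser on the central product.
-/

set_option autoImplicit false
set_option linter.unusedSectionVars false

namespace Cfsg.Agent.U43T

open Subgroup

variable {G : Type*} [Group G] {z : G}

namespace CP

variable (C : CP z)

theorem ι_iK {k : ℕ} (hk : k < 288) : C.ι (iK k) = (C.ι k)⁻¹ :=
  eq_inv_of_mul_eq_one_right (by
    rw [← C.ι_mul hk (iK_spec ⟨k, hk⟩).2, (iK_spec ⟨k, hk⟩).1, C.ι_zero])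

theorem ι_cj {k x : ℕ} (hk : k < 288) (hx : x < 288) : C.ι (cj k x) = C.ι k * C.ι x * (C.ι k)⁻¹ := by
  rw [cj, C.ι_mul (mulK_lt hk hx) (iK_spec ⟨k, hk⟩).2, C.ι_mul hk hx, C.ι_iK hk]

theorem cj_lt {k x : ℕ} (hk : k < 288) (hx : x < 288) : cj k x < 288 :=
  mulK_lt (mulK_lt hk hx) (iK_spec ⟨k, hk⟩).2

theorem commute_iff {a b : ℕ} (ha : a < 288) (hb : b < 288) :
    Commute (C.ι a) (C.ι b) ↔ mulK a b = mulK b a := by
  constructor
  · intro h
    exact C.ι_inj (mulK_lt ha hb) (mulK_lt hb ha) (by rw [C.ι_mul ha hb, C.ι_mul hb ha]; exact h)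
  · intro h
    show C.ι a * C.ι b = C.ι b * C.ι a
    rw [← C.ι_mul ha hb, ← C.ι_mul hb ha, h]

/-- An element commuting with four generators commutes with the whole central product. -/
theorem gen_comm {g : G} (h1 : Commute g (C.ι 144)) (h2 : Commute g (C.ι 6)) (h3 : Commute g (C.ι 24))
    (h4 : Commute g (C.ι 1)) : ∀ k, k < 288 → Commute g (C.ι k) := by
  have hgen : ∀ f : ℕ → G, (∀ s t, s < 24 → t < 24 → f (sMul s t) = f s * f t) → f 0 = 1 →
      Commute g (f 6) → Commute g (f 1) → ∀ s, s < 24 → Commute g (f s) := by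
    intro f hm h0 hu hi s hs
    have hu2 : Commute g (f 9) := by
      rw [show (9 : ℕ) = sMul 6 6 by decide +kernel, hm 6 6 (by norm_num) (by norm_num)]; exact hu.mul_right hu
    have hi2 : Commute g (f 12) := by
      rw [show (12 : ℕ) = sMul 1 1 by decide +kernel, hm 1 1 (by norm_num) (by norm_num)]; exact hi.mul_right hi
    have hi3 : Commute g (f 13) := by
      rw [show (13 : ℕ) = sMul 12 1 by decide +kernel, hm 12 1 (by norm_num) (by norm_num)]
      exact hi2.mul_right hi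
    have hz0 : Commute g (f 0) := by rw [h0]; exact Commute.one_right g
    obtain ⟨a, b, c, d, -, he⟩ := word ⟨s, hs⟩
    have ha : ([0, 6, 9][a.val]! : ℕ) < 24 ∧ Commute g (f ([0, 6, 9][a.val]!)) := by
      fin_cases a <;> exact ⟨by norm_num, by assumption⟩
    have hb : ([0, 1, 12, 13][b.val]! : ℕ) < 24 ∧ Commute g (f ([0, 1, 12, 13][b.val]!)) := by
      fin_cases b <;> exact ⟨by norm_num, by assumption⟩
    have hc : ([0, 6, 9][c.val]! : ℕ) < 24 ∧ Commute g (f ([0, 6, 9][c.val]!)) := by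
      fin_cases c <;> exact ⟨by norm_num, by assumption⟩
    have hd : ([0, 1, 12, 13][d.val]! : ℕ) < 24 ∧ Commute g (f ([0, 1, 12, 13][d.val]!)) := by
      fin_cases d <;> exact ⟨by norm_num, by assumption⟩
    simp only at he
    rw [← he, hm _ _ (sMul_lt ⟨_, ha.1⟩ ⟨_, hb.1⟩) (sMul_lt ⟨_, hc.1⟩ ⟨_, hd.1⟩), hm _ _ ha.1 hb.1,
      hm _ _ hc.1 hd.1]
    exact (ha.2.mul_right hb.2).mul_right (hc.2.mul_right hd.2)
  have e1 : C.ι 144 = C.f1 6 := C.ι_f1 (s := 6) (by norm_num)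
  have e3 : C.ι 24 = C.f1 1 := C.ι_f1 (s := 1) (by norm_num)
  intro k hk
  exact (hgen C.f1 C.mul1 C.f1_zero (e1 ▸ h1) (e3 ▸ h3) _ (by omega)).mul_right
    (hgen C.f2 C.mul2 C.f2_zero (C.ι_f2 (t := 6) (by norm_num) ▸ h2) (C.ι_f2 (t := 1) (by norm_num) ▸ h4) _
      (by omega))

end CP

namespace KData

variable (K : KData z)

theorem inv_comm {h : G} (hh : Commute h z) : Commute h⁻¹ z := hh.inv_left

theorem conj_inj {h : G} {a b : G} (e : h * a * h⁻¹ = h * b * h⁻¹) : a = b :=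
  mul_left_cancel (mul_right_cancel e)

theorem conj_code {h : G} (hh : Commute h z) {a : ℕ} (ha : a < 288) :
    ∃ l, l < 288 ∧ h * K.ι a * h⁻¹ = K.ι l := K.normal h hh a ha

/-- Images of elements of the quaternion part. -/
theorem conj_q {h : G} (hh : Commute h z) {a : ℕ} (ha : a ∈ qList) :
    ∃ l ∈ qList, h * K.ι a * h⁻¹ = K.ι l := by
  have ha' := CP.qList_lt a ha
  obtain ⟨l, hl, e⟩ := K.conj_code hh ha'
  refine ⟨l, k_two_power ⟨l, hl⟩ (K.ι_inj (mulK_lt (mulK_lt (mulK_lt hl hl) (mulK_lt hl hl))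
    (mulK_lt (mulK_lt hl hl) (mulK_lt hl hl))) (by norm_num) ?_), e⟩
  have h4 := congrArg K.ι (q_pow_four a ha)
  rw [K.ι_mul (mulK_lt ha' ha') (mulK_lt ha' ha'), K.ι_mul ha' ha', K.ι_zero] at h4
  rw [K.ι_zero]
  simp only [K.ι_mul (mulK_lt (mulK_lt hl hl) (mulK_lt hl hl)) (mulK_lt (mulK_lt hl hl) (mulK_lt hl hl)),
    K.ι_mul (mulK_lt hl hl) (mulK_lt hl hl), K.ι_mul hl hl, ← e, conj_mul, h4, mul_one, mul_inv_cancel]

theorem conj_sp {h : G} (hh : Commute h z) {a : ℕ} (ha : a ∈ spList) (hq : ∃ q ∈ qList, q ≠ 0 ∧ q ≠ 12 ∧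
    mulK q a = mulK a q) (h3 : mulK (mulK a a) a = 0) (h0 : a ≠ 0) :
    ∃ l ∈ spList, h * K.ι a * h⁻¹ = K.ι l := by
  have ha' := sp_lt a ha
  obtain ⟨l, hl, e⟩ := K.conj_code hh ha'
  obtain ⟨q, hq1, hq0, hq12, hqc⟩ := hq
  obtain ⟨q', hq', e'⟩ := K.conj_q hh hq1
  refine ⟨l, sp_spec ⟨l, hl⟩ (K.ι_inj (mulK_lt (mulK_lt hl hl) hl) (by norm_num) ?_) ?_ ?_, e⟩
  · rw [K.ι_mul (mulK_lt hl hl) hl, K.ι_mul hl hl, ← e, conj_mul, conj_mul, K.ι_zero,
      ← K.ι_mul ha' ha', ← K.ι_mul (mulK_lt ha' ha') ha', h3, K.ι_zero]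
    group
  · intro hl0
    simp only at hl0
    rw [hl0, K.ι_zero, conj_eq_one_iff, ← K.ι_zero] at e
    exact h0 (K.ι_inj ha' (by norm_num) e)
  · simp only [List.any_eq_true, Bool.and_eq_true, bne_iff_ne, ne_eq, beq_iff_eq]
    refine ⟨q', hq', ⟨?_, ?_⟩, ?_⟩
    · intro e0
      rw [e0, K.ι_zero, conj_eq_one_iff, ← K.ι_zero] at e'
      exact hq0 (K.ι_inj (CP.qList_lt q hq1) (by norm_num) e')
    · intro e12
      rw [e12, K.ι_z] at e'
      have : K.ι q = K.ι 12 := by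
        rw [K.ι_z]
        exact conj_inj (h := h) (by rw [e', hh.eq, mul_inv_cancel_right])
      exact hq12 (K.ι_inj (CP.qList_lt q hq1) (by norm_num) this)
    · refine (K.commute_iff (CP.qList_lt q' hq') hl).1 ?_
      have hc : Commute (K.ι q) (K.ι a) := (K.commute_iff (CP.qList_lt q hq1) ha').2 hqc
      rw [← e, ← e', show Commute (h * K.ι q * h⁻¹) (h * K.ι a * h⁻¹) ↔
        (h * K.ι q * h⁻¹) * (h * K.ι a * h⁻¹) = (h * K.ι a * h⁻¹) * (h * K.ι q * h⁻¹) from Iff.rfl,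
        conj_mul, conj_mul, hc.eq]

/-- The action on the Sylow 3-subgroup `⟨144, 6⟩` up to the central product. -/
def ActsAs (h : G) (p : ℕ × ℕ) : Prop :=
  h * K.ι 144 * h⁻¹ = K.ι p.1 ∧ h * K.ι 6 * h⁻¹ = K.ι p.2

theorem exists_mono {h : G} (hh : Commute h z) :
    ∃ k, k < 288 ∧ ∃ p ∈ [((144 : ℕ), (6 : ℕ)), (216, 9), (6, 144), (9, 216), (216, 6), (144, 9), (6, 216),
      (9, 144)], K.ActsAs (K.ι k * h) p := by
  obtain ⟨a, ha, ea⟩ := K.conj_sp hh (a := 144) (by decide) ⟨1, by decide, by decide, by decide, by decide +kernel⟩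
    (by decide +kernel) (by decide)
  obtain ⟨b, hb, eb⟩ := K.conj_sp hh (a := 6) (by decide) ⟨24, by decide, by decide, by decide, by decide +kernel⟩
    (by decide +kernel) (by decide)
  have ha' := sp_lt a ha
  have hb' := sp_lt b hb
  obtain ⟨k, hk⟩ := pair_norm a ha b hb
    ((K.commute_iff ha' hb').1 (by
      rw [← ea, ← eb]
      show (h * K.ι 144 * h⁻¹) * (h * K.ι 6 * h⁻¹) = (h * K.ι 6 * h⁻¹) * (h * K.ι 144 * h⁻¹)
      rw [conj_mul, conj_mul, (show Commute (K.ι 144) (K.ι 6) from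
        (K.commute_iff (by norm_num) (by norm_num)).2 (by decide +kernel)).eq]))
    (fun e => by
      have : K.ι 6 = K.ι 144 := conj_inj (h := h) (by rw [eb, ea, e])
      exact absurd (K.ι_inj (by norm_num) (by norm_num) this) (by norm_num))
    (fun e => by
      have : K.ι 6 = K.ι (mulK 144 144) := conj_inj (h := h) (by
        rw [eb, e, K.ι_mul ha' ha', ← ea, conj_mul, K.ι_mul (by norm_num) (by norm_num)])
      exact absurd (K.ι_inj (by norm_num) (mulK_lt (by norm_num) (by norm_num)) this) (by decide +kernel))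
  refine ⟨k, k.2, _, hk, ?_, ?_⟩
  · show _ = K.ι (cj k a)
    rw [K.ι_cj k.2 ha', ← ea]; group
  · show _ = K.ι (cj k b)
    rw [K.ι_cj k.2 hb', ← eb]; group

/-- An element fixing the two generators acts as an element of the central product. -/
theorem fix_acts {h : G} (hh : Commute h z) (hid : K.ActsAs h (144, 6)) :
    ∃ k, k < 288 ∧ h = K.ι k := by
  have key : ∀ i u u', i ∈ qList → u < 288 → u' < 288 → h * K.ι u * h⁻¹ = K.ι u → h * K.ι u' * h⁻¹ = K.ι u' →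
      mulK i u' = mulK u' i → mulK i (cj u i) = cj u (cj u i) → i ≠ 0 → i ≠ 12 →
      ∃ q ∈ qList, h * K.ι i * h⁻¹ = K.ι q ∧ mulK q u' = mulK u' q ∧ q ≠ 0 ∧ q ≠ 12 ∧
        mulK q (cj u q) = cj u (cj u q) := by
    intro i u u' hi hu hu' e1 e2 hc hrel h0 h12
    have hi' := CP.qList_lt i hi
    obtain ⟨q, hq, e⟩ := K.conj_q hh hi
    have hq' := CP.qList_lt q hq
    refine ⟨q, hq, e, (K.commute_iff hq' hu').1 ?_, ?_, ?_, ?_⟩
    · rw [← e]
      nth_rw 1 [← e2]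
      show (h * K.ι i * h⁻¹) * (h * K.ι u' * h⁻¹) = (h * K.ι u' * h⁻¹) * (h * K.ι i * h⁻¹)
      rw [conj_mul, conj_mul, ((K.commute_iff hi' hu').2 hc).eq]
    · intro e0
      rw [e0, K.ι_zero, conj_eq_one_iff, ← K.ι_zero] at e
      exact h0 (K.ι_inj hi' (by norm_num) e)
    · intro e0
      rw [e0, K.ι_z] at e
      have : K.ι i = K.ι 12 := by
        rw [K.ι_z]
        exact conj_inj (h := h) (by rw [e, hh.eq, mul_inv_cancel_right])
      exact h12 (K.ι_inj hi' (by norm_num) this)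
    · refine K.ι_inj (mulK_lt hq' (CP.cj_lt hu hq')) (CP.cj_lt hu (CP.cj_lt hu hq')) ?_
      have hr := congrArg (fun x => h * K.ι x * h⁻¹) hrel
      simp only [K.ι_mul hi' (CP.cj_lt hu hi'), K.ι_cj hu (CP.cj_lt hu hi'), K.ι_cj hu hi'] at hr
      rw [K.ι_mul hq' (CP.cj_lt hu hq'), K.ι_cj hu (CP.cj_lt hu hq'), K.ι_cj hu hq', ← e, ← e1]
      simp only [mul_assoc, mul_inv_rev, inv_inv, inv_mul_cancel_left] at hr ⊢
      exact hr
  obtain ⟨q₁, hq₁, e₁, c₁, n₁, m₁, r₁⟩ := key 24 144 6 (by decide) (by norm_num) (by norm_num) hid.1 hid.2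
    (by decide +kernel) rel₁ (by decide) (by decide)
  obtain ⟨q₂, hq₂, e₂, c₂, n₂, m₂, r₂⟩ := key 1 6 144 (by decide) (by norm_num) (by norm_num) hid.2 hid.1
    (by decide +kernel) rel₂ (by decide) (by decide)
  obtain ⟨a, ha, hae⟩ := img_fix₁ q₁ hq₁ c₁ n₁ m₁ r₁
  obtain ⟨b, hb, hbe⟩ := img_fix₂ q₂ hq₂ c₂ n₂ m₂ r₂
  have ha' : a < 288 := by fin_cases ha <;> norm_num
  have hb' : b < 288 := by fin_cases hb <;> norm_num
  have hab : mulK a b < 288 := mulK_lt ha' hb'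
  set p := K.ι (mulK a b) with hp
  have hA : cj (mulK a b) 144 = 144 ∧ cj (mulK a b) 6 = 6 := by
    fin_cases ha <;> fin_cases hb <;> decide +kernel
  have hB : cj (mulK a b) 24 = q₁ ∧ cj (mulK a b) 1 = q₂ := by
    rw [← hae, ← hbe]
    fin_cases ha <;> fin_cases hb <;> decide +kernel
  have hcm : ∀ x y, x < 288 → y < 288 → cj (mulK a b) x = y → h * K.ι x * h⁻¹ = K.ι y →
      Commute (p⁻¹ * h) (K.ι x) := by
    intro x y hx hy he hy'
    rw [← he, K.ι_cj hab hx] at hy'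
    show p⁻¹ * h * K.ι x = K.ι x * (p⁻¹ * h)
    calc p⁻¹ * h * K.ι x = p⁻¹ * (h * K.ι x * h⁻¹) * h := by group
      _ = K.ι x * (p⁻¹ * h) := by rw [hy', hp]; group
  have hall := K.gen_comm (hcm 144 144 (by norm_num) (by norm_num) hA.1 hid.1)
    (hcm 6 6 (by norm_num) (by norm_num) hA.2 hid.2)
    (hcm 24 q₁ (by norm_num) (CP.qList_lt _ hq₁) hB.1 e₁) (hcm 1 q₂ (by norm_num) (CP.qList_lt _ hq₂) hB.2 e₂)
  obtain ⟨q, hq, hqe⟩ := K.selfc (p⁻¹ * h) ((K.k_cent _ hab).inv_left.mul_left hh)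
    fun q hq => hall q (CP.qList_lt q hq)
  refine ⟨mulK (mulK a b) q, mulK_lt hab (CP.qList_lt q hq), ?_⟩
  rw [K.ι_mul hab (CP.qList_lt q hq), ← hqe, hp]
  group

end KData

end Cfsg.Agent.U43T
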