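import Cfsg.Agent.Lib.U43T.OneClass
import Cfsg.Agent.Lib.U43T.Codes

/-!
Normalised frames for an element of order three commuting with a four group.
-/

set_option autoImplicit false
set_option linter.unusedSectionVars false

namespace Cfsg.Agent.U43T

variable {G : Type*} [Group G] [Finite G] {c : G}

/-- An element of order three commuting with a four group. -/
def UTy (x : G) : Prop :=
  x * x * x = 1 ∧ x ≠ 1 ∧ ∃ a b : G, a * a = 1 ∧ a ≠ 1 ∧ b * b = 1 ∧ b ≠ 1 ∧ a ≠ b ∧ Commute a b ∧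
    Commute a x ∧ Commute b x

namespace Frame

variable (F : Frame c)

theorem cube_of_code {g : ℕ} (hg : g < 1152) (h : mulH (mulH g g) g = 0) : F.f g * F.f g * F.f g = 1 :=
  (F.cube_eq_one_iff hg).2 h

theorem u_code : F.f 150 * F.f 150 * F.f 150 = 1 ∧ F.f 150 ≠ 1 :=
  ⟨F.cube_of_code (by norm_num) (by decide +kernel), fun h => absurd ((F.eq_one_iff (by norm_num)).1 h) (by norm_num)⟩

theorem invol_code {g : ℕ} (hg : g < 1152) (h : sqH g = 0) (h0 : g ≠ 0) : F.f g * F.f g = 1 ∧ F.f g ≠ 1 :=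
  ⟨(F.sq_eq_one_iff hg).2 h, fun e => h0 ((F.eq_one_iff hg).1 e)⟩

theorem outer_code {g : ℕ} (hg : g < 1152) (h : sqH g = 0) (h0 : g ≠ 0) (h12 : g ≠ 12) :
    F.f g * F.f g = 1 ∧ F.f g ≠ 1 ∧ F.f g ≠ c := by
  refine ⟨(F.invol_code hg h h0).1, (F.invol_code hg h h0).2, fun e => h12 ?_⟩
  exact F.inj g 12 hg (by norm_num) (e.trans F.fz.symm)

include F in
/-- A frame adapted to an involution and an element of order three. -/
theorem normalise {s x : G} (hs : s * s = 1) (hs1 : s ≠ 1) (hsc : s ≠ c) (hsc' : Commute s c)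
    (hx : x * x * x = 1) (hx1 : x ≠ 1) (hxc : Commute x c) (hxs : Commute x s) :
    ∃ F' : Frame c, F'.f 576 = s ∧ (F'.f 150 = x ∨ F'.f 150 = x⁻¹) := by
  obtain ⟨a, ha, rfl⟩ := F.surj s hsc'
  obtain ⟨b, hb, rfl⟩ := F.surj x hxc
  have a2 : sqH a = 0 := (F.sq_eq_one_iff ha).1 hs
  have a0 : a ≠ 0 := fun h => hs1 (by rw [h, F.f0])
  have a12 : a ≠ 12 := fun h => hsc (by rw [h, F.fz])
  have b3 : mulH (mulH b b) b = 0 := (F.cube_eq_one_iff hb).1 hx
  have b0 : b ≠ 0 := fun h => hx1 (by rw [h, F.f0])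
  have hab : mulH b a = mulH a b := (F.commute_iff hb ha).1 hxs
  have hany : ((List.range 1152).any fun x => x != 0 && mulH (mulH x x) x == 0 && mulH x a == mulH a x) = true :=
    List.any_eq_true.2 ⟨b, List.mem_range.2 hb, by simp [b0, b3, hab]⟩
  obtain ⟨F1, hF1⟩ : ∃ F1 : Frame c, F1.f 576 = F.f a := by
    rcases six_outer ⟨a, ha⟩ a2 a0 a12 hany with h | h <;>
      simp only [List.any_eq_true, List.mem_range, beq_iff_eq] at h <;> obtain ⟨k, hk, e⟩ := h
    · refine ⟨F.shift (F.f k)⁻¹ (F.comm k hk).inv_left, ?_⟩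
      rw [F.shift_f, ← e, F.f_cjH hk ha]; group
    · refine ⟨F.twist.shift (F.f k)⁻¹ (F.comm k hk).inv_left, ?_⟩
      rw [F.twist.shift_f, F.twist_f, show alphaH 576 = 1014 by decide +kernel, ← e, F.f_cjH hk ha]; group
  obtain ⟨d, hd, hde⟩ := F1.surj (F.f b) hxc
  have d3 : mulH (mulH d d) d = 0 := (F1.cube_eq_one_iff hd).1 (by rw [hde]; exact hx)
  have d0 : d ≠ 0 := fun h => hx1 (by rw [← hde, h, F1.f0])
  have hd576 : mulH d 576 = mulH 576 d := (F1.commute_iff hd (by norm_num)).1 (by rw [hde, hF1]; exact hxs)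
  have h := cent_576 ⟨d, hd⟩ hd576 d3 d0
  simp only [List.any_eq_true, List.mem_range, Bool.and_eq_true, Bool.or_eq_true, beq_iff_eq] at h
  obtain ⟨k, hk, hk576, hkd⟩ := h
  refine ⟨F1.shift (F1.f k)⁻¹ (F1.comm k hk).inv_left, ?_, ?_⟩
  · rw [F1.shift_f, ← hF1, inv_inv]
    rw [mul_assoc, ← ((F1.commute_iff hk (by norm_num)).2 hk576).eq, inv_mul_cancel_left]
  · rcases hkd with e | e
    · left
      rw [F1.shift_f, ← e, F1.f_cjH hk hd, hde]; group
    · right
      have e' : F1.f 225 = F1.f k * F.f b * (F1.f k)⁻¹ := by rw [← e, F1.f_cjH hk hd, hde]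
      rw [F1.shift_f, show (150 : ℕ) = mulH 225 225 by decide +kernel, F1.mul _ _ (by norm_num) (by norm_num), e',
        inv_inv, conj_mul]
      rw [show (F.f b)⁻¹ = F.f b * F.f b from inv_eq_of_mul_eq_one_right (by rw [← mul_assoc]; exact hx)]
      group

end Frame

end Cfsg.Agent.U43T
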