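import Cfsg.Agent.Lib.U43T.Api2

/-!
All involutions are conjugate.
-/

set_option autoImplicit false
set_option linter.unusedSectionVars false

namespace Cfsg.Agent.U43T

open Subgroup

variable {G : Type*} [Group G] [Finite G] {z : G}

theorem no_invol_tau : ∀ k : Fin 288, sqH (k + 288) ≠ 0 := by decide +kernel

theorem inv_cent_count : ∀ q ∈ qList, q ≠ 0 → q ≠ 12 → mulK q q = 0 →
    (qList.filter fun a => mulK a q == mulK q a && mulK a a == 0).length = 12 := by decide +kernel

theorem q_fold : ∀ q ∈ qList, q = 0 ∨ q = 12 ∨ mulK q q ≠ 0 ∨ ∃ k : Fin 288, cj k q = 25 := by decide +kernel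

theorem invol_classes : ∀ g : Fin 1152, sqH g = 0 → (g : ℕ) = 0 ∨ (g : ℕ) = 12 ∨
    ((List.range 1152).any fun k => cjH k g == 25) = true ∨
    ((List.range 1152).any fun k => cjH k g == 576) = true ∨
    ((List.range 1152).any fun k => cjH k g == 1014) = true := by decide +kernel

/-- A Sylow 2-subgroup of the model. -/
def syl : List ℕ := (List.range 1152).filter fun g => qList.contains (g % 288)

theorem syl_mul : ∀ a ∈ syl, (syl.all fun b => qList.contains (mulH a b % 288)) = true := by decide +kernel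

theorem syl_inv : ∀ a ∈ syl, qList.contains (iH a % 288) = true := by decide +kernel

theorem syl_facts : syl.length = 128 ∧ (24 : ℕ) ∈ syl ∧ (1 : ℕ) ∈ syl ∧ (168 : ℕ) ∈ syl ∧ (7 : ℕ) ∈ syl ∧ (288 : ℕ) ∈ syl ∧ (576 : ℕ) ∈ syl := by
  decide +kernel

theorem syl_center : ∀ g : Fin 1152, mulH g 288 = mulH 288 g → mulH g 576 = mulH 576 g →
    mulH g 24 = mulH 24 g → mulH g 1 = mulH 1 g → mulH g 168 = mulH 168 g → mulH g 7 = mulH 7 g → (g : ℕ) = 0 ∨ (g : ℕ) = 12 := by decide +kernel

/-- The data used from here on. -/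
structure Setting (z : G) where
  F : Frame z
  conjQ : IsConj z (F.f 25)
  conjT : IsConj z (F.f 576)
  conjU : IsConj z (F.f 1014)

theorem KData.exists_setting (K : KData z) : Nonempty (Setting z) := by
  classical
  obtain ⟨F, hF⟩ := K.exists_frame
  obtain ⟨P⟩ := K.nonempty_pair
  have h25 : IsConj z (F.f 25) := isConj_iff.2 ⟨P.g, by rw [P.hg, hF 25 (by decide)]⟩
  have hqg : ∀ w ∈ P.qg, w * w = 1 → w ≠ 1 → IsConj z w := by
    intro w hw hw2 hw1
    obtain ⟨q, hq, e⟩ := P.mem_qg.1 hw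
    have hq' := CP.qList_lt q hq
    have hwe : w = P.g * K.ι q * P.g⁻¹ := by rw [e]; group
    have hqq : mulK q q = 0 := by
      refine K.ι_inj (mulK_lt hq' hq') (by norm_num) ?_
      rw [K.ι_mul hq' hq', K.ι_zero, e]
      calc P.g⁻¹ * w * P.g * (P.g⁻¹ * w * P.g) = P.g⁻¹ * (w * w) * P.g := by group
        _ = 1 := by rw [hw2]; group
    rcases q_fold q hq with rfl | rfl | h | ⟨k, hk⟩
    · exact absurd (by rw [hwe, K.ι_zero]; group) hw1
    · exact isConj_iff.2 ⟨P.g, by rw [hwe, K.ι_z]⟩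
    · exact absurd hqq h
    · have h1 : IsConj (K.ι 25) (K.ι q) := isConj_iff.2 ⟨(K.ι k)⁻¹, by
        rw [← hk, K.ι_cj k.2 hq']; group⟩
      rw [← hF 25 (by decide)] at h1
      exact (h25.trans h1).trans (isConj_iff.2 ⟨P.g, hwe.symm⟩)
  -- an involution of the conjugate group in each of the two outer cosets
  have hV : ∀ v ∈ vList, K.ι v * K.ι v = 1 := fun v hv => by
    rw [← K.ι_mul (vList_lt v hv).1 (vList_lt v hv).1, ← K.ι_zero]
    exact congrArg K.ι ((show ∀ v ∈ vList, mulK v v = 0 by decide +kernel) v hv)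
  have hcount : {w : G | w ∈ P.bsub ∧ w * w = 1}.ncard = 12 := by
    obtain ⟨q, hq, e⟩ := P.mem_qg.1 P.z_mem_qg
    have hq' := CP.qList_lt q hq
    have hqz : P.g * K.ι q * P.g⁻¹ = z := by rw [e]; group
    have hzz := K.z_mul_z
    have hq0 : q ≠ 0 := by
      rintro rfl
      rw [K.ι_zero, mul_one, mul_inv_cancel] at hqz
      exact F.centre_ne hqz.symm
    have hq12 : q ≠ 12 := by
      rintro rfl
      rw [K.ι_z, P.hg] at hqz
      exact absurd (K.ι_inj (by norm_num) (by norm_num) (hqz.trans K.ι_z.symm)) (by norm_num)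
    have hqq : mulK q q = 0 := by
      refine K.ι_inj (mulK_lt hq' hq') (by norm_num) ?_
      rw [K.ι_mul hq' hq', K.ι_zero, e]
      calc P.g⁻¹ * z * P.g * (P.g⁻¹ * z * P.g) = P.g⁻¹ * (z * z) * P.g := by group
        _ = 1 := by rw [hzz]; group
    have hset : {w : G | w ∈ P.bsub ∧ w * w = 1} = ↑(((qList.filter fun a => mulK a q == mulK q a &&
        mulK a a == 0).toFinset).image fun a => P.g * K.ι a * P.g⁻¹) := by
      ext w
      simp only [Set.mem_ofPred_eq, P.mem_bsub, Finset.coe_image, Set.mem_image, List.coe_toFinset, List.mem_filter,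
        Bool.and_eq_true, beq_iff_eq]
      constructor
      · rintro ⟨⟨hw, hwz⟩, hw2⟩
        obtain ⟨a, ha, ea⟩ := P.mem_qg.1 hw
        have ha' := CP.qList_lt a ha
        refine ⟨a, ⟨ha, (K.commute_iff ha' hq').1 ?_, ?_⟩, by rw [ea]; group⟩
        · rw [e, ea]
          show P.g⁻¹ * w * P.g * (P.g⁻¹ * z * P.g) = P.g⁻¹ * z * P.g * (P.g⁻¹ * w * P.g)
          calc _ = P.g⁻¹ * (w * z) * P.g := by group
            _ = _ := by rw [hwz.eq]; group
        · refine K.ι_inj (mulK_lt ha' ha') (by norm_num) ?_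
          rw [K.ι_mul ha' ha', K.ι_zero, ea]
          calc P.g⁻¹ * w * P.g * (P.g⁻¹ * w * P.g) = P.g⁻¹ * (w * w) * P.g := by group
            _ = 1 := by rw [hw2]; group
      · rintro ⟨a, ⟨ha, hc, haa⟩, rfl⟩
        have ha' := CP.qList_lt a ha
        refine ⟨⟨P.mem_qg.2 ⟨a, ha, by group⟩, ?_⟩, ?_⟩
        · have h : Commute (P.g * K.ι a * P.g⁻¹) (P.g * K.ι q * P.g⁻¹) := by
            show P.g * K.ι a * P.g⁻¹ * (P.g * K.ι q * P.g⁻¹) = P.g * K.ι q * P.g⁻¹ * (P.g * K.ι a * P.g⁻¹)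
            rw [conj_mul, conj_mul, ((K.commute_iff ha' hq').2 hc).eq]
          rwa [hqz] at h
        · rw [conj_mul, ← K.ι_mul ha' ha', haa, K.ι_zero, mul_one, mul_inv_cancel]
    rw [hset, Set.ncard_coe_finset, Finset.card_image_of_injOn,
      List.toFinset_card_of_nodup (List.Nodup.filter _ (by decide +kernel))]
    · exact inv_cent_count q hq hq0 hq12 hqq
    · intro a ha b hb h
      simp only [List.coe_toFinset, List.mem_filter, Set.mem_ofPred_eq] at ha hb
      exact K.ι_inj (CP.qList_lt a ha.1) (CP.qList_lt b hb.1) (mul_left_cancel (mul_right_cancel h))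
  -- each coset of the coded central product meets `bsub` in at most four elements
  have hcode : ∀ w ∈ P.bsub, ∃ e, e < 1152 ∧ F.f e = w := fun w hw => F.surj w (P.mem_bsub.1 hw).2
  have hfK : ∀ k, k < 288 → ∀ w ∈ P.bsub, F.f k = w → k ∈ vList := by
    intro k hk w hw e
    have hfk : Commute w z := (P.mem_bsub.1 hw).2
    have hwQ : w ∈ P.qg := (P.mem_bsub.1 hw).1
    have hcom : mulH k 25 = mulH 25 k := (F.commute_iff (by omega) (by norm_num)).1 (by
      rw [e, hF 25 (by decide)]; exact P.qg_comm_s hwQ)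
    have hkQ : k ∈ qList := (show ∀ k : Fin 288, mulH k 25 = mulH 25 k → (k : ℕ) ∈ qList by decide +kernel)
      ⟨k, hk⟩ hcom
    obtain ⟨v, hv, ev⟩ := P.inter_eq.1 ⟨⟨k, hkQ, (hF k hkQ).symm.trans e⟩, hwQ⟩
    rw [← hF v (vList_lt v hv).2, ← e] at ev
    exact F.inj v k (by have := (vList_lt v hv).1; omega) (by omega) ev ▸ hv
  have hcoset : ∀ J, {w : G | w ∈ P.bsub ∧ ∃ e, e < 1152 ∧ e / 288 = J ∧ F.f e = w}.ncard ≤ 4 := by
    intro J
    rcases Set.eq_empty_or_nonempty {w : G | w ∈ P.bsub ∧ ∃ e, e < 1152 ∧ e / 288 = J ∧ F.f e = w} with h | h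
    · rw [h, Set.ncard_empty]; norm_num
    · obtain ⟨w₀, hw₀, e₀, he₀, hJ₀, rfl⟩ := h
      have hsub : {w : G | w ∈ P.bsub ∧ ∃ e, e < 1152 ∧ e / 288 = J ∧ F.f e = w} ⊆
          ↑(vList.toFinset.image fun v => F.f v * F.f e₀) := by
        rintro w ⟨hw, e, he, hJ, rfl⟩
        simp only [Finset.coe_image, Set.mem_image, List.coe_toFinset, Set.mem_ofPred_eq]
        have hk : mulH e (iH e₀) < 288 := by
          have key : ∀ g h : ℕ, g < 1152 → h < 1152 → g / 288 = h / 288 →
              ∀ r, r < 1152 → mulH r h = g → r < 288 := by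
            intro g h hg hh hgh r hr e
            simp only [mulH, mulP] at e
            have hpk : ∀ {x y : ℕ}, x < 24 → y < 24 → pk x y < 288 := fun hx hy => pk_lt hx hy
            have hh2 : h % 24 < 24 := by omega
            have hr2 : r % 24 < 24 := by omega
            have hh1 : h % 288 / 24 < 24 := by omega
            have hr1 : r % 288 / 24 < 24 := by omega
            have hx := sMul_lt ⟨_, hr1⟩ ⟨_, act1_lt (i := r / 288 % 2) (j := r / 576) hh1 hh2⟩
            have hy := sMul_lt ⟨_, hr2⟩ ⟨_, act2_lt (i := r / 288 % 2) (j := r / 576) hh1 hh2⟩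
            simp only at hx hy
            have hn : sNeg (sMul (r % 288 / 24) (act1 (r / 288 % 2) (r / 576) (h % 288 / 24) (h % 24))) < 24 :=
              Nat.mod_lt _ (by omega)
            split at e
            · have := hpk hx hy; omega
            · have := hpk hn hy; omega
          refine key e e₀ he he₀ (hJ.trans hJ₀.symm) _ (mulH_lt _ _) ?_
          refine F.inj _ _ (mulH_lt _ _) he ?_
          rw [F.mul _ _ (mulH_lt _ _) he₀, F.mul _ _ he (iH_lt e₀), F.f_iH he₀, inv_mul_cancel_right]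
        refine ⟨_, hfK _ hk _ ?_ rfl, ?_⟩
        · rw [F.mul _ _ he (iH_lt e₀), F.f_iH he₀]; exact mul_mem hw (inv_mem hw₀)
        · rw [F.mul _ _ he (iH_lt e₀), F.f_iH he₀, inv_mul_cancel_right]
      refine (Set.ncard_le_ncard hsub).trans ?_
      rw [Set.ncard_coe_finset]
      exact Finset.card_image_le.trans (by decide +kernel)
  have hexists : ∀ J, (J = 2 ∨ J = 3) → ∃ w, IsConj z w ∧ ∃ e, e < 1152 ∧ e / 288 = J ∧ F.f e = w ∧ sqH e = 0 := by
    intro J hJ
    by_contra hc
    have hsub : {w : G | w ∈ P.bsub ∧ w * w = 1} ⊆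
        {w : G | w ∈ P.bsub ∧ ∃ e, e < 1152 ∧ e / 288 = 0 ∧ F.f e = w} ∪
          {w : G | w ∈ P.bsub ∧ ∃ e, e < 1152 ∧ e / 288 = (5 - J) ∧ F.f e = w} := by
      rintro w ⟨hw, hw2⟩
      obtain ⟨e, he, hee⟩ := hcode w hw
      have hsq : sqH e = 0 := (F.sq_eq_one_iff he).1 (by rw [hee]; exact hw2)
      by_cases h0 : e / 288 = 0
      · exact Or.inl ⟨hw, e, he, h0, hee⟩
      · by_cases h1 : e / 288 = 1
        · exact absurd hsq ((show (e - 288 : ℕ) + 288 = e by omega) ▸ no_invol_tau ⟨e - 288, by omega⟩)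
        · by_cases hJ' : e / 288 = J
          · refine absurd ⟨w, hqg w (P.mem_bsub.1 hw).1 hw2 ?_, e, he, hJ', hee, hsq⟩ hc
            intro h
            rw [← hee, F.eq_one_iff he] at h
            omega
          · exact Or.inr ⟨hw, e, he, by omega, hee⟩
    have := (Set.ncard_le_ncard hsub).trans (Set.ncard_union_le _ _)
    have h0 := hcoset 0
    have h5 := hcoset (5 - J)
    omega
  have hrep : ∀ w e, IsConj z w → e < 1152 → F.f e = w → ∀ r, r < 1152 →
      ((List.range 1152).any fun k => cjH k e == r) = true → IsConj z (F.f r) := by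
    intro w e hw he hee r hr h
    simp only [List.any_eq_true, List.mem_range, beq_iff_eq] at h
    obtain ⟨k, hk, hk'⟩ := h
    exact hw.trans (isConj_iff.2 ⟨F.f k, by rw [← hk', F.f_cjH (by omega) he, hee]⟩)
  have hcl : ∀ e : Fin 1152, sqH e = 0 → ((e : ℕ) / 288 = 2 → ((List.range 1152).any fun k => cjH k e == 576) = true) ∧
      ((e : ℕ) / 288 = 3 → ((List.range 1152).any fun k => cjH k e == 1014) = true) := by decide +kernel
  obtain ⟨w, hw, e, he, hd, hee, hsq⟩ := hexists 2 (Or.inl rfl)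
  obtain ⟨w', hw', e', he', hd', hee', hsq'⟩ := hexists 3 (Or.inr rfl)
  exact ⟨⟨F, h25, hrep w e hw he hee 576 (by norm_num) ((hcl ⟨e, he⟩ hsq).1 hd),
    hrep w' e' hw' he' hee' 1014 (by norm_num) ((hcl ⟨e', he'⟩ hsq').2 hd')⟩⟩

namespace Setting

variable (S : Setting z)

theorem conj_code {g : ℕ} (hg : g < 1152) (h1 : sqH g = 0) (h0 : g ≠ 0) : IsConj z (S.F.f g) := by
  have key : ∀ r, r < 1152 → IsConj z (S.F.f r) → ((List.range 1152).any fun k => cjH k g == r) = true →
      IsConj z (S.F.f g) := by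
    intro r hr hc h
    simp only [List.any_eq_true, List.mem_range, beq_iff_eq] at h
    obtain ⟨k, hk, hk'⟩ := h
    refine hc.trans (isConj_iff.2 ⟨(S.F.f k)⁻¹, ?_⟩)
    rw [← hk', S.F.f_cjH (by omega) hg]; group
  rcases invol_classes ⟨g, hg⟩ h1 with h | h | h | h | h
  · exact absurd h h0
  · simp only at h; rw [h, S.F.fz]
  · exact key 25 (by norm_num) S.conjQ h
  · exact key 576 (by norm_num) S.conjT h
  · exact key 1014 (by norm_num) S.conjU h

/-- A Sylow 2-subgroup of the centraliser. -/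
def sylow : Subgroup G where
  carrier := {x | ∃ a ∈ syl, S.F.f a = x}
  one_mem' := ⟨0, by decide +kernel, S.F.f0⟩
  mul_mem' := by
    rintro _ _ ⟨a, ha, rfl⟩ ⟨b, hb, rfl⟩
    have ha' := List.mem_range.1 (List.mem_filter.1 ha).1
    have hb' := List.mem_range.1 (List.mem_filter.1 hb).1
    exact ⟨mulH a b, List.mem_filter.2 ⟨List.mem_range.2 (mulH_lt _ _), List.all_eq_true.1 (syl_mul a ha) b hb⟩,
      S.F.mul _ _ ha' hb'⟩
  inv_mem' := by
    rintro _ ⟨a, ha, rfl⟩
    have ha' := List.mem_range.1 (List.mem_filter.1 ha).1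
    exact ⟨iH a, List.mem_filter.2 ⟨List.mem_range.2 (iH_lt a), syl_inv a ha⟩, S.F.f_iH ha'⟩

theorem card_sylow : Nat.card S.sylow = 128 := by
  classical
  rw [show Nat.card S.sylow = (S.sylow : Set G).ncard from Nat.card_coe_set_eq _,
    show (S.sylow : Set G) = ↑(syl.toFinset.image S.F.f) by ext x; simp [sylow],
    Set.ncard_coe_finset, Finset.card_image_of_injOn,
    List.toFinset_card_of_nodup (show syl.Nodup from List.nodup_range.filter _)]
  · exact syl_facts.1
  · intro a ha b hb e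
    simp only [List.coe_toFinset, Set.mem_ofPred_eq] at ha hb
    exact S.F.inj a b (List.mem_range.1 (List.mem_filter.1 ha).1) (List.mem_range.1 (List.mem_filter.1 hb).1) e

include S in
/-- Every involution is conjugate to `z`. -/
theorem one_class {x : G} (hx : x * x = 1) (hx1 : x ≠ 1) : IsConj z x := by
  classical
  haveI : Fact (Nat.Prime 2) := ⟨Nat.prime_two⟩
  obtain ⟨P, hP⟩ := (IsPGroup.of_card (n := 7) (S.card_sylow.trans (by norm_num)) : IsPGroup 2 S.sylow).exists_le_sylow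
  have mem : ∀ {a : ℕ}, a ∈ syl → S.F.f a ∈ (P : Subgroup G) := fun ha => hP ⟨_, ha, rfl⟩
  -- the centre of `P` is `⟨z⟩`
  have hPcomm : ∀ p ∈ (P : Subgroup G), Commute p z := by
    intro p hp
    have : Nontrivial (P : Subgroup G) := (Subgroup.nontrivial_iff_exists_ne_one _).2
      ⟨z, by rw [← S.F.fz]; exact mem (by decide +kernel), S.F.centre_ne⟩
    haveI := P.isPGroup'.center_nontrivial
    obtain ⟨⟨c, hc⟩, hc1⟩ := exists_ne (1 : Subgroup.center (P : Subgroup G))
    have hcc : ∀ q : (P : Subgroup G), (q : G) * c = c * q := fun q =>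
      congrArg Subtype.val (Subgroup.mem_center_iff.1 hc q)
    have hcz : Commute (c : G) z := by
      have h : Commute (c : G) (S.F.f 12) := (hcc ⟨_, mem (show (12 : ℕ) ∈ syl by decide +kernel)⟩).symm
      rwa [S.F.fz] at h
    obtain ⟨g, hg, hge⟩ := S.F.surj _ hcz
    have hcomm : ∀ a, a < 1152 → a ∈ syl → mulH g a = mulH a g := fun a ha has =>
      (S.F.commute_iff hg ha).1 (by rw [hge]; exact (hcc ⟨_, mem has⟩).symm)
    rcases syl_center ⟨g, hg⟩ (hcomm 288 (by norm_num) syl_facts.2.2.2.2.2.1)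
      (hcomm 576 (by norm_num) syl_facts.2.2.2.2.2.2) (hcomm 24 (by norm_num) syl_facts.2.1)
      (hcomm 1 (by norm_num) syl_facts.2.2.1) (hcomm 168 (by norm_num) syl_facts.2.2.2.1)
      (hcomm 7 (by norm_num) syl_facts.2.2.2.2.1) with h | h <;> simp only at h
    · rw [h, S.F.f0] at hge
      exact absurd (Subtype.ext (Subtype.ext hge.symm)) hc1
    · rw [h, S.F.fz] at hge
      have := hcc ⟨p, hp⟩
      rw [← hge] at this; exact this
  have hxp : IsPGroup 2 (Subgroup.zpowers x) := IsPGroup.of_card (n := 1) (by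
    rw [Nat.card_zpowers, pow_one]; exact orderOf_eq_prime (by rw [pow_two, hx]) hx1)
  obtain ⟨P', hP'⟩ := hxp.exists_le_sylow
  obtain ⟨g, hg⟩ := MulAction.exists_smul_eq G P' P
  have hgx : g * x * g⁻¹ ∈ (P : Subgroup G) := by
    rw [← hg]
    exact ⟨x, hP' (Subgroup.mem_zpowers x), rfl⟩
  obtain ⟨a, ha, hae⟩ := S.F.surj _ (hPcomm _ hgx)
  have h1 : sqH a = 0 := (S.F.sq_eq_one_iff ha).1 (by rw [hae, conj_mul, hx, mul_one, mul_inv_cancel])
  have h0 : a ≠ 0 := fun h => hx1 (by
    rw [h, S.F.f0] at hae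
    calc x = g⁻¹ * (g * x * g⁻¹) * g := by group
      _ = 1 := by rw [← hae]; group)
  exact (S.conj_code ha h1 h0).trans (isConj_iff.2 ⟨g⁻¹, by rw [hae]; group⟩)

include S in
/-- Every involution has a frame. -/
theorem exists_frame {x : G} (hx : x * x = 1) (hx1 : x ≠ 1) : Nonempty (Frame x) := by
  obtain ⟨a, ha⟩ := isConj_iff.1 (S.one_class hx hx1)
  exact ⟨(S.F.conj a).cast ha⟩

end Setting

end Cfsg.Agent.U43T
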