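import Cfsg.Agent.Lib.U43T.PMain

/-!
The case of a small centraliser is impossible.
-/

set_option autoImplicit false
set_option linter.unusedSectionVars false

namespace Cfsg.Agent.U43T

open Subgroup

variable {G : Type*} [Group G] [Finite G] {z z₀ : G}

theorem pList_nine : ∀ a ∈ pList, mulH (mulH a a) a = 0 := by decide +kernel

namespace Cycle

variable {F : Frame z} (C : Cycle F)

theorem z_swap : F.f 288 * z * (F.f 288)⁻¹ = z := by
  rw [(F.comm 288 (by norm_num)).eq, mul_inv_cancel_right]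

theorem t_swap : F.f 288 * F.f 576 * (F.f 288)⁻¹ = F.f 588 := by
  rw [← F.f_cjH (by norm_num) (by norm_num), tau_vals.1]

theorem u_swap : F.f 288 * F.f 150 * (F.f 288)⁻¹ = (F.f 150)⁻¹ := by
  rw [← F.f_cjH (by norm_num) (by norm_num), tau_vals.2.2.1, ← F.f_iH (by norm_num),
    show iH 150 = 225 by decide +kernel]

theorem cp_normal {a : G} (ha : ∀ p ∈ F.psub, a * p * a⁻¹ ∈ F.psub) {x : G} (hx : x ∈ F.cp) :
    a * x * a⁻¹ ∈ F.cp := by
  classical
  let f : F.psub → F.psub := fun q => ⟨a * q * a⁻¹, ha q q.2⟩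
  have hf : Function.Injective f := fun q r h =>
    Subtype.ext (mul_left_cancel (mul_right_cancel (congrArg Subtype.val h)))
  have key : ∀ p ∈ F.psub, Commute (a * x * a⁻¹) p := by
    intro p hp
    obtain ⟨q, hq⟩ := (Finite.injective_iff_surjective.1 hf) ⟨p, hp⟩
    have hq' : a * q * a⁻¹ = p := congrArg Subtype.val hq
    rw [← hq']
    show a * x * a⁻¹ * (a * q * a⁻¹) = a * q * a⁻¹ * (a * x * a⁻¹)
    rw [conj_mul, conj_mul, (F.cp_comm_psub hx q.2).eq]
  exact F.mem_cp.2 ⟨key _ ⟨144, by decide, rfl⟩, key _ ⟨6, by decide, rfl⟩⟩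

theorem esub_gen (C : Cycle F) : F.esub ≤
    closure {e | e ∈ F.esub ∧ (Commute e z ∨ Commute e (F.f 576) ∨ Commute e (F.f 588))} := by
  have h := le_closure_fixed (E := F.esub) F.esub_odd F.centre_sq F.outer_576.1 (F.comm 576 (by norm_num)).symm
    (fun e he => F.esub_conj (fun p hp => by
      rw [(F.psub_z hp).symm.eq, mul_inv_cancel_right]; exact hp) he)
    (fun e he => F.esub_conj (fun p hp => (tau_psub (F := F) hp).1) he)
  rwa [← F.f588.1] at h

include C in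
theorem esub_fix_card (S : Setting z₀) : ∀ x ∈ C.Ft.psub, x ∈ F.esub := by
  classical
  haveI : Fact (Nat.Prime 3) := ⟨Nat.prime_three⟩
  -- otherwise the centraliser of `t` in `esub` is generated by `u`
  by_contra hne
  set A : Subgroup G := C.Ft.psub ⊓ F.esub with hA
  set U : Subgroup G := zpowers (F.f 150) with hU
  have hUcard : Nat.card U = 3 := by rw [Nat.card_zpowers, orderOf_cube F.u_code.1 F.u_code.2]
  have huE : F.f 150 ∈ F.esub := F.psub_le_esub ⟨150, by decide, rfl⟩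
  have hUA : U ≤ A := zpowers_le.2 ⟨C.u_mem_ft, huE⟩
  have hAcard : Nat.card A = 3 := by
    have h1 : Nat.card A ∣ 9 := C.Ft.card_psub ▸ card_dvd_of_le (inf_le_left : A ≤ C.Ft.psub)
    have h2 : Nat.card A ≠ 9 := by
      intro h
      have : A = C.Ft.psub := eq_of_le_of_card_ge inf_le_left (by rw [h, C.Ft.card_psub])
      exact hne fun x hx => (this ▸ hx : x ∈ A).2
    have h3 : 3 ∣ Nat.card A := hUcard ▸ card_dvd_of_le hUA
    have h4 : Nat.card A ≤ 9 := Nat.le_of_dvd (by norm_num) h1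
    generalize Nat.card A = c at h1 h2 h3 h4 ⊢
    interval_cases c <;> omega
  have hAU : A = U := (eq_of_le_of_card_ge hUA (by rw [hAcard, hUcard])).symm
  have hEP : F.esub = F.psub := by
    refine le_antisymm ((esub_gen C).trans ((closure_le _).2 ?_)) F.psub_le_esub
    have huP : U ≤ F.psub := zpowers_le.2 ⟨150, by decide, rfl⟩
    rintro e ⟨he, h | h | h⟩
    · exact F.esub_fixed he h
    · exact huP (hAU ▸ (⟨C.esub_fix_t he h, he⟩ : e ∈ A))
    · obtain ⟨h1, h2⟩ := C.esub_fix_s he h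
      have h' : (F.f 288)⁻¹ * e * F.f 288 ∈ F.psub := huP (hAU ▸ (⟨h1, h2⟩ : _ ∈ A))
      have := (tau_psub (F := F) h').2
      rwa [show F.f 288 * ((F.f 288)⁻¹ * e * F.f 288) * (F.f 288)⁻¹ = e by group] at this
  -- the normaliser of `psub` centralises `z`
  have hNH : ∀ g : G, (∀ p ∈ F.psub, g * p * g⁻¹ ∈ F.psub) → Commute g z := by
    intro g hg
    set w := g * z * g⁻¹ with hw
    have hwcp : w ∈ F.cp := cp_normal hg F.z_mem_cp
    have hw2 : w * w = 1 := by rw [hw, conj_mul, F.centre_sq, mul_one, mul_inv_cancel]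
    have hw1 : w ≠ 1 := fun h => F.centre_ne (conj_eq_one_iff.1 h)
    have hcz : ∀ x ∈ F.cp, Commute x z := by
      intro x hx
      rcases F.cp_cases hx with h | h <;> rw [hEP] at h
      · exact F.psub_z h
      · have := (F.psub_z h).mul_left (Commute.refl z).inv_left
        simpa using this
    obtain ⟨a, ha, hae⟩ := F.surj w (hcz w hwcp)
    obtain ⟨m1, m2⟩ := F.mem_cp.1 hwcp
    rw [← hae] at m1 m2
    rcases cent_P_sq ⟨a, ha⟩ ((F.commute_iff ha (by norm_num)).1 m1) ((F.commute_iff ha (by norm_num)).1 m2)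
      ((F.sq_eq_one_iff ha).1 (by rw [hae]; exact hw2)) with h | h <;> simp only at h
    · exact absurd (by rw [← hae, h, F.f0]) hw1
    · exact conj_eq_iff_commute.1 (by rw [← hw, ← hae, h, F.fz])
  -- `psub` is a Sylow subgroup
  obtain ⟨R, hR⟩ := (IsPGroup.of_card (n := 2) (F.card_psub.trans (by norm_num)) : IsPGroup 3 F.psub).exists_le_sylow
  have hRP : (R : Subgroup G) = F.psub := by
    refine le_antisymm ?_ hR
    by_contra hnle
    set W := F.psub.subgroupOf (R : Subgroup G) with hW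
    have hWlt : W < ⊤ := lt_top_iff_ne_top.2 fun h => hnle (subgroupOf_eq_top.1 h)
    haveI := R.isPGroup'.isNilpotent
    obtain ⟨g, hg, hgW⟩ := SetLike.exists_of_lt (Group.normalizerCondition_of_isNilpotent W hWlt)
    have hgn : ∀ p ∈ F.psub, (g : G) * p * (g : G)⁻¹ ∈ F.psub := fun p hp =>
      (mem_normalizer_iff.1 hg ⟨p, hR hp⟩).1 hp
    obtain ⟨a, ha, hae⟩ := F.surj _ (hNH _ hgn)
    refine hgW ?_
    show (g : G) ∈ F.psub
    have h3 : mulH (mulH a a) a = 0 := by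
      refine (F.cube_eq_one_iff ha).1 ?_
      obtain ⟨j, hj⟩ := R.isPGroup' g
      have hj' : F.f a ^ 3 ^ j = 1 := by
        rw [hae, ← Subgroup.coe_pow, hj]; rfl
      have h24 : F.f a ^ 24 = 1 := by
        have := congrArg F.f (exp_twentyfour ⟨a, ha⟩)
        simp only [sqH, F.mul _ _ (mulH_lt _ _) (mulH_lt _ _), F.mul _ _ ha ha, F.f0] at this
        rw [← this]
        simp [pow_succ, mul_assoc]
      have h3' : orderOf (F.f a) ∣ 3 :=
        (Nat.Coprime.dvd_of_dvd_mul_right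
          (show Nat.Coprime (orderOf (F.f a)) 8 from Nat.Coprime.coprime_dvd_left
            (orderOf_dvd_of_pow_eq_one hj') (Nat.Coprime.pow_left j (by norm_num)))
          (show orderOf (F.f a) ∣ 3 * 8 from orderOf_dvd_of_pow_eq_one h24))
      have := orderOf_dvd_iff_pow_eq_one.1 h3'
      rwa [pow_succ, pow_two] at this
    have hmem : ∀ p ∈ pList, cjH a p ∈ pList := by
      intro p hp
      obtain ⟨q, hq, e⟩ := hgn _ ⟨p, hp, rfl⟩
      rw [← hae, ← F.f_cjH ha (pList_lt p hp)] at e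
      exact F.inj _ _ (pList_lt q hq) (cjH_lt _ _) e ▸ hq
    exact ⟨a, normP_cube ⟨a, ha⟩ h3 (hmem 144 (by decide)) (hmem 6 (by decide)), hae⟩
  -- an element of three-power order cycling the four group
  obtain ⟨k, m, hm3, hn⟩ := Nat.exists_eq_pow_mul_and_not_dvd (orderOf_pos C.n).ne' 3 (by norm_num)
  set y := C.n ^ m with hy
  have hyu : Commute y (F.f 150) := C.nu.pow_left m
  have hy3 : y ^ 3 ^ k = 1 := by rw [hy, ← pow_mul, mul_comm, ← hn, pow_orderOf_eq_one]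
  have n3 : ∀ v, v = z ∨ v = F.f 576 ∨ v = F.f 588 → C.n ^ 3 * v * (C.n ^ 3)⁻¹ = v := by
    have step : ∀ v, C.n ^ 3 * v * (C.n ^ 3)⁻¹ = C.n * (C.n * (C.n * v * C.n⁻¹) * C.n⁻¹) * C.n⁻¹ := fun v => by
      simp only [pow_succ, pow_zero, one_mul, mul_inv_rev, mul_assoc]
    rintro v (rfl | rfl | rfl) <;> simp only [step, C.nz, C.nt, C.ns]
  have hycase : (y * z * y⁻¹ = F.f 576 ∧ y * F.f 576 * y⁻¹ = F.f 588 ∧ y * F.f 588 * y⁻¹ = z) ∨
      (y * z * y⁻¹ = F.f 588 ∧ y * F.f 588 * y⁻¹ = F.f 576 ∧ y * F.f 576 * y⁻¹ = z) := by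
    have n3' : ∀ (q : ℕ) v, (v = z ∨ v = F.f 576 ∨ v = F.f 588) → (C.n ^ 3) ^ q * v * ((C.n ^ 3) ^ q)⁻¹ = v :=
      fun q v hv => conj_eq_iff_commute.2 ((conj_eq_iff_commute.1 (n3 v hv)).pow_left q)
    have e : y = C.n ^ (m % 3) * (C.n ^ 3) ^ (m / 3) := by
      rw [hy, ← pow_mul, ← pow_add]; congr 1; omega
    have act : ∀ v, (v = z ∨ v = F.f 576 ∨ v = F.f 588) →
        y * v * y⁻¹ = C.n ^ (m % 3) * v * (C.n ^ (m % 3))⁻¹ := fun v hv => by
      rw [e, show ∀ a b : G, a * b * v * (a * b)⁻¹ = a * (b * v * b⁻¹) * a⁻¹ from fun a b => by group, n3' _ v hv]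
    rcases (show m % 3 = 1 ∨ m % 3 = 2 by omega) with h | h
    · left
      rw [act z (Or.inl rfl), act _ (Or.inr (Or.inl rfl)), act _ (Or.inr (Or.inr rfl)), h, pow_one]
      exact ⟨C.nz, C.nt, C.ns⟩
    · right
      have sq : ∀ v, C.n ^ 2 * v * (C.n ^ 2)⁻¹ = C.n * (C.n * v * C.n⁻¹) * C.n⁻¹ := fun v => by
        simp only [pow_succ, pow_zero, one_mul, mul_inv_rev, mul_assoc]
      rw [act z (Or.inl rfl), act _ (Or.inr (Or.inl rfl)), act _ (Or.inr (Or.inr rfl)), h, sq, sq, sq, C.nz, C.ns,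
        C.nt, C.nz]
      exact ⟨rfl, rfl, C.ns⟩
  -- adjust the swapping element inside the four group
  set h₀ := F.f 288 with hh₀
  obtain ⟨zt, ts, st⟩ : h₀ * z * h₀⁻¹ = z ∧ h₀ * F.f 576 * h₀⁻¹ = F.f 588 ∧ h₀ * F.f 588 * h₀⁻¹ = F.f 576 :=
    ⟨z_swap, t_swap, by rw [← F.f_cjH (by norm_num) (by norm_num), tau_vals.2.1]⟩
  set w := y * (h₀ * y * h₀⁻¹) with hw
  have hwu : Commute w (F.f 150) := by
    refine hyu.mul_left ?_
    have e : h₀ * F.f 150 * h₀⁻¹ = (F.f 150)⁻¹ := u_swap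
    have : Commute (h₀ * y * h₀⁻¹) (F.f 150)⁻¹ := by
      rw [← e]
      show h₀ * y * h₀⁻¹ * (h₀ * F.f 150 * h₀⁻¹) = h₀ * F.f 150 * h₀⁻¹ * (h₀ * y * h₀⁻¹)
      rw [conj_mul, conj_mul, hyu.eq]
    simpa using this.inv_right
  have hwV : Commute w z ∧ Commute w (F.f 576) := by
    have inv_of : ∀ {a b : G}, h₀ * a * h₀⁻¹ = b → h₀⁻¹ * b * h₀ = a := fun e => by rw [← e]; group
    have step : ∀ v, w * v * w⁻¹ = y * (h₀ * (y * (h₀⁻¹ * v * h₀) * y⁻¹) * h₀⁻¹) * y⁻¹ := fun v => by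
      rw [hw]; group
    rcases hycase with ⟨c1, c2, c3⟩ | ⟨c1, c2, c3⟩ <;> constructor <;> refine conj_eq_iff_commute.1 ?_ <;> rw [step]
    · rw [inv_of zt, c1, ts, c3]
    · rw [inv_of st, c3, zt, c1]
    · rw [inv_of zt, c1, st, c3]
    · rw [inv_of st, c2, ts, c2]
  obtain ⟨a, ha, hae⟩ := F.surj w hwV.1
  have hcl := cent_four ⟨a, ha⟩ ((F.commute_iff ha (by norm_num)).1 (hae ▸ hwu))
    ((F.commute_iff ha (by norm_num)).1 (hae ▸ hwV.2))
  obtain ⟨v₀, j, hv₀, hwj⟩ : ∃ v₀ j, (v₀ = 1 ∨ v₀ = z ∨ v₀ = F.f 576 ∨ v₀ = F.f 588) ∧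
      (j = 1 ∨ j = F.f 150 ∨ j = (F.f 150)⁻¹) ∧ w = v₀ * j := by
    have hv : ∀ b ∈ [(0 : ℕ), 12, 576, 588], F.f b = 1 ∨ F.f b = z ∨ F.f b = F.f 576 ∨ F.f b = F.f 588 := by
      intro b hb
      simp only [List.mem_cons, List.not_mem_nil, or_false] at hb
      rcases hb with rfl | rfl | rfl | rfl
      · exact Or.inl F.f0
      · exact Or.inr (Or.inl F.fz)
      · exact Or.inr (Or.inr (Or.inl rfl))
      · exact Or.inr (Or.inr (Or.inr rfl))
    have e225 : F.f 225 = (F.f 150)⁻¹ := by rw [← F.f_iH (by norm_num), show iH 150 = 225 by decide +kernel]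
    simp only at hcl
    rcases hcl with h | h | h
    · exact ⟨F.f a, 1, hv a h, Or.inl rfl, by rw [hae, mul_one]⟩
    · refine ⟨F.f (mulH a 150), (F.f 150)⁻¹, hv _ h, Or.inr (Or.inr rfl), ?_⟩
      rw [F.mul _ _ ha (by norm_num), mul_inv_cancel_right, hae]
    · refine ⟨F.f (mulH a 225), F.f 150, hv _ h, Or.inr (Or.inl rfl), ?_⟩
      rw [F.mul _ _ ha (by norm_num), e225, inv_mul_cancel_right, hae]
  obtain ⟨hj, hwj⟩ := hwj
  have hju : Commute j (F.f 150) := by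
    rcases hj with rfl | rfl | rfl
    · exact Commute.one_left _
    · exact Commute.refl _
    · exact (Commute.refl _).inv_left
  -- choose the correcting element
  obtain ⟨v, hv, hvfix⟩ : ∃ v, (v = 1 ∨ v = z ∨ v = F.f 576 ∨ v = F.f 588) ∧ y * v * y⁻¹ * v₀ * v = 1 := by
    have e1 : z * F.f 576 = F.f 588 := F.f588.1.symm
    have e2 : F.f 576 * z = F.f 588 := F.f588.2.symm
    have q1 := F.centre_sq
    have q2 := F.outer_576.1
    have e3 : F.f 588 * F.f 588 = 1 := by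
      nth_rw 1 [← e1]; nth_rw 1 [← e2]
      rw [mul_assoc, ← mul_assoc (F.f 576), q2, one_mul, q1]
    have e4 : z * F.f 588 = F.f 576 := by rw [← e1, ← mul_assoc, q1, one_mul]
    have e5 : F.f 588 * z = F.f 576 := by rw [← e2, mul_assoc, q1, mul_one]
    have e6 : F.f 576 * F.f 588 = z := by rw [← e2, ← mul_assoc, q2, one_mul]
    have e7 : F.f 588 * F.f 576 = z := by rw [← e1, mul_assoc, q2, mul_one]
    have y1 : y * 1 * y⁻¹ * 1 * 1 = 1 := by group
    rcases hycase with ⟨c1, c2, c3⟩ | ⟨c1, c2, c3⟩ <;> rcases hv₀ with rfl | rfl | rfl | rfl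
    · exact ⟨1, Or.inl rfl, y1⟩
    · exact ⟨_, Or.inr (Or.inr (Or.inl rfl)), by rw [c2, e5, q2]⟩
    · exact ⟨_, Or.inr (Or.inr (Or.inr rfl)), by rw [c3, e1, e3]⟩
    · exact ⟨z, Or.inr (Or.inl rfl), by rw [c1, e6, q1]⟩
    · exact ⟨1, Or.inl rfl, y1⟩
    · exact ⟨_, Or.inr (Or.inr (Or.inr rfl)), by rw [c2, e2, e3]⟩
    · exact ⟨z, Or.inr (Or.inl rfl), by rw [c1, e7, q1]⟩
    · exact ⟨_, Or.inr (Or.inr (Or.inl rfl)), by rw [c3, e4, q2]⟩
  have hvV : ∀ s, (s = z ∨ s = F.f 576 ∨ s = F.f 588) → Commute v s := by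
    have cc : ∀ a b, a ∈ [(0 : ℕ), 12, 576, 588] → b ∈ [(0 : ℕ), 12, 576, 588] → Commute (F.f a) (F.f b) := by
      intro a b ha hb
      refine (F.commute_iff ?_ ?_).2 ((show ∀ a ∈ [(0 : ℕ), 12, 576, 588], ∀ b ∈ [(0 : ℕ), 12, 576, 588],
        mulH a b = mulH b a by decide +kernel) a ha b hb)
      · fin_cases ha <;> norm_num
      · fin_cases hb <;> norm_num
    intro s hs
    have hc : ∀ x, (x = 1 ∨ x = z ∨ x = F.f 576 ∨ x = F.f 588) → ∃ a ∈ [(0 : ℕ), 12, 576, 588], F.f a = x := by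
      rintro x (rfl | rfl | rfl | rfl)
      exacts [⟨0, by simp, F.f0⟩, ⟨12, by simp, F.fz⟩, ⟨576, by simp, rfl⟩, ⟨588, by simp, rfl⟩]
    obtain ⟨a, ha, rfl⟩ := hc v hv
    obtain ⟨b, hb, rfl⟩ := hc s (Or.inr hs)
    exact cc a b ha hb
  have hvu : Commute v (F.f 150) := by
    rcases hv with rfl | rfl | rfl | rfl
    · exact Commute.one_left _
    · exact (F.comm 150 (by norm_num)).symm
    · exact t_u (F := F)
    · rw [F.f588.1]; exact (F.comm 150 (by norm_num)).symm.mul_left (t_u (F := F))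
  have hv2 : v⁻¹ = v := inv_eq_of_mul_eq_one_right (by
    rcases hv with rfl | rfl | rfl | rfl
    · simp
    · exact F.centre_sq
    · exact F.outer_576.1
    · exact (F.sq_eq_one_iff (by norm_num)).2 (by decide +kernel))
  have hjv : Commute j v := by
    rcases hj with rfl | rfl | rfl
    · exact Commute.one_left _
    · exact hvu.symm
    · exact hvu.symm.inv_left
  set g := v * h₀ with hg
  have gz : g * z * g⁻¹ = z := by
    rw [hg, show v * h₀ * z * (v * h₀)⁻¹ = v * (h₀ * z * h₀⁻¹) * v⁻¹ by group, zt]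
    exact conj_eq_iff_commute.2 (hvV z (Or.inl rfl))
  have gt : g * F.f 576 * g⁻¹ = F.f 588 ∧ g * F.f 588 * g⁻¹ = F.f 576 := by
    constructor
    · rw [hg, show v * h₀ * F.f 576 * (v * h₀)⁻¹ = v * (h₀ * F.f 576 * h₀⁻¹) * v⁻¹ by group, ts]
      exact conj_eq_iff_commute.2 (hvV _ (Or.inr (Or.inr rfl)))
    · rw [hg, show v * h₀ * F.f 588 * (v * h₀)⁻¹ = v * (h₀ * F.f 588 * h₀⁻¹) * v⁻¹ by group, st]
      exact conj_eq_iff_commute.2 (hvV _ (Or.inr (Or.inl rfl)))
  have gu : g * F.f 150 * g⁻¹ = (F.f 150)⁻¹ := by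
    rw [hg, show v * h₀ * F.f 150 * (v * h₀)⁻¹ = v * (h₀ * F.f 150 * h₀⁻¹) * v⁻¹ by group,
      show h₀ * F.f 150 * h₀⁻¹ = (F.f 150)⁻¹ from u_swap]
    exact conj_eq_iff_commute.2 hvu.inv_right
  have gy : g * y * g⁻¹ = y⁻¹ * j := by
    calc g * y * g⁻¹ = v * y⁻¹ * w * v⁻¹ := by rw [hg, hw]; group
      _ = v * y⁻¹ * v₀ * (j * v) := by rw [hwj, hv2]; group
      _ = v * y⁻¹ * v₀ * (v * j) := by rw [hjv.eq]
      _ = y⁻¹ * (y * v * y⁻¹ * v₀ * v) * j := by group
      _ = y⁻¹ * j := by rw [hvfix, mul_one]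
  have gjinv : g * j * g⁻¹ = j⁻¹ := by
    rcases hj with rfl | rfl | rfl
    · group
    · exact gu
    · rw [← conj_inv, gu]
  set g3 := g * g * g with hg3
  have g3y : g3 * y * g3⁻¹ = y⁻¹ := by
    have hjy : Commute y j := by
      rcases hj with rfl | rfl | rfl
      · exact Commute.one_right _
      · exact hyu
      · exact hyu.inv_right
    calc g3 * y * g3⁻¹ = g * (g * (g * y * g⁻¹) * g⁻¹) * g⁻¹ := by rw [hg3]; group
      _ = g * (g * (y⁻¹ * j) * g⁻¹) * g⁻¹ := by rw [gy]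
      _ = g * ((g * y * g⁻¹)⁻¹ * (g * j * g⁻¹)) * g⁻¹ := by group
      _ = g * (j⁻¹ * y * j⁻¹) * g⁻¹ := by rw [gy, gjinv]; group
      _ = (g * j * g⁻¹)⁻¹ * (g * y * g⁻¹) * (g * j * g⁻¹)⁻¹ := by group
      _ = j * (y⁻¹ * j) * j := by rw [gjinv, gy, inv_inv]
      _ = y⁻¹ * (j * j * j) := by rw [← mul_assoc j, hjy.inv_left.symm.eq]; group
      _ = y⁻¹ := by
        have h3 : j * j * j = 1 := by
          rcases hj with rfl | rfl | rfl
          · simp
          · exact F.u_code.1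
          · rw [show (F.f 150)⁻¹ * (F.f 150)⁻¹ * (F.f 150)⁻¹ = (F.f 150 * F.f 150 * F.f 150)⁻¹ by group,
              F.u_code.1, inv_one]
        rw [h3, mul_one]
  have g3u : g3 * F.f 150 * g3⁻¹ = (F.f 150)⁻¹ := by
    calc g3 * F.f 150 * g3⁻¹ = g * (g * (g * F.f 150 * g⁻¹) * g⁻¹) * g⁻¹ := by rw [hg3]; group
      _ = _ := by rw [gu, ← conj_inv, gu, inv_inv, gu]
  have g3V : g3 * z * g3⁻¹ = z ∧ g3 * F.f 576 * g3⁻¹ = F.f 588 ∧ g3 * F.f 588 * g3⁻¹ = F.f 576 := by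
    refine ⟨?_, ?_, ?_⟩
    · calc _ = g * (g * (g * z * g⁻¹) * g⁻¹) * g⁻¹ := by rw [hg3]; group
        _ = z := by rw [gz, gz, gz]
    · calc _ = g * (g * (g * F.f 576 * g⁻¹) * g⁻¹) * g⁻¹ := by rw [hg3]; group
        _ = _ := by rw [gt.1, gt.2, gt.1]
    · calc _ = g * (g * (g * F.f 588 * g⁻¹) * g⁻¹) * g⁻¹ := by rw [hg3]; group
        _ = _ := by rw [gt.2, gt.1, gt.2]
  -- move the pair into `psub`
  set P' : Subgroup G := U ⊔ zpowers y with hP'
  have hP'p : IsPGroup 3 P' := by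
    have h1 : IsPGroup 3 U := IsPGroup.of_card (n := 1) (by rw [hUcard, pow_one])
    have h2 : IsPGroup 3 (zpowers y) := by
      obtain ⟨i, -, hi⟩ := (Nat.dvd_prime_pow Nat.prime_three).1 (orderOf_dvd_of_pow_eq_one hy3)
      exact IsPGroup.of_card (n := i) (by rw [Nat.card_zpowers, hi])
    refine h1.to_sup_of_normal_left' h2 (fun q hq => ?_)
    obtain ⟨i, rfl⟩ := mem_zpowers_iff.1 hq
    refine mem_normalizer_iff.2 fun x => ?_
    constructor
    · intro hx
      obtain ⟨j', rfl⟩ := mem_zpowers_iff.1 hx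
      rw [conj_eq_iff_commute.2 ((hyu.zpow_left i).zpow_right j')]
      exact zpow_mem (mem_zpowers _) j'
    · intro hx
      obtain ⟨j', hj'⟩ := mem_zpowers_iff.1 hx
      have : x = (F.f 150) ^ j' := by
        have hc := ((hyu.zpow_left i).inv_left.zpow_right j')
        calc x = (y ^ i)⁻¹ * (y ^ i * x * (y ^ i)⁻¹) * y ^ i := by group
          _ = _ := by rw [← hj', hc.eq]; group
      rw [this]; exact zpow_mem (mem_zpowers _) j'
  obtain ⟨R', hR'⟩ := hP'p.exists_le_sylow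
  obtain ⟨a', ha'⟩ := MulAction.exists_smul_eq G R' R
  have hmemP : ∀ x ∈ P', a' * x * a'⁻¹ ∈ F.psub := by
    intro x hx
    rw [← hRP, ← ha']
    exact ⟨x, hR' hx, rfl⟩
  have huP' : F.f 150 ∈ P' := mem_sup_left (mem_zpowers _)
  have hyP' : y ∈ P' := mem_sup_right (mem_zpowers _)
  have hyU : y ∉ U := by
    intro h
    obtain ⟨i, hi⟩ := mem_zpowers_iff.1 h
    have hc : Commute y z := hi ▸ (F.comm 150 (by norm_num)).zpow_left i
    have hfix := conj_eq_iff_commute.2 hc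
    rcases hycase with ⟨c1, -, -⟩ | ⟨c1, -, -⟩ <;> rw [c1] at hfix
    · exact F.outer_576.2.2 hfix
    · exact absurd (F.inj _ _ (by norm_num) (by norm_num) (hfix.trans F.fz.symm)) (by norm_num)
  set P'' := P'.map (MulAut.conj a').toMonoidHom with hP''
  have hPeq : P'' = F.psub := by
    refine eq_of_le_of_card_ge ?_ ?_
    · rintro _ ⟨x, hx, rfl⟩
      exact hmemP x hx
    · rw [hP'', card_map_of_injective (MulEquiv.injective _), F.card_psub]
      have hlt : U < P' := lt_of_le_of_ne le_sup_left fun e => hyU (e ▸ hyP')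
      have hd : Nat.card P' ∣ 9 := by
        have hc : Nat.card P'' = Nat.card P' :=
          card_map_of_injective (f := (MulAut.conj a').toMonoidHom) (MulEquiv.injective _)
        rw [← hc, ← F.card_psub]
        refine card_dvd_of_le ?_
        rintro _ ⟨x, hx, rfl⟩
        exact hmemP x hx
      have h3 : 3 ∣ Nat.card P' := hUcard ▸ card_dvd_of_le hlt.le
      have hne3 : Nat.card P' ≠ 3 := fun h => hlt.ne (eq_of_le_of_card_ge hlt.le (by rw [h, hUcard]))
      have h9 : Nat.card P' ≤ 9 := Nat.le_of_dvd (by norm_num) hd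
      generalize Nat.card P' = c at hd h3 hne3 h9 ⊢
      interval_cases c <;> omega
  have hinvP' : ∀ x ∈ P', g3 * x * g3⁻¹ = x⁻¹ ∧ ∀ x' ∈ P', Commute x x' := by
    have hsub : (P' : Set G) ⊆ {x | (g3 * x * g3⁻¹ = x⁻¹) ∧ ∃ p ∈ F.psub, a' * x * a'⁻¹ = p} := by
      intro x hx
      refine ⟨?_, _, hmemP x hx, rfl⟩
      have hab : ∀ a ∈ P', ∀ b ∈ P', Commute a b := fun a ha b hb => by
        have h := F.psub_comm (hmemP a ha) (hmemP b hb)
        have h' : a' * a * a'⁻¹ * (a' * b * a'⁻¹) = a' * b * a'⁻¹ * (a' * a * a'⁻¹) := h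
        rw [conj_mul, conj_mul] at h'
        exact mul_left_cancel (mul_right_cancel h')
      have hcl : P' = closure {F.f 150, y} := by
        rw [hP', hU, zpowers_eq_closure, zpowers_eq_closure, ← Subgroup.closure_union, Set.singleton_union]
      rw [SetLike.mem_coe, hcl] at hx
      induction hx using closure_induction with
      | mem a ha =>
        rcases ha with rfl | rfl
        · exact g3u
        · exact g3y
      | one => simp
      | mul a b ha hb h1 h2 =>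
        rw [← hcl] at ha hb
        rw [← conj_mul, h1, h2, ← mul_inv_rev, (hab b hb a ha).eq]
      | inv a _ h1 => rw [← conj_inv, h1]
    intro x hx
    refine ⟨(hsub hx).1, fun x' hx' => ?_⟩
    have h := F.psub_comm (hmemP x hx) (hmemP x' hx')
    have h' : a' * x * a'⁻¹ * (a' * x' * a'⁻¹) = a' * x' * a'⁻¹ * (a' * x * a'⁻¹) := h
    rw [conj_mul, conj_mul] at h'
    exact mul_left_cancel (mul_right_cancel h')
  set q := a' * g3 * a'⁻¹ with hq
  have hqinv : ∀ p ∈ F.psub, q * p * q⁻¹ = p⁻¹ := by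
    intro p hp
    rw [← hPeq] at hp
    obtain ⟨x, hx, rfl⟩ := hp
    show a' * g3 * a'⁻¹ * (a' * x * a'⁻¹) * (a' * g3 * a'⁻¹)⁻¹ = (a' * x * a'⁻¹)⁻¹
    rw [show a' * g3 * a'⁻¹ * (a' * x * a'⁻¹) * (a' * g3 * a'⁻¹)⁻¹ = a' * (g3 * x * g3⁻¹) * a'⁻¹ by group,
      (hinvP' x hx).1, conj_inv]
  obtain ⟨b, hb, hbe⟩ := F.surj q (hNH q fun p hp => (hqinv p hp) ▸ inv_mem hp)
  have hb12 : sqH b = 12 := by
    refine invertP ⟨b, hb⟩ (F.inj _ _ (cjH_lt _ _) (by norm_num) ?_) (F.inj _ _ (cjH_lt _ _) (by norm_num) ?_)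
    · rw [F.f_cjH hb (by norm_num), hbe, hqinv _ ⟨144, by decide, rfl⟩, ← F.f_iH (by norm_num),
        show iH 144 = 216 by decide +kernel]
    · rw [F.f_cjH hb (by norm_num), hbe, hqinv _ ⟨6, by decide, rfl⟩, ← F.f_iH (by norm_num),
        show iH 6 = 9 by decide +kernel]
  set z' := g3 * g3 with hz'
  have hqz : a' * z' * a'⁻¹ = z := by
    have h := congrArg F.f hb12
    rw [sqH, F.mul _ _ hb hb, hbe, F.fz, hq] at h
    rw [← h, hz']; group
  have hz'2 : z' * z' = 1 := by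
    have : a' * (z' * z') * a'⁻¹ = 1 := by rw [← conj_mul, hqz, F.centre_sq]
    exact conj_eq_one_iff.1 this
  have hz'1 : z' ≠ 1 := fun h => F.centre_ne (by rw [← hqz, h]; group)
  have sq : ∀ x, z' * x * z'⁻¹ = g3 * (g3 * x * g3⁻¹) * g3⁻¹ := fun x => by rw [hz']; group
  have hz'y : Commute z' y := conj_eq_iff_commute.1 (by rw [sq, g3y, ← conj_inv, g3y, inv_inv])
  have hz'u : Commute z' (F.f 150) := conj_eq_iff_commute.1 (by rw [sq, g3u, ← conj_inv, g3u, inv_inv])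
  have hz'z : Commute z' z := conj_eq_iff_commute.1 (by rw [sq, g3V.1, g3V.1])
  have hz't : Commute z' (F.f 576) := conj_eq_iff_commute.1 (by rw [sq, g3V.2.1, g3V.2.2])
  obtain ⟨d, hd, hde⟩ := F.surj z' hz'z
  have hd4 := cent_four_sq ⟨d, hd⟩ ((F.commute_iff hd (by norm_num)).1 (hde ▸ hz'u))
    ((F.commute_iff hd (by norm_num)).1 (hde ▸ hz't)) ((F.sq_eq_one_iff hd).1 (by rw [hde]; exact hz'2))
  have hfix := conj_eq_iff_commute.2 hz'y.symm
  simp only [List.mem_cons, List.not_mem_nil, or_false] at hd4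
  rcases hd4 with rfl | rfl | rfl | rfl
  · exact hz'1 (by rw [← hde, F.f0])
  all_goals
    rw [← hde] at hfix
    try rw [F.fz] at hfix
    rcases hycase with ⟨c1, c2, c3⟩ | ⟨c1, c2, c3⟩
  all_goals first
    | exact absurd (F.inj _ _ (by norm_num) (by norm_num) ((c1.symm.trans hfix).trans F.fz.symm)) (by norm_num)
    | exact absurd (F.inj _ _ (by norm_num) (by norm_num) (c2.symm.trans hfix)) (by norm_num)
    | exact absurd (F.inj _ _ (by norm_num) (by norm_num) (F.fz.trans (c3.symm.trans hfix))) (by norm_num)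

end Cycle

end Cfsg.Agent.U43T
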