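import Cfsg.Agent.Lib.U43T.PCard

/-!
The structure of the elementary abelian subgroup of order 81.
-/

set_option autoImplicit false
set_option linter.unusedSectionVars false

namespace Cfsg.Agent.U43T

open Subgroup

variable {G : Type*} [Group G] [Finite G] {z z₀ : G}

theorem UTy.map {x : G} (h : UTy x) (g : G) : UTy (g * x * g⁻¹) := by
  obtain ⟨h3, h1, a, b, a2, a1, b2, b1, hab, cab, cax, cbx⟩ := h
  refine ⟨by rw [conj_mul, conj_mul, h3, mul_one, mul_inv_cancel], fun e => h1 (conj_eq_one_iff.1 e),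
    g * a * g⁻¹, g * b * g⁻¹, by rw [conj_mul, a2, mul_one, mul_inv_cancel], fun e => a1 (conj_eq_one_iff.1 e),
    by rw [conj_mul, b2, mul_one, mul_inv_cancel], fun e => b1 (conj_eq_one_iff.1 e),
    fun e => hab (mul_left_cancel (mul_right_cancel e)), ?_, ?_, ?_⟩ <;>
  show _ = _ <;> rw [conj_mul, conj_mul]
  · rw [cab.eq]
  · rw [cax.eq]
  · rw [cbx.eq]

theorem UTy.inv {x : G} (h : UTy x) : UTy x⁻¹ := by
  obtain ⟨h3, h1, a, b, a2, a1, b2, b1, hab, cab, cax, cbx⟩ := h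
  exact ⟨by rw [show x⁻¹ * x⁻¹ * x⁻¹ = (x * x * x)⁻¹ by group, h3, inv_one], inv_ne_one.2 h1,
    a, b, a2, a1, b2, b1, hab, cab, cax.inv_right, cbx.inv_right⟩

namespace Frame

variable (F : Frame z)

theorem uty_150 : UTy (F.f 150) := by
  obtain ⟨h1, h2, h3⟩ := F.outer_576
  exact ⟨F.u_code.1, F.u_code.2, z, F.f 576, F.centre_sq, F.centre_ne, h1, h2, fun e => h3 e.symm,
    (F.comm 576 (by norm_num)).symm, (F.comm 150 (by norm_num)).symm, Cycle.t_u (F := F)⟩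

theorem twist_576 : F.twist.f 576 = F.f 1014 := by rw [F.twist_f, twist_vals.2.1]

theorem twist_150 : F.twist.f 150 = F.f 153 := by rw [F.twist_f, twist_vals.1]

theorem uty_153 : UTy (F.f 153) := by
  rw [← F.twist_150]; exact F.twist.uty_150

end Frame

namespace Cycle

variable {F : Frame z} (C : Cycle F)

/-- The second generator of the fixed points of `t`. -/
def xt : G := C.n * F.f 153 * C.n⁻¹

/-- The second generator of the fixed points of `z * t`. -/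
def xs : G := C.n * C.xt * C.n⁻¹

theorem conj_n_commute {x y : G} (h : Commute x y) : Commute (C.n * x * C.n⁻¹) (C.n * y * C.n⁻¹) := by
  show _ = _
  rw [conj_mul, conj_mul, h.eq]

theorem conj_inv_rel {g a b : G} (h : a * b * a⁻¹ = b⁻¹) :
    (g * a * g⁻¹) * (g * b * g⁻¹) * (g * a * g⁻¹)⁻¹ = (g * b * g⁻¹)⁻¹ := by
  rw [show g * a * g⁻¹ * (g * b * g⁻¹) * (g * a * g⁻¹)⁻¹ = g * (a * b * a⁻¹) * g⁻¹ by group, h]
  group

theorem x153_rel : F.f 576 * F.f 153 * (F.f 576)⁻¹ = (F.f 153)⁻¹ ∧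
    F.f 588 * F.f 153 * (F.f 588)⁻¹ = (F.f 153)⁻¹ := by
  have e : F.f 222 = (F.f 153)⁻¹ := by rw [← F.f_iH (by norm_num), show iH 153 = 222 by decide +kernel]
  constructor
  · rw [← F.f_cjH (by norm_num) (by norm_num), show cjH 576 153 = 222 by decide +kernel, e]
  · rw [← F.f_cjH (by norm_num) (by norm_num), show cjH 588 153 = 222 by decide +kernel, e]

theorem xt_rel : F.f 588 * C.xt * (F.f 588)⁻¹ = C.xt⁻¹ ∧ z * C.xt * z⁻¹ = C.xt⁻¹ ∧ Commute C.xt (F.f 576) := by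
  refine ⟨?_, ?_, ?_⟩
  · rw [xt, ← C.nt]; exact conj_inv_rel (x153_rel (F := F)).1
  · have h := conj_inv_rel (g := C.n) (x153_rel (F := F)).2
    rw [C.ns] at h; exact h
  · rw [← C.nz]; exact C.conj_n_commute (F.comm 153 (by norm_num))

theorem xs_rel : z * C.xs * z⁻¹ = C.xs⁻¹ ∧ F.f 576 * C.xs * (F.f 576)⁻¹ = C.xs⁻¹ ∧ Commute C.xs (F.f 588) := by
  refine ⟨?_, ?_, ?_⟩
  · have h := conj_inv_rel (g := C.n) C.xt_rel.1
    rw [C.ns] at h; exact h
  · have h := conj_inv_rel (g := C.n) C.xt_rel.2.1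
    rw [C.nz] at h; exact h
  · rw [← C.nt]; exact C.conj_n_commute C.xt_rel.2.2

theorem xt_mem : C.xt ∈ C.Ft.psub := C.conj_psub ⟨153, by decide, rfl⟩

theorem uty_xt : UTy C.xt := F.uty_153.map C.n

theorem uty_xs : UTy C.xs := C.uty_xt.map C.n

theorem tau_conj_ft {x : G} (hx : x ∈ C.Ft.psub) :
    (F.f 288)⁻¹ * (C.n * x * C.n⁻¹) * F.f 288 ∈ C.Ft.psub := by
  have hxt : Commute x (F.f 576) := C.Ft.psub_z hx
  have hxu : Commute x (F.f 150) := C.Ft.psub_comm hx C.u_mem_ft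
  obtain ⟨a, ha, rfl⟩ := hx
  refine C.mem_ft_psub ?_ ?_ ?_
  · have h := C.conj_n_commute hxt
    rw [C.nt, ← t_swap (F := F)] at h
    show _ = _
    calc _ = (F.f 288)⁻¹ * (C.n * C.Ft.f a * C.n⁻¹ * (F.f 288 * F.f 576 * (F.f 288)⁻¹)) * F.f 288 := by group
      _ = _ := by rw [h.eq]; group
  · have h := C.conj_n_commute hxu
    rw [conj_eq_iff_commute.2 C.nu] at h
    have h' := h.inv_right
    rw [← u_swap (F := F)] at h'
    show _ = _
    calc _ = (F.f 288)⁻¹ * (C.n * C.Ft.f a * C.n⁻¹ * (F.f 288 * F.f 150 * (F.f 288)⁻¹)) * F.f 288 := by group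
      _ = _ := by rw [h'.eq]; group
  · have h3 : C.Ft.f a * C.Ft.f a * C.Ft.f a = 1 := C.Ft.cube_of_code (pList_lt a ha) (pList_nine a ha)
    rw [show ∀ g k : G, k⁻¹ * g * k * (k⁻¹ * g * k) * (k⁻¹ * g * k) = k⁻¹ * (g * g * g) * k from
      fun g k => by group, conj_mul, conj_mul, h3]
    group

theorem u_mem : F.f 150 ∈ F.psub := ⟨150, by decide, rfl⟩

theorem x_mem : F.f 153 ∈ F.psub := ⟨153, by decide, rfl⟩

theorem xt_mem_esub (S : Setting z₀) : C.xt ∈ F.esub := C.esub_fix_card S _ C.xt_mem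

theorem xs_mem_esub (S : Setting z₀) : C.xs ∈ F.esub := by
  have := F.esub_conj (a := F.f 288) (fun p hp => (tau_psub (F := F) hp).2)
    (C.esub_fix_card S _ (C.tau_conj_ft C.xt_mem))
  rwa [show F.f 288 * ((F.f 288)⁻¹ * (C.n * C.xt * C.n⁻¹) * F.f 288) * (F.f 288)⁻¹ = C.xs by rw [xs]; group] at this

theorem psub_split {p : G} (hp : p ∈ F.psub) :
    ∃ i j : Fin 3, p = F.f 150 ^ (i : ℕ) * F.f 153 ^ (j : ℕ) := by
  obtain ⟨a, ha, rfl⟩ := hp
  obtain ⟨i, j, e⟩ : ∃ i j : Fin 3, a = mulH ([0, 150, 225][i.val]! : ℕ) ([0, 153, 222][j.val]! : ℕ) :=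
    (show ∀ a ∈ pList, ∃ i j : Fin 3, a = mulH ([0, 150, 225][i.val]! : ℕ) ([0, 153, 222][j.val]! : ℕ) by
      decide +kernel) a ha
  have e1 : F.f 225 = F.f 150 ^ 2 := by
    rw [pow_two, ← F.mul _ _ (by norm_num) (by norm_num), show mulH 150 150 = 225 by decide +kernel]
  have e2 : F.f 222 = F.f 153 ^ 2 := by
    rw [pow_two, ← F.mul _ _ (by norm_num) (by norm_num), show mulH 153 153 = 222 by decide +kernel]
  refine ⟨i, j, ?_⟩
  rw [e, F.mul _ _ (by fin_cases i <;> norm_num) (by fin_cases j <;> norm_num)]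
  congr 1
  · fin_cases i
    · simp [F.f0]
    · simp
    · simpa using e1
  · fin_cases j
    · simp [F.f0]
    · simp
    · simpa using e2

/-- The generators of `esub`. -/
def gens : Set G := {F.f 150, F.f 153, C.xt, C.xs}

theorem comm_gens (S : Setting z₀) : ∀ a ∈ C.gens, ∀ b ∈ C.gens, Commute a b := by
  have hP : ∀ p ∈ F.psub, ∀ b, b ∈ F.esub → Commute p b := fun p hp b hb =>
    (F.cp_comm_psub (F.mem_esub.1 hb).1 hp).symm
  have hts : Commute C.xt C.xs := by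
    have : C.n * F.f 153 * C.n⁻¹ = C.xt := rfl
    exact C.conj_n_commute (hP _ x_mem _ (C.xt_mem_esub S))
  have hu : Commute (F.f 150) (F.f 153) := F.psub_comm u_mem x_mem
  rintro a ha b hb
  simp only [gens, Set.mem_insert_iff, Set.mem_singleton_iff] at ha hb
  rcases ha with rfl | rfl | rfl | rfl <;> rcases hb with rfl | rfl | rfl | rfl
  all_goals first
    | exact Commute.refl _
    | exact hu
    | exact hu.symm
    | exact hts
    | exact hts.symm
    | exact hP _ u_mem _ (C.xt_mem_esub S)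
    | exact hP _ u_mem _ (C.xs_mem_esub S)
    | exact hP _ x_mem _ (C.xt_mem_esub S)
    | exact hP _ x_mem _ (C.xs_mem_esub S)
    | exact (hP _ u_mem _ (C.xt_mem_esub S)).symm
    | exact (hP _ u_mem _ (C.xs_mem_esub S)).symm
    | exact (hP _ x_mem _ (C.xt_mem_esub S)).symm
    | exact (hP _ x_mem _ (C.xs_mem_esub S)).symm

theorem conj_pow_gen {g x : G} {i j : ℕ} {a b : G} (ha : g * a * g⁻¹ = x) (hb : Commute g b) :
    g * (b ^ i * a ^ j) * g⁻¹ = b ^ i * x ^ j := by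
  rw [← conj_mul, ← conj_pow, ← conj_pow, ha, conj_eq_iff_commute.2 hb]

theorem le_gens : F.esub ≤ closure C.gens := by
  have hu : F.f 150 ∈ closure C.gens := subset_closure (by simp [gens])
  have hx : F.f 153 ∈ closure C.gens := subset_closure (by simp [gens])
  have ht : C.xt ∈ closure C.gens := subset_closure (by simp [gens])
  have hs : C.xs ∈ closure C.gens := subset_closure (by simp [gens])
  have hft : ∀ y ∈ C.Ft.psub, ∃ i j : ℕ, y = F.f 150 ^ i * C.xt ^ j := by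
    intro y hy
    rw [← C.map_psub] at hy
    obtain ⟨p, hp, rfl⟩ := hy
    obtain ⟨i, j, rfl⟩ := psub_split hp
    exact ⟨i, j, conj_pow_gen rfl C.nu⟩
  refine (esub_gen C).trans ((closure_le _).2 ?_)
  rintro e ⟨he, h | h | h⟩
  · obtain ⟨i, j, rfl⟩ := psub_split (F.esub_fixed he h)
    exact mul_mem (pow_mem hu _) (pow_mem hx _)
  · obtain ⟨i, j, rfl⟩ := hft _ (C.esub_fix_t he h)
    exact mul_mem (pow_mem hu _) (pow_mem ht _)
  · have h1 := (C.esub_fix_s he h).1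
    -- the conjugates of `Ft.psub` by the two elements coincide
    have hmap : (C.Ft.psub.map (MulAut.conj ((F.f 288)⁻¹ * C.n)).toMonoidHom) = C.Ft.psub := by
      refine eq_of_le_of_card_ge ?_ ?_
      · rintro _ ⟨y, hy, rfl⟩
        show (F.f 288)⁻¹ * C.n * y * ((F.f 288)⁻¹ * C.n)⁻¹ ∈ C.Ft.psub
        have := C.tau_conj_ft hy
        rwa [show (F.f 288)⁻¹ * (C.n * y * C.n⁻¹) * F.f 288 = (F.f 288)⁻¹ * C.n * y * ((F.f 288)⁻¹ * C.n)⁻¹ by
          group] at this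
      · rw [card_map_of_injective (MulEquiv.injective _)]
    rw [← hmap] at h1
    obtain ⟨y, hy, hye⟩ := h1
    have he' : e = C.n * y * C.n⁻¹ := by
      have hye' : (F.f 288)⁻¹ * C.n * y * ((F.f 288)⁻¹ * C.n)⁻¹ = (F.f 288)⁻¹ * e * F.f 288 := hye
      calc e = F.f 288 * ((F.f 288)⁻¹ * e * F.f 288) * (F.f 288)⁻¹ := by group
        _ = _ := by rw [← hye']; group
    obtain ⟨i, j, rfl⟩ := hft y hy
    rw [he', conj_pow_gen (show C.n * C.xt * C.n⁻¹ = C.xs from rfl) C.nu]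
    exact mul_mem (pow_mem hu _) (pow_mem hs _)

theorem esub_eq (S : Setting z₀) : F.esub = closure C.gens := by
  refine le_antisymm C.le_gens ((closure_le _).2 ?_)
  intro a ha
  simp only [gens, Set.mem_insert_iff, Set.mem_singleton_iff] at ha
  rcases ha with rfl | rfl | rfl | rfl
  exacts [F.psub_le_esub u_mem, F.psub_le_esub x_mem, C.xt_mem_esub S, C.xs_mem_esub S]

include C in
theorem esub_comm (S : Setting z₀) {a b : G} (ha : a ∈ F.esub) (hb : b ∈ F.esub) : Commute a b := by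
  rw [C.esub_eq S] at ha hb
  induction ha using closure_induction with
  | mem a ha =>
    induction hb using closure_induction with
    | mem b hb => exact C.comm_gens S a ha b hb
    | one => exact Commute.one_right a
    | mul x y _ _ h1 h2 => exact h1.mul_right h2
    | inv x _ h1 => exact h1.inv_right
  | one => exact Commute.one_left b
  | mul x y _ _ h1 h2 => exact h1.mul_left h2
  | inv x _ h1 => exact h1.inv_left

include C in
theorem esub_cube (S : Setting z₀) {a : G} (ha : a ∈ F.esub) : a * a * a = 1 := by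
  have hc := fun x y => C.esub_comm S (a := x) (b := y)
  have h3g : ∀ g ∈ C.gens, g * g * g = 1 := by
    intro g hg
    simp only [gens, Set.mem_insert_iff, Set.mem_singleton_iff] at hg
    rcases hg with rfl | rfl | rfl | rfl
    exacts [F.u_code.1, F.uty_153.1, C.uty_xt.1, C.uty_xs.1]
  rw [C.esub_eq S] at ha hc
  induction ha using closure_induction with
  | mem a ha => exact h3g a ha
  | one => simp
  | mul x y hx hy h1 h2 =>
    have e := (hc x y hx hy).mul_pow 3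
    simp only [pow_succ, pow_zero, one_mul] at e
    rw [e, h1, h2, one_mul]
  | inv x _ h1 => rw [show x⁻¹ * x⁻¹ * x⁻¹ = (x * x * x)⁻¹ by group, h1, inv_one]

/-- Coordinates in `esub`. -/
def coord (v : Fin 3 × Fin 3 × Fin 3 × Fin 3) : G :=
  F.f 150 ^ (v.1 : ℕ) * F.f 153 ^ (v.2.1 : ℕ) * (C.xt ^ (v.2.2.1 : ℕ) * C.xs ^ (v.2.2.2 : ℕ))

theorem coord_mem (S : Setting z₀) (v : Fin 3 × Fin 3 × Fin 3 × Fin 3) : C.coord v ∈ F.esub :=
  mul_mem (mul_mem (pow_mem (F.psub_le_esub u_mem) _) (pow_mem (F.psub_le_esub x_mem) _))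
    (mul_mem (pow_mem (C.xt_mem_esub S) _) (pow_mem (C.xs_mem_esub S) _))

theorem pow_mod_three {x : G} (h : x * x * x = 1) (n : ℕ) : x ^ n = x ^ (n % 3) := by
  conv_lhs => rw [← Nat.div_add_mod n 3, pow_add, pow_mul, pow_succ, pow_two, h, one_pow, one_mul]

theorem exists_coord (S : Setting z₀) {e : G} (he : e ∈ F.esub) : ∃ v, C.coord v = e := by
  rw [C.esub_eq S] at he
  have hmk : ∀ i j k l : ℕ, ∃ v, C.coord v = F.f 150 ^ i * F.f 153 ^ j * (C.xt ^ k * C.xs ^ l) := by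
    intro i j k l
    refine ⟨(⟨i % 3, Nat.mod_lt _ (by norm_num)⟩, ⟨j % 3, Nat.mod_lt _ (by norm_num)⟩,
      ⟨k % 3, Nat.mod_lt _ (by norm_num)⟩, ⟨l % 3, Nat.mod_lt _ (by norm_num)⟩), ?_⟩
    simp only [coord]
    rw [← pow_mod_three F.u_code.1, ← pow_mod_three F.uty_153.1, ← pow_mod_three C.uty_xt.1,
      ← pow_mod_three C.uty_xs.1]
  induction he using closure_induction with
  | mem a ha =>
    simp only [gens, Set.mem_insert_iff, Set.mem_singleton_iff] at ha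
    rcases ha with rfl | rfl | rfl | rfl
    · simpa using hmk 1 0 0 0
    · simpa using hmk 0 1 0 0
    · simpa using hmk 0 0 1 0
    · simpa using hmk 0 0 0 1
  | one => simpa using hmk 0 0 0 0
  | mul x y _ _ h1 h2 =>
    obtain ⟨v, rfl⟩ := h1
    obtain ⟨w, rfl⟩ := h2
    obtain ⟨v', hv'⟩ := hmk ((v.1 : ℕ) + w.1) ((v.2.1 : ℕ) + w.2.1) ((v.2.2.1 : ℕ) + w.2.2.1) ((v.2.2.2 : ℕ) + w.2.2.2)
    refine ⟨v', hv'.trans ?_⟩
    simp only [coord, pow_add]
    have hu := F.psub_le_esub (u_mem (F := F))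
    have hx := F.psub_le_esub (x_mem (F := F))
    have ht := C.xt_mem_esub S
    have hs := C.xs_mem_esub S
    have cc : ∀ {a b : G}, a ∈ F.esub → b ∈ F.esub → Commute a b := fun ha hb => C.esub_comm S ha hb
    rw [(cc (pow_mem hu _) (pow_mem hx _) : Commute (F.f 150 ^ (w.1 : ℕ)) (F.f 153 ^ (v.2.1 : ℕ))).mul_mul_mul_comm,
      (cc (pow_mem ht _) (pow_mem hs _) : Commute (C.xt ^ (w.2.2.1 : ℕ)) (C.xs ^ (v.2.2.2 : ℕ))).mul_mul_mul_comm,
      (cc (mul_mem (pow_mem hu _) (pow_mem hx _)) (mul_mem (pow_mem ht _) (pow_mem hs _)) :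
        Commute (F.f 150 ^ (w.1 : ℕ) * F.f 153 ^ (w.2.1 : ℕ))
          (C.xt ^ (v.2.2.1 : ℕ) * C.xs ^ (v.2.2.2 : ℕ))).mul_mul_mul_comm]
  | inv x _ h1 =>
    obtain ⟨v, rfl⟩ := h1
    obtain ⟨v', hv'⟩ := hmk (2 * (v.1 : ℕ)) (2 * (v.2.1 : ℕ)) (2 * (v.2.2.1 : ℕ)) (2 * (v.2.2.2 : ℕ))
    refine ⟨v', hv'.trans ?_⟩
    have hm := C.coord_mem S v
    have h3 := C.esub_cube S hm
    rw [show (C.coord v)⁻¹ = (C.coord v) ^ 2 by rw [pow_two]; exact inv_eq_of_mul_eq_one_right (by rw [← mul_assoc]; exact h3)]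
    simp only [coord]
    have cc : ∀ {a b : G}, a ∈ F.esub → b ∈ F.esub → Commute a b := fun ha hb => C.esub_comm S ha hb
    have hu := F.psub_le_esub (u_mem (F := F))
    have hx := F.psub_le_esub (x_mem (F := F))
    rw [(cc (mul_mem (pow_mem hu _) (pow_mem hx _))
      (mul_mem (pow_mem (C.xt_mem_esub S) _) (pow_mem (C.xs_mem_esub S) _))).mul_pow,
      (cc (pow_mem hu _) (pow_mem hx _)).mul_pow, (cc (pow_mem (C.xt_mem_esub S) _) (pow_mem (C.xs_mem_esub S) _)).mul_pow]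
    simp only [← pow_mul, mul_comm 2]

theorem conj_coord {g : G} (v : Fin 3 × Fin 3 × Fin 3 × Fin 3) :
    g * C.coord v * g⁻¹ = (g * F.f 150 * g⁻¹) ^ (v.1 : ℕ) * (g * F.f 153 * g⁻¹) ^ (v.2.1 : ℕ) *
      ((g * C.xt * g⁻¹) ^ (v.2.2.1 : ℕ) * (g * C.xs * g⁻¹) ^ (v.2.2.2 : ℕ)) := by
  simp only [coord, conj_pow, conj_mul]

theorem u_fix (g : G) (h : g = z ∨ g = F.f 576 ∨ g = F.f 588) : g * F.f 150 * g⁻¹ = F.f 150 := by
  refine conj_eq_iff_commute.2 ?_
  rcases h with rfl | rfl | rfl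
  · exact (F.comm 150 (by norm_num)).symm
  · exact t_u (F := F)
  · rw [F.f588.1]; exact (F.comm 150 (by norm_num)).symm.mul_left (t_u (F := F))

theorem conj_z_coord (v : Fin 3 × Fin 3 × Fin 3 × Fin 3) :
    z * C.coord v * z⁻¹ = F.f 150 ^ (v.1 : ℕ) * F.f 153 ^ (v.2.1 : ℕ) *
      (C.xt⁻¹ ^ (v.2.2.1 : ℕ) * C.xs⁻¹ ^ (v.2.2.2 : ℕ)) := by
  rw [C.conj_coord, u_fix (F := F) z (Or.inl rfl), conj_eq_iff_commute.2 (F.comm 153 (by norm_num)).symm,
    C.xt_rel.2.1, C.xs_rel.1]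

theorem psub_coord_zero {i j : Fin 3} (h : F.f 150 ^ (i : ℕ) * F.f 153 ^ (j : ℕ) = 1) : i = 0 ∧ j = 0 := by
  have key : ∀ i j : Fin 3, mulH ([0, 150, 225][i.val]! : ℕ) ([0, 153, 222][j.val]! : ℕ) = 0 → i = 0 ∧ j = 0 := by
    decide +kernel
  refine key i j (F.inj _ _ (mulH_lt _ _) (by norm_num) ?_)
  have e1 : F.f 225 = F.f 150 ^ 2 := by
    rw [pow_two, ← F.mul _ _ (by norm_num) (by norm_num), show mulH 150 150 = 225 by decide +kernel]
  have e2 : F.f 222 = F.f 153 ^ 2 := by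
    rw [pow_two, ← F.mul _ _ (by norm_num) (by norm_num), show mulH 153 153 = 222 by decide +kernel]
  rw [F.mul _ _ (by fin_cases i <;> norm_num) (by fin_cases j <;> norm_num), F.f0, ← h]
  congr 1
  · fin_cases i
    · simp [F.f0]
    · simp
    · simpa using e1
  · fin_cases j
    · simp [F.f0]
    · simp
    · simpa using e2

theorem fin_three_pow {x : G} (h : x * x * x = 1) (h1 : x ≠ 1) {i j : Fin 3} (e : x ^ (i : ℕ) = x ^ (j : ℕ)) :
    i = j := by
  have := pow_inj_mod.1 e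
  rw [orderOf_cube h h1, Nat.mod_eq_of_lt i.2, Nat.mod_eq_of_lt j.2] at this
  exact Fin.ext this

theorem coord_eq_one (S : Setting z₀) {v : Fin 3 × Fin 3 × Fin 3 × Fin 3} (h : C.coord v = 1) : v = 0 := by
  have hz := C.conj_z_coord v
  rw [h, mul_one, mul_inv_cancel] at hz
  obtain ⟨i, j, k, l⟩ := v
  simp only [coord] at h hz
  have cc : ∀ {a b : G}, a ∈ F.esub → b ∈ F.esub → Commute a b := fun ha hb => C.esub_comm S ha hb
  have ht := pow_mem (C.xt_mem_esub S) (k : ℕ)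
  have hs := pow_mem (C.xs_mem_esub S) (l : ℕ)
  have hB : C.xt⁻¹ ^ (k : ℕ) * C.xs⁻¹ ^ (l : ℕ) = (C.xt ^ (k : ℕ) * C.xs ^ (l : ℕ))⁻¹ := by
    rw [mul_inv_rev, inv_pow, inv_pow]; exact (cc (inv_mem ht) (inv_mem hs)).eq
  rw [hB] at hz
  set A := F.f 150 ^ (i : ℕ) * F.f 153 ^ (j : ℕ) with hA
  set B := C.xt ^ (k : ℕ) * C.xs ^ (l : ℕ) with hB'
  have hAB : A = B := mul_inv_eq_one.1 hz.symm
  rw [hAB] at h
  have hB1 : B = 1 := by
    have h3 := C.esub_cube S (mul_mem ht hs)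
    rwa [← hB', h, one_mul] at h3
  obtain ⟨rfl, rfl⟩ := psub_coord_zero (F := F) (hA ▸ hAB.trans hB1)
  -- separate the last two by conjugation with `t`
  have e : C.xt ^ (k : ℕ) = (C.xs ^ (l : ℕ))⁻¹ := eq_inv_of_mul_eq_one_left hB1
  have hk : Commute (C.xt ^ (k : ℕ)) (F.f 576) := C.xt_rel.2.2.pow_left _
  rw [e] at hk
  have hc := conj_eq_iff_commute.2 hk.symm
  rw [← conj_inv, ← conj_pow, C.xs_rel.2.1, inv_pow, inv_inv] at hc
  have hs2 : C.xs ^ (l : ℕ) * C.xs ^ (l : ℕ) = 1 := mul_eq_one_iff_eq_inv.2 hc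
  have hs1 : C.xs ^ (l : ℕ) = 1 := by
    have h3 := C.esub_cube S hs
    rwa [hs2, one_mul] at h3
  have hl : l = 0 := fin_three_pow C.uty_xs.1 C.uty_xs.2.1 (by simpa using hs1)
  have hk1 : C.xt ^ (k : ℕ) = 1 := by rw [e, hs1, inv_one]
  have hk0 : k = 0 := fin_three_pow C.uty_xt.1 C.uty_xt.2.1 (by simpa using hk1)
  rw [hl, hk0]; rfl

theorem coord_inj (S : Setting z₀) : Function.Injective C.coord := by
  classical
  intro v w h
  haveI : Fintype {e // e ∈ F.esub} := Fintype.ofFinite _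
  have key : C.coord ⟨0, 0, 0, 0⟩ = 1 := by simp [coord]
  -- translate by the inverse of `w`
  obtain ⟨x, hx⟩ := C.exists_coord S (inv_mem (C.coord_mem S w))
  have cc : ∀ {a b : G}, a ∈ F.esub → b ∈ F.esub → Commute a b := fun ha hb => C.esub_comm S ha hb
  have hu := F.psub_le_esub (u_mem (F := F))
  have hxm := F.psub_le_esub (x_mem (F := F))
  have ht := C.xt_mem_esub S
  have hs := C.xs_mem_esub S
  have add : ∀ a b : Fin 3 × Fin 3 × Fin 3 × Fin 3, C.coord (a + b) = C.coord a * C.coord b := by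
    intro a b
    have e : ∀ {y : G} (_ : y * y * y = 1) (p q : Fin 3), y ^ ((p + q : Fin 3) : ℕ) = y ^ (p : ℕ) * y ^ (q : ℕ) :=
      fun hy p q => by rw [← pow_add, pow_mod_three hy ((p : ℕ) + q), Fin.val_add]
    simp only [coord, Prod.fst_add, Prod.snd_add]
    rw [e F.u_code.1, e F.uty_153.1, e C.uty_xt.1, e C.uty_xs.1,
      (cc (pow_mem hu _) (pow_mem hxm _) : Commute (F.f 150 ^ (b.1 : ℕ)) (F.f 153 ^ (a.2.1 : ℕ))).mul_mul_mul_comm,
      (cc (pow_mem ht _) (pow_mem hs _) : Commute (C.xt ^ (b.2.2.1 : ℕ)) (C.xs ^ (a.2.2.2 : ℕ))).mul_mul_mul_comm,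
      (cc (mul_mem (pow_mem hu _) (pow_mem hxm _)) (mul_mem (pow_mem ht _) (pow_mem hs _)) :
        Commute (F.f 150 ^ (b.1 : ℕ) * F.f 153 ^ (b.2.1 : ℕ))
          (C.xt ^ (a.2.2.1 : ℕ) * C.xs ^ (a.2.2.2 : ℕ))).mul_mul_mul_comm]
  have h1 : C.coord (v + x) = 1 := by rw [add, hx, h, mul_inv_cancel]
  have h2 : C.coord (w + x) = 1 := by rw [add, hx, mul_inv_cancel]
  exact add_right_cancel ((C.coord_eq_one S h1).trans (C.coord_eq_one S h2).symm)

include C in
theorem card_esub (S : Setting z₀) : Nat.card F.esub = 81 := by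
  have e : (Fin 3 × Fin 3 × Fin 3 × Fin 3) ≃ F.esub :=
    Equiv.ofBijective (fun v => ⟨C.coord v, C.coord_mem S v⟩)
      ⟨fun v w h => C.coord_inj S (congrArg Subtype.val h), fun ⟨x, hx⟩ => by
        obtain ⟨v, hv⟩ := C.exists_coord S hx
        exact ⟨v, Subtype.ext hv⟩⟩
  rw [← Nat.card_congr e, Nat.card_eq_fintype_card]
  simp [Fintype.card_prod]

/-- The elements of `esub` inverted by `z`. -/
theorem inverted_coord (S : Setting z₀) {e : G} (he : e ∈ F.esub) (hi : z * e * z⁻¹ = e⁻¹) :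
    ∃ k l : Fin 3, e = C.xt ^ (k : ℕ) * C.xs ^ (l : ℕ) := by
  obtain ⟨⟨i, j, k, l⟩, rfl⟩ := C.exists_coord S he
  have cc : ∀ {a b : G}, a ∈ F.esub → b ∈ F.esub → Commute a b := fun ha hb => C.esub_comm S ha hb
  have ht := pow_mem (C.xt_mem_esub S) (k : ℕ)
  have hs := pow_mem (C.xs_mem_esub S) (l : ℕ)
  have hP : F.f 150 ^ (i : ℕ) * F.f 153 ^ (j : ℕ) ∈ F.esub :=
    mul_mem (pow_mem (F.psub_le_esub u_mem) _) (pow_mem (F.psub_le_esub x_mem) _)
  rw [C.conj_z_coord] at hi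
  simp only [coord] at hi
  have hB : C.xt⁻¹ ^ (k : ℕ) * C.xs⁻¹ ^ (l : ℕ) = (C.xt ^ (k : ℕ) * C.xs ^ (l : ℕ))⁻¹ := by
    rw [mul_inv_rev, inv_pow, inv_pow]; exact (cc (inv_mem ht) (inv_mem hs)).eq
  rw [hB, mul_inv_rev (F.f 150 ^ (i : ℕ) * F.f 153 ^ (j : ℕ)), (cc (inv_mem (mul_mem ht hs)) (inv_mem hP)).eq] at hi
  have h2 := mul_right_cancel hi
  have hP1 : F.f 150 ^ (i : ℕ) * F.f 153 ^ (j : ℕ) = 1 := by
    have h3 := C.esub_cube S hP
    nth_rw 1 [h2] at h3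
    simpa using h3
  exact ⟨k, l, by simp only [coord]; rw [hP1, one_mul]⟩

include C in
theorem inverted_uty (S : Setting z₀) {e : G} (he : e ∈ F.esub) (hi : z * e * z⁻¹ = e⁻¹) (h1 : e ≠ 1) :
    UTy e := by
  obtain ⟨k, l, rfl⟩ := C.inverted_coord S he hi
  by_cases hk : k = 0
  · subst hk
    fin_cases l
    · simp at h1
    · simpa using C.uty_xs
    · simp only [Fin.val_zero, pow_zero, one_mul]
      rw [show C.xs ^ 2 = C.xs⁻¹ by rw [pow_two]; exact (inv_eq_of_mul_eq_one_right (by rw [← mul_assoc]; exact C.uty_xs.1)).symm]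
      exact C.uty_xs.inv
  by_cases hl : l = 0
  · subst hl
    fin_cases k
    · simp at hk
    · simpa using C.uty_xt
    · simp only [Fin.val_zero, pow_zero, mul_one]
      rw [show C.xt ^ 2 = C.xt⁻¹ by rw [pow_two]; exact (inv_eq_of_mul_eq_one_right (by rw [← mul_assoc]; exact C.uty_xt.1)).symm]
      exact C.uty_xt.inv
  -- otherwise use the twisted frame
  obtain ⟨C'⟩ := S.exists_cycle F.twist
  have htw : F.twist.psub = F.psub := by
    refine eq_of_le_of_card_ge ?_ (by rw [F.card_psub, F.twist.card_psub])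
    rintro _ ⟨a, ha, rfl⟩
    exact ⟨alphaH a, (show ∀ a ∈ pList, alphaH a ∈ pList by decide +kernel) a ha, rfl⟩
  have hcp : F.twist.cp = F.cp := by
    ext y
    constructor <;> intro hy
    · exact F.mem_cp.2 ⟨F.twist.cp_comm_psub hy (htw ▸ ⟨144, by decide, rfl⟩),
        F.twist.cp_comm_psub hy (htw ▸ ⟨6, by decide, rfl⟩)⟩
    · exact F.twist.mem_cp.2 ⟨F.cp_comm_psub hy (htw.symm ▸ ⟨144, by decide, rfl⟩ : F.twist.f 144 ∈ F.psub),
        F.cp_comm_psub hy (htw.symm ▸ ⟨6, by decide, rfl⟩ : F.twist.f 6 ∈ F.psub)⟩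
  have hesub : F.twist.esub = F.esub := by
    ext y; rw [F.twist.mem_esub, F.mem_esub, hcp]
  set e := C.xt ^ (k : ℕ) * C.xs ^ (l : ℕ) with hedef
  have heE : e ∈ F.twist.esub := hesub ▸ he
  obtain ⟨k', l', he'⟩ := C'.inverted_coord S heE hi
  by_cases hk' : k' = 0
  · subst hk'
    rw [he']
    fin_cases l'
    · rw [he'] at h1; simp at h1
    · simpa using C'.uty_xs
    · simp only [Fin.val_zero, pow_zero, one_mul]
      rw [show C'.xs ^ 2 = C'.xs⁻¹ by rw [pow_two]; exact (inv_eq_of_mul_eq_one_right (by rw [← mul_assoc]; exact C'.uty_xs.1)).symm]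
      exact C'.uty_xs.inv
  by_cases hl' : l' = 0
  · subst hl'
    rw [he']
    fin_cases k'
    · simp at hk'
    · simpa using C'.uty_xt
    · simp only [Fin.val_zero, pow_zero, mul_one]
      rw [show C'.xt ^ 2 = C'.xt⁻¹ by rw [pow_two]; exact (inv_eq_of_mul_eq_one_right (by rw [← mul_assoc]; exact C'.uty_xt.1)).symm]
      exact C'.uty_xt.inv
  exfalso
  -- conjugation by `t'` exchanges the two lines of the first frame
  set t' := F.f 1014 with ht'
  have ht'z : Commute t' z := F.comm 1014 (by norm_num)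
  have ht'E : ∀ {y : G}, y ∈ F.esub → t' * y * t'⁻¹ ∈ F.esub := fun hy => F.esub_conj (fun p hp => by
    obtain ⟨a, ha, rfl⟩ := hp
    exact ⟨_, (show ∀ a ∈ pList, cjH 1014 a ∈ pList by decide +kernel) a ha,
      F.f_cjH (by norm_num) (pList_lt a ha)⟩) hy
  have hts : t' * F.f 576 * t'⁻¹ = F.f 588 := by
    rw [ht', ← F.f_cjH (by norm_num) (by norm_num), show cjH 1014 576 = 588 by decide +kernel]
  -- membership in the fixed points of `zt` inside the inverted part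
  have hxt' : ∃ m : Fin 3, t' * C.xt * t'⁻¹ = C.xs ^ (m : ℕ) := by
    have hinv : z * (t' * C.xt * t'⁻¹) * z⁻¹ = (t' * C.xt * t'⁻¹)⁻¹ := by
      have := conj_inv_rel (g := t') C.xt_rel.2.1
      rwa [conj_eq_iff_commute.2 ht'z] at this
    obtain ⟨k2, l2, e2⟩ := C.inverted_coord S (ht'E (C.xt_mem_esub S)) hinv
    have hcs : Commute (t' * C.xt * t'⁻¹) (F.f 588) := by
      rw [← hts]; show _ = _
      rw [conj_mul, conj_mul, C.xt_rel.2.2.eq]
    rw [e2] at hcs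
    have := (hcs.mul_left (C.xs_rel.2.2.pow_left (l2 : ℕ)).inv_left)
    rw [mul_inv_cancel_right] at this
    have hfix := conj_eq_iff_commute.2 this.symm
    rw [← conj_pow, C.xt_rel.1, inv_pow] at hfix
    have h2 : C.xt ^ (k2 : ℕ) = 1 := by
      have h3 := C.esub_cube S (pow_mem (C.xt_mem_esub S) (k2 : ℕ))
      rwa [mul_eq_one_iff_eq_inv.2 hfix.symm, one_mul] at h3
    exact ⟨l2, by rw [e2, h2, one_mul]⟩
  obtain ⟨m, hm⟩ := hxt'
  have hm0 : m ≠ 0 := fun h => by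
    rw [h, Fin.val_zero, pow_zero, conj_eq_one_iff] at hm
    exact C.uty_xt.2.1 hm
  have ht'2 : t' * t' = 1 := (F.sq_eq_one_iff (by norm_num)).2 (by decide +kernel)
  have hxs' : t' * C.xs * t'⁻¹ = C.xt ^ (m : ℕ) := by
    have h1 : C.xs = (C.xs ^ (m : ℕ)) ^ (m : ℕ) := by
      rw [← pow_mul, pow_mod_three C.uty_xs.1, show ((m : ℕ) * m) % 3 = 1 by
        have : (m : ℕ) ≠ 0 := fun h => hm0 (Fin.ext h)
        have := m.2
        interval_cases hh : (m : ℕ) <;> simp_all, pow_one]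
    rw [h1, ← conj_pow, ← hm,
      show t' * (t' * C.xt * t'⁻¹) * t'⁻¹ = (t' * t') * C.xt * (t' * t')⁻¹ by group, ht'2]
    group
  -- `e` is fixed by neither `t'` nor `z * t'`
  have hfix1 : ¬ Commute e t' := by
    intro h
    have h' : C'.coord (0, 0, k', l') = e := by simp [coord, he']
    have hc : F.twist.f 576 * e * (F.twist.f 576)⁻¹ = e := by
      rw [F.twist_576]; exact conj_eq_iff_commute.2 h.symm
    rw [he', ← conj_mul, ← conj_pow, ← conj_pow, C'.xs_rel.2.1, conj_eq_iff_commute.2 C'.xt_rel.2.2.symm] at hc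
    have := mul_left_cancel hc
    rw [inv_pow] at this
    have h2 : C'.xs ^ (l' : ℕ) = 1 := by
      have h3 := C'.esub_cube S (pow_mem (C'.xs_mem_esub S) (l' : ℕ))
      rwa [mul_eq_one_iff_eq_inv.2 this.symm, one_mul] at h3
    exact hl' (fin_three_pow C'.uty_xs.1 C'.uty_xs.2.1 (by simpa using h2))
  have hfix2 : ¬ Commute e (z * t') := by
    intro h
    have hzt : F.twist.f 588 = z * t' := by rw [F.twist.f588.1, F.twist_576]
    have hc : F.twist.f 588 * e * (F.twist.f 588)⁻¹ = e := by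
      rw [hzt]; exact conj_eq_iff_commute.2 h.symm
    rw [he', ← conj_mul, ← conj_pow, ← conj_pow, C'.xt_rel.1, conj_eq_iff_commute.2 C'.xs_rel.2.2.symm] at hc
    have := mul_right_cancel hc
    rw [inv_pow] at this
    have h2 : C'.xt ^ (k' : ℕ) = 1 := by
      have h3 := C'.esub_cube S (pow_mem (C'.xt_mem_esub S) (k' : ℕ))
      rwa [mul_eq_one_iff_eq_inv.2 this.symm, one_mul] at h3
    exact hk' (fin_three_pow C'.uty_xt.1 C'.uty_xt.2.1 (by simpa using h2))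
  -- but its image is `e` or its inverse
  have himg : t' * e * t'⁻¹ = C.xt ^ ((m : ℕ) * l) * C.xs ^ ((m : ℕ) * k) := by
    rw [hedef, ← conj_mul, ← conj_pow, ← conj_pow, hm, hxs', ← pow_mul, ← pow_mul]
    exact (C.esub_comm S (pow_mem (C.xs_mem_esub S) _) (pow_mem (C.xt_mem_esub S) _)).eq
  have hcase : ((m : ℕ) * l % 3 = k ∧ (m : ℕ) * k % 3 = l) ∨
      ((m : ℕ) * l % 3 = (2 * k) % 3 ∧ (m : ℕ) * k % 3 = (2 * l) % 3) :=
    (show ∀ m k l : Fin 3, m ≠ 0 → k ≠ 0 → l ≠ 0 → ((m : ℕ) * l % 3 = k ∧ (m : ℕ) * k % 3 = l) ∨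
      ((m : ℕ) * l % 3 = (2 * k) % 3 ∧ (m : ℕ) * k % 3 = (2 * l) % 3) by decide) m k l hm0 hk hl
  rw [pow_mod_three C.uty_xt.1, pow_mod_three C.uty_xs.1] at himg
  rcases hcase with ⟨h2, h3⟩ | ⟨h2, h3⟩ <;> rw [h2, h3] at himg
  · exact hfix1 (conj_eq_iff_commute.1 himg).symm
  · refine hfix2 (conj_eq_iff_commute.1 ?_).symm
    rw [← pow_mod_three C.uty_xt.1, ← pow_mod_three C.uty_xs.1] at himg
    have hinv : t' * e * t'⁻¹ = e⁻¹ := by
      rw [himg, hedef, mul_inv_rev]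
      have a1 : C.xt ^ (2 * (k : ℕ)) = (C.xt ^ (k : ℕ))⁻¹ := by
        refine eq_inv_of_mul_eq_one_left ?_
        rw [← pow_add, show 2 * (k : ℕ) + k = 3 * k by ring, pow_mul, pow_succ, pow_two, C.uty_xt.1, one_pow]
      have a2 : C.xs ^ (2 * (l : ℕ)) = (C.xs ^ (l : ℕ))⁻¹ := by
        refine eq_inv_of_mul_eq_one_left ?_
        rw [← pow_add, show 2 * (l : ℕ) + l = 3 * l by ring, pow_mul, pow_succ, pow_two, C.uty_xs.1, one_pow]
      rw [a1, a2]
      exact (C.esub_comm S (inv_mem (pow_mem (C.xt_mem_esub S) _)) (inv_mem (pow_mem (C.xs_mem_esub S) _))).eq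
    calc z * t' * e * (z * t')⁻¹ = z * (t' * e * t'⁻¹) * z⁻¹ := by group
      _ = e := by rw [hinv, ← conj_inv, hi, inv_inv]

end Cycle

end Cfsg.Agent.U43T
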