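import Cfsg.Agent.Lib.U43T.Shape

/-!
The involution centraliser as one of eight coded extensions.
-/

set_option autoImplicit false
set_option linter.unusedSectionVars false

namespace Cfsg.Agent.U43T

open Subgroup

variable {G : Type*} [Group G] [Finite G] {z : G}

theorem sRef_mul : ∀ s : Fin 24, ∀ t : Fin 24, sRef (sMul s t) = sMul (sRef s) (sRef t) := by decide +kernel

theorem mulP_lt_aux : ∀ s : Fin 24, sNeg s < 24 := fun s => Nat.mod_lt _ (by omega)

theorem act1_lt {i j s t : ℕ} (hs : s < 24) (ht : t < 24) : act1 i j s t < 24 := by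
  unfold act1
  split_ifs <;> first | exact hs | exact ht | exact sRef_lt ⟨_, hs⟩ | exact sRef_lt ⟨_, ht⟩

theorem act2_lt {i j s t : ℕ} (hs : s < 24) (ht : t < 24) : act2 i j s t < 24 := by
  unfold act2
  split_ifs <;> first | exact hs | exact ht | exact sRef_lt ⟨_, hs⟩ | exact sRef_lt ⟨_, ht⟩

theorem mulP_lt (a b c g h : ℕ) : mulP a b c g h < 1152 := by
  have hg2 : g % 24 < 24 := by omega
  have hh2 : h % 24 < 24 := by omega
  have hg1 : g % 288 / 24 < 24 := by omega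
  have hh1 : h % 288 / 24 < 24 := by omega
  have hx := sMul_lt ⟨_, hg1⟩ ⟨_, act1_lt (i := g / 288 % 2) (j := g / 576) hh1 hh2⟩
  have hy := sMul_lt ⟨_, hg2⟩ ⟨_, act2_lt (i := g / 288 % 2) (j := g / 576) hh1 hh2⟩
  simp only at hx hy
  simp only [mulP]
  split <;>
  · refine lt_of_lt_of_le (Nat.add_lt_add_of_lt_of_le (pk_lt ?_ hy) le_rfl) (by omega)
    first | exact hx | exact Nat.mod_lt _ (by omega)

/-- A parametrised coded description of the centraliser of `z` extending the central product. -/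
structure PFrame (K : KData z) (a b c : ℕ) where
  t : G
  s : G
  φ : ℕ → G
  φ_def : ∀ h, φ h = K.ι (h % 288) * t ^ (h / 288 % 2) * s ^ (h / 576)
  mul : ∀ g h, g < 1152 → h < 1152 → φ (mulP a b c g h) = φ g * φ h
  comm : ∀ g, g < 1152 → Commute (φ g) z
  inj : ∀ g h, g < 1152 → h < 1152 → φ g = φ h → g = h
  surj : ∀ x, Commute x z → ∃ g, g < 1152 ∧ φ g = x

namespace KData

variable (K : KData z)

theorem conj_f {h : G} {f f' : ℕ → G} (hm : ∀ x y, x < 24 → y < 24 → f (sMul x y) = f x * f y)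
    (hm' : ∀ x y, x < 24 → y < 24 → f' (sMul x y) = f' x * f' y) (h0 : f 0 = 1) (h0' : f' 0 = 1)
    (e6 : h * f 6 * h⁻¹ = f' 6) (e1 : h * f 1 * h⁻¹ = f' 1) : ∀ x, x < 24 → h * f x * h⁻¹ = f' x := by
  have hp : ∀ x y, x < 24 → y < 24 → h * f x * h⁻¹ = f' x → h * f y * h⁻¹ = f' y →
      h * f (sMul x y) * h⁻¹ = f' (sMul x y) := by
    intro x y hx hy ex ey
    rw [hm x y hx hy, hm' x y hx hy, ← ex, ← ey, conj_mul]
  have e0 : h * f 0 * h⁻¹ = f' 0 := by rw [h0, h0', mul_one, mul_inv_cancel]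
  have e9 := hp 6 6 (by norm_num) (by norm_num) e6 e6
  have e12 := hp 1 1 (by norm_num) (by norm_num) e1 e1
  rw [show sMul 6 6 = 9 by decide +kernel] at e9
  rw [show sMul 1 1 = 12 by decide +kernel] at e12
  have e13 := hp 12 1 (by norm_num) (by norm_num) e12 e1
  rw [show sMul 12 1 = 13 by decide +kernel] at e13
  intro x hx
  obtain ⟨a, b, c, d, -, he⟩ := word ⟨x, hx⟩
  have hu : ∀ a : Fin 3, ([0, 6, 9][a.val]! : ℕ) < 24 ∧
      h * f ([0, 6, 9][a.val]!) * h⁻¹ = f' ([0, 6, 9][a.val]!) := by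
    intro a; fin_cases a <;> exact ⟨by norm_num, by assumption⟩
  have hi : ∀ b : Fin 4, ([0, 1, 12, 13][b.val]! : ℕ) < 24 ∧
      h * f ([0, 1, 12, 13][b.val]!) * h⁻¹ = f' ([0, 1, 12, 13][b.val]!) := by
    intro b; fin_cases b <;> exact ⟨by norm_num, by assumption⟩
  simp only at he
  rw [← he]
  exact hp _ _ (sMul_lt ⟨_, (hu a).1⟩ ⟨_, (hi b).1⟩) (sMul_lt ⟨_, (hu c).1⟩ ⟨_, (hi d).1⟩)
    (hp _ _ (hu a).1 (hi b).1 (hu a).2 (hi b).2) (hp _ _ (hu c).1 (hi d).1 (hu c).2 (hi d).2)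

theorem exists_pframe (P : PairD K) :
    ∃ a b c : Fin 2, Nonempty (PFrame K a b c) := by
  classical
  obtain ⟨⟨t, ht, t1, t2, t3, t4⟩, s, hs, s1, s2, s3, s4⟩ := K.exists_outer P
  have e144 : K.ι 144 = K.f1 6 := K.ι_f1 (s := 6) (by norm_num)
  have e24 : K.ι 24 = K.f1 1 := K.ι_f1 (s := 1) (by norm_num)
  have e6 : K.ι 6 = K.f2 6 := K.ι_f2 (t := 6) (by norm_num)
  have e1 : K.ι 1 = K.f2 1 := K.ι_f2 (t := 1) (by norm_num)
  have e216 : K.ι 216 = K.f1 (sRef 6) := by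
    rw [show sRef 6 = 9 by decide +kernel]; exact K.ι_f1 (s := 9) (by norm_num)
  have e36 : K.ι 36 = K.f1 (sRef 1) := by
    rw [show sRef 1 = 13 by decide +kernel, show (36 : ℕ) = pk 13 0 by decide +kernel,
      K.ι_pk (by norm_num) (by norm_num), K.f2_zero, mul_one]
  have e9 : K.ι 9 = K.f2 (sRef 6) := by
    rw [show sRef 6 = 9 by decide +kernel]; exact K.ι_f2 (t := 9) (by norm_num)
  have e13 : K.ι 13 = K.f2 (sRef 1) := by
    rw [show sRef 1 = 13 by decide +kernel]; exact K.ι_f2 (t := 13) (by norm_num)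
  have hr : ∀ f : ℕ → G, (∀ x y, x < 24 → y < 24 → f (sMul x y) = f x * f y) →
      ∀ x y, x < 24 → y < 24 → f (sRef (sMul x y)) = f (sRef x) * f (sRef y) := fun f hm x y hx hy => by
    rw [sRef_mul ⟨x, hx⟩ ⟨y, hy⟩]; exact hm _ _ (sRef_lt ⟨x, hx⟩) (sRef_lt ⟨y, hy⟩)
  have r0 : sRef 0 = 0 := by decide +kernel
  have tf1 : ∀ x, x < 24 → t * K.f1 x * t⁻¹ = K.f1 (sRef x) :=
    conj_f (f' := fun x => K.f1 (sRef x)) K.mul1 (hr _ K.mul1) K.f1_zero
      (by rw [r0]; exact K.f1_zero) (by rw [← e144, t1, e216]) (by rw [← e24, t3, e36])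
  have tf2 : ∀ x, x < 24 → t * K.f2 x * t⁻¹ = K.f2 (sRef x) :=
    conj_f (f' := fun x => K.f2 (sRef x)) K.mul2 (hr _ K.mul2) K.f2_zero
      (by rw [r0]; exact K.f2_zero) (by rw [← e6, t2, e9]) (by rw [← e1, t4, e13])
  have sf1 : ∀ x, x < 24 → s * K.f1 x * s⁻¹ = K.f2 x :=
    conj_f K.mul1 K.mul2 K.f1_zero K.f2_zero (by rw [← e144, s1, e6]) (by rw [← e24, s3, e1])
  have sf2 : ∀ x, x < 24 → s * K.f2 x * s⁻¹ = K.f1 x :=
    conj_f K.mul2 K.mul1 K.f2_zero K.f1_zero (by rw [← e6, s2, e144]) (by rw [← e1, s4, e24])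
  -- the three squares and commutators
  have rr : ∀ x : Fin 24, sRef (sRef x) = x := by decide +kernel
  have htt : Commute (t * t) z ∧ K.Maps (t * t) 144 6 24 1 := by
    refine ⟨ht.mul_left ht, ?_, ?_, ?_, ?_⟩
    · rw [e144, show t * t * K.f1 6 * (t * t)⁻¹ = t * (t * K.f1 6 * t⁻¹) * t⁻¹ by group, tf1 6 (by norm_num),
        tf1 _ (sRef_lt ⟨6, by norm_num⟩), rr ⟨6, by norm_num⟩]
    · rw [e6, show t * t * K.f2 6 * (t * t)⁻¹ = t * (t * K.f2 6 * t⁻¹) * t⁻¹ by group, tf2 6 (by norm_num),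
        tf2 _ (sRef_lt ⟨6, by norm_num⟩), rr ⟨6, by norm_num⟩]
    · rw [e24, show t * t * K.f1 1 * (t * t)⁻¹ = t * (t * K.f1 1 * t⁻¹) * t⁻¹ by group, tf1 1 (by norm_num),
        tf1 _ (sRef_lt ⟨1, by norm_num⟩), rr ⟨1, by norm_num⟩]
    · rw [e1, show t * t * K.f2 1 * (t * t)⁻¹ = t * (t * K.f2 1 * t⁻¹) * t⁻¹ by group, tf2 1 (by norm_num),
        tf2 _ (sRef_lt ⟨1, by norm_num⟩), rr ⟨1, by norm_num⟩]
  have hss : Commute (s * s) z ∧ K.Maps (s * s) 144 6 24 1 := by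
    refine ⟨hs.mul_left hs, ?_, ?_, ?_, ?_⟩
    · rw [e144, show s * s * K.f1 6 * (s * s)⁻¹ = s * (s * K.f1 6 * s⁻¹) * s⁻¹ by group, sf1 6 (by norm_num),
        sf2 6 (by norm_num)]
    · rw [e6, show s * s * K.f2 6 * (s * s)⁻¹ = s * (s * K.f2 6 * s⁻¹) * s⁻¹ by group, sf2 6 (by norm_num),
        sf1 6 (by norm_num)]
    · rw [e24, show s * s * K.f1 1 * (s * s)⁻¹ = s * (s * K.f1 1 * s⁻¹) * s⁻¹ by group, sf1 1 (by norm_num),
        sf2 1 (by norm_num)]
    · rw [e1, show s * s * K.f2 1 * (s * s)⁻¹ = s * (s * K.f2 1 * s⁻¹) * s⁻¹ by group, sf2 1 (by norm_num),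
        sf1 1 (by norm_num)]
  have hst : Commute ((t * s)⁻¹ * (s * t)) z ∧ K.Maps ((t * s)⁻¹ * (s * t)) 144 6 24 1 := by
    refine ⟨(ht.mul_left hs).inv_left.mul_left (hs.mul_left ht), ?_⟩
    have key : ∀ x, x < 24 → (t * s)⁻¹ * (s * t) * K.f1 x * ((t * s)⁻¹ * (s * t))⁻¹ = K.f1 x ∧
        (t * s)⁻¹ * (s * t) * K.f2 x * ((t * s)⁻¹ * (s * t))⁻¹ = K.f2 x := by
      intro x hx
      constructor
      · calc _ = (t * s)⁻¹ * (s * (t * K.f1 x * t⁻¹) * s⁻¹) * (t * s) := by group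
          _ = (t * s)⁻¹ * (t * (s * K.f1 x * s⁻¹) * t⁻¹) * (t * s) := by
            rw [tf1 x hx, sf1 _ (sRef_lt ⟨x, hx⟩), sf1 x hx, tf2 x hx]
          _ = K.f1 x := by group
      · calc _ = (t * s)⁻¹ * (s * (t * K.f2 x * t⁻¹) * s⁻¹) * (t * s) := by group
          _ = (t * s)⁻¹ * (t * (s * K.f2 x * s⁻¹) * t⁻¹) * (t * s) := by
            rw [tf2 x hx, sf2 _ (sRef_lt ⟨x, hx⟩), sf2 x hx, tf1 x hx]
          _ = K.f2 x := by group
    refine ⟨?_, ?_, ?_, ?_⟩
    · rw [e144]; exact (key 6 (by norm_num)).1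
    · rw [e6]; exact (key 6 (by norm_num)).2
    · rw [e24]; exact (key 1 (by norm_num)).1
    · rw [e1]; exact (key 1 (by norm_num)).2
  have bit : ∀ x : G, (x = 1 ∨ x = z) → ∃ e : Fin 2, x = z ^ (e : ℕ) := by
    rintro x (rfl | rfl)
    · exact ⟨0, by simp⟩
    · exact ⟨1, by simp⟩
  obtain ⟨b, hb⟩ := bit _ (K.central_of_maps htt.1 htt.2)
  obtain ⟨c, hc⟩ := bit _ (K.central_of_maps hss.1 hss.2)
  obtain ⟨a, ha⟩ := bit _ (K.central_of_maps hst.1 hst.2)
  have hst' : s * t = t * s * z ^ (a : ℕ) := by rw [← ha]; group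
  refine ⟨a, b, c, ⟨?_⟩⟩
  set φ : ℕ → G := fun h => K.ι (h % 288) * t ^ (h / 288 % 2) * s ^ (h / 576) with hφ
  have hmul : ∀ g h, g < 1152 → h < 1152 → φ (mulP a b c g h) = φ g * φ h := by
    intro g h hg hh
    have hg2 : g % 24 < 24 := by omega
    have hh2 : h % 24 < 24 := by omega
    have hg1 : g % 288 / 24 < 24 := by omega
    have hh1 : h % 288 / 24 < 24 := by omega
    have hpow : ∀ n : ℕ, z ^ n = z ^ (n % 2) := fun n => by
      conv_lhs => rw [← Nat.div_add_mod n 2, pow_add, pow_mul, pow_two, K.z_mul_z, one_pow, one_mul]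
    have key : ∀ i j i' j' : ℕ, i < 2 → j < 2 → i' < 2 → j' < 2 → ∀ u v u' v', u < 24 → v < 24 → u' < 24 → v' < 24 →
        K.f1 u * K.f2 v * t ^ i * s ^ j * (K.f1 u' * K.f2 v' * t ^ i' * s ^ j') =
          z ^ ((a : ℕ) * j * i' + b * i * i' + c * j * j') *
            (K.f1 (sMul u (act1 i j u' v')) * K.f2 (sMul v (act2 i j u' v'))) *
            t ^ ((i + i') % 2) * s ^ ((j + j') % 2) := by
      intro i j i' j' hi hj hi' hj' u v u' v' hu hv hu' hv'
      have hzc : ∀ n : ℕ, ∀ x, Commute x z → Commute (z ^ n) x := fun n x hx => hx.symm.pow_left n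
      have cz1 : ∀ x, x < 24 → Commute (K.f1 x) z := fun x hx => (K.z_f1 hx).symm
      have cz2 : ∀ x, x < 24 → Commute (K.f2 x) z := fun x hx => by
        have h := K.comm 12 x (by norm_num) hx
        rw [K.z1] at h
        exact h.symm
      have A : t ^ i * s ^ j * (K.f1 u' * K.f2 v') =
          K.f1 (act1 i j u' v') * K.f2 (act2 i j u' v') * (t ^ i * s ^ j) := by
        interval_cases i <;> interval_cases j <;>
          simp only [act1, act2, if_true, if_false, one_ne_zero, pow_zero, pow_one, one_mul, mul_one]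
        · rw [show s * (K.f1 u' * K.f2 v') = s * K.f1 u' * s⁻¹ * (s * K.f2 v' * s⁻¹) * s by group,
            sf1 u' hu', sf2 v' hv', K.comm v' u' hv' hu']
        · rw [show t * (K.f1 u' * K.f2 v') = t * K.f1 u' * t⁻¹ * (t * K.f2 v' * t⁻¹) * t by group,
            tf1 u' hu', tf2 v' hv']
        · rw [show t * s * (K.f1 u' * K.f2 v') =
              t * (s * K.f1 u' * s⁻¹) * t⁻¹ * (t * (s * K.f2 v' * s⁻¹) * t⁻¹) * (t * s) by group,
            sf1 u' hu', sf2 v' hv', tf2 u' hu', tf1 v' hv',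
            K.comm _ _ (sRef_lt ⟨v', hv'⟩) (sRef_lt ⟨u', hu'⟩)]
      have B : t ^ i * s ^ j * (t ^ i' * s ^ j') = z ^ ((a : ℕ) * j * i' + b * i * i' + c * j * j') *
          (t ^ ((i + i') % 2) * s ^ ((j + j') % 2)) := by
        have zt : ∀ n : ℕ, t * z ^ n = z ^ n * t := fun n => (ht.pow_right n).eq
        have zs : ∀ n : ℕ, s * z ^ n = z ^ n * s := fun n => (hs.pow_right n).eq
        interval_cases i <;> interval_cases j <;> interval_cases i' <;> interval_cases j' <;>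
          norm_num
        all_goals first
          | done
          | exact hb
          | exact hc
          | exact hst'.trans ((hzc (a : ℕ) (t * s) (ht.mul_left hs)).symm.eq)
          | skip
        · rw [← mul_assoc, hst', show t * s * z ^ (a : ℕ) * s = t * (s * (z ^ (a : ℕ) * s)) by group, ← zs, ← mul_assoc,
            ← mul_assoc, mul_assoc t, hc, zt, mul_assoc, zt, ← mul_assoc, ← pow_add, add_comm]
        · rw [← mul_assoc, hb]
        · rw [mul_assoc, hc, zt]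
        · rw [mul_assoc t s t, hst', show t * (t * s * z ^ (a : ℕ)) = t * t * (s * z ^ (a : ℕ)) by group, hb, zs,
            ← mul_assoc, ← pow_add, add_comm]
        · rw [← mul_assoc, mul_assoc t s t, hst', show t * (t * s * z ^ (a : ℕ)) * s = t * t * (s * z ^ (a : ℕ)) * s by group,
            hb, zs, mul_assoc, mul_assoc, hc, ← pow_add, ← pow_add, add_comm (b : ℕ) _, add_right_comm]
      have h1 := act1_lt (i := i) (j := j) hu' hv'
      have h2 := act2_lt (i := i) (j := j) hu' hv'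
      have hz : Commute (z ^ ((a : ℕ) * j * i' + b * i * i' + c * j * j'))
          (K.f1 (sMul u (act1 i j u' v')) * K.f2 (sMul v (act2 i j u' v'))) :=
        hzc _ _ ((cz1 _ (sMul_lt ⟨u, hu⟩ ⟨_, h1⟩)).mul_left (cz2 _ (sMul_lt ⟨v, hv⟩ ⟨_, h2⟩)))
      rw [hz.eq, K.mul1 u _ hu h1, K.mul2 v _ hv h2]
      calc _ = K.f1 u * K.f2 v * (t ^ i * s ^ j * (K.f1 u' * K.f2 v')) * (t ^ i' * s ^ j') := by group
        _ = K.f1 u * K.f2 v * (K.f1 (act1 i j u' v') * K.f2 (act2 i j u' v')) *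
            (t ^ i * s ^ j * (t ^ i' * s ^ j')) := by rw [A]; group
        _ = K.f1 u * (K.f2 v * K.f1 (act1 i j u' v')) * K.f2 (act2 i j u' v') *
            (z ^ ((a : ℕ) * j * i' + b * i * i' + c * j * j') * (t ^ ((i + i') % 2) * s ^ ((j + j') % 2))) := by
          rw [B]; group
        _ = _ := by rw [← K.comm _ v h1 hv]; group
    have := key (g / 288 % 2) (g / 576) (h / 288 % 2) (h / 576) (by omega) (by omega) (by omega) (by omega)
      (g % 288 / 24) (g % 24) (h % 288 / 24) (h % 24) hg1 hg2 hh1 hh2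
    have eι : ∀ x, K.ι (x % 288) = K.f1 (x % 288 / 24) * K.f2 (x % 24) := fun x => by
      rw [CP.ι, show x % 288 % 24 = x % 24 by omega]
    simp only [hφ, eι g, eι h]
    rw [this]
    set e := (a : ℕ) * (g / 576) * (h / 288 % 2) + b * (g / 288 % 2) * (h / 288 % 2) + c * (g / 576) * (h / 576)
      with he
    have hx := sMul_lt ⟨_, hg1⟩ ⟨_, act1_lt (i := g / 288 % 2) (j := g / 576) hh1 hh2⟩
    have hy := sMul_lt ⟨_, hg2⟩ ⟨_, act2_lt (i := g / 288 % 2) (j := g / 576) hh1 hh2⟩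
    simp only at hx hy
    have hP : ∀ X I J : ℕ, X < 288 → I < 2 → J < 2 → (X + 288 * (I + 2 * J)) % 288 = X ∧
        (X + 288 * (I + 2 * J)) / 288 % 2 = I ∧ (X + 288 * (I + 2 * J)) / 576 = J := by
      intro X I J hX hI hJ; omega
    simp only [mulP]
    rw [← he]
    by_cases hev : e % 2 = 0
    · rw [if_pos hev]
      obtain ⟨p1, p2, p3⟩ := hP _ ((g / 288 % 2 + h / 288 % 2) % 2) ((g / 576 + h / 576) % 2) (pk_lt hx hy)
        (by omega) (by omega)
      rw [p1, p2, p3, K.ι_pk hx hy, hpow e, hev, pow_zero, one_mul]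
    · rw [if_neg hev]
      have hn : sNeg (sMul (g % 288 / 24) (act1 (g / 288 % 2) (g / 576) (h % 288 / 24) (h % 24))) < 24 :=
        Nat.mod_lt _ (by omega)
      obtain ⟨p1, p2, p3⟩ := hP _ ((g / 288 % 2 + h / 288 % 2) % 2) ((g / 576 + h / 576) % 2)
        (pk_lt hn hy) (by omega) (by omega)
      rw [p1, p2, p3, K.ι_pk hn hy, K.f1_neg hx, hpow e,
        show e % 2 = 1 by omega, pow_one]
      simp only [mul_assoc]
  have hsurj : ∀ x, Commute x z → ∃ g, g < 1152 ∧ φ g = x := by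
    intro x hx
    obtain ⟨k, hk, p, hp, hap⟩ := K.four_types P hx
    have base : ∀ (i j : ℕ), i < 2 → j < 2 → K.ActsAs (t ^ i * s ^ j) p → ∃ g, g < 1152 ∧ φ g = x := by
      intro i j hi hj hact
      obtain ⟨l, hl, e⟩ := ActsAs.comp K hact hap ((ht.pow_left i).mul_left (hs.pow_left j))
        ((K.k_cent k hk).mul_left hx)
      refine ⟨mulK (iK k) l + 288 * (i + 2 * j), ?_, ?_⟩
      · have := mulK_lt (iK_spec ⟨k, hk⟩).2 hl
        simp only at this
        omega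
      · have hm := mulK_lt (iK_spec ⟨k, hk⟩).2 hl
        simp only at hm
        simp only [hφ]
        rw [show (mulK (iK k) l + 288 * (i + 2 * j)) % 288 = mulK (iK k) l by omega,
          show (mulK (iK k) l + 288 * (i + 2 * j)) / 288 % 2 = i by omega,
          show (mulK (iK k) l + 288 * (i + 2 * j)) / 576 = j by omega,
          K.ι_mul (iK_spec ⟨k, hk⟩).2 hl, K.ι_iK hk, mul_assoc, mul_assoc, ← e]
        group
    simp only [List.mem_cons, List.not_mem_nil, or_false] at hp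
    rcases hp with rfl | rfl | rfl | rfl
    · exact base 0 0 (by norm_num) (by norm_num) ⟨by group, by group⟩
    · exact base 1 0 (by norm_num) (by norm_num) ⟨by simpa using t1, by simpa using t2⟩
    · exact base 0 1 (by norm_num) (by norm_num) ⟨by simpa using s1, by simpa using s2⟩
    · refine base 1 1 (by norm_num) (by norm_num) ⟨?_, ?_⟩
      · rw [pow_one, pow_one, show t * s * K.ι 144 * (t * s)⁻¹ = t * (s * K.ι 144 * s⁻¹) * t⁻¹ by group, s1, t2]
      · rw [pow_one, pow_one, show t * s * K.ι 6 * (t * s)⁻¹ = t * (s * K.ι 6 * s⁻¹) * t⁻¹ by group, s2, t1]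
  have hcomm : ∀ g, g < 1152 → Commute (φ g) z := fun g hg =>
    ((K.k_cent _ (Nat.mod_lt _ (by norm_num))).mul_left (ht.pow_left _)).mul_left (hs.pow_left _)
  refine ⟨t, s, φ, fun h => rfl, hmul, hcomm, ?_, hsurj⟩
  have himg : ((centralizer ({z} : Set G) : Subgroup G) : Set G) = ↑((Finset.range 1152).image φ) := by
    ext x
    simp only [SetLike.mem_coe, mem_centralizer_singleton_iff, Finset.coe_image, Finset.coe_range, Set.mem_image,
      Set.mem_Iio]
    exact ⟨fun h => hsurj x h, fun ⟨g, hg, e⟩ => e ▸ hcomm g hg⟩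
  have hcard : ((Finset.range 1152).image φ).card = (Finset.range 1152).card := by
    rw [Finset.card_range, ← Set.ncard_coe_finset, ← himg, ← Nat.card_coe_set_eq]
    exact K.card_cent
  have hinj := Finset.card_image_iff.1 hcard
  exact fun g h hg hh e => hinj (Finset.mem_range.2 hg) (Finset.mem_range.2 hh) e

end KData

end Cfsg.Agent.U43T
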