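import Cfsg.Agent.Lib.U43T.PLemma

/-!
The elementary abelian subgroup of order 81.
-/

set_option autoImplicit false
set_option linter.unusedSectionVars false

namespace Cfsg.Agent.U43T

open Subgroup

variable {G : Type*} [Group G] [Finite G] {z z₀ : G}

/-- The element cycling the four group. -/
structure Cycle (F : Frame z) where
  Ft : Frame (F.f 576)
  ft576 : Ft.f 576 = z
  ft150 : Ft.f 150 = F.f 150 ∨ Ft.f 150 = (F.f 150)⁻¹
  n : G
  nz : n * z * n⁻¹ = F.f 576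
  nt : n * F.f 576 * n⁻¹ = F.f 588
  ns : n * F.f 588 * n⁻¹ = z
  nu : Commute n (F.f 150)

theorem Frame.outer_576 (F : Frame z) : F.f 576 * F.f 576 = 1 ∧ F.f 576 ≠ 1 ∧ F.f 576 ≠ z :=
  F.outer_code (by norm_num) (by decide +kernel) (by norm_num) (by norm_num)

theorem Frame.f588 (F : Frame z) : F.f 588 = z * F.f 576 ∧ F.f 588 = F.f 576 * z := by
  constructor
  · rw [show (588 : ℕ) = mulH 12 576 from tau_vals.2.2.2.2.2.2.2.2.1.symm, F.mul _ _ (by norm_num) (by norm_num), F.fz]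
  · rw [show (588 : ℕ) = mulH 576 12 from tau_vals.2.2.2.2.2.2.2.2.2.symm, F.mul _ _ (by norm_num) (by norm_num), F.fz]

theorem Setting.exists_cycle (S : Setting z₀) (F : Frame z) : Nonempty (Cycle F) := by
  obtain ⟨ht2, ht1, htz⟩ := F.outer_576
  obtain ⟨F0⟩ := S.exists_frame ht2 ht1
  have hcu : Commute (F.f 150) (F.f 576) := (F.commute_iff (by norm_num) (by norm_num)).2 (by decide +kernel)
  obtain ⟨Ft, h1, h2⟩ := F0.normalise F.centre_sq F.centre_ne (fun h => htz h.symm)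
    (F.comm 576 (by norm_num)).symm F.u_code.1 F.u_code.2 hcu (F.comm 150 (by norm_num))
  obtain ⟨v1, v2, v3, v4, v5, -⟩ := tau_vals
  set h := F.f 288 with hh
  set h' := Ft.f 288 with hh'
  have a1 : h * F.f 576 * h⁻¹ = F.f 588 := by rw [← F.f_cjH (by norm_num) (by norm_num), v1]
  have a2 : h * F.f 588 * h⁻¹ = F.f 576 := by rw [← F.f_cjH (by norm_num) (by norm_num), v2]
  have a3 : h * F.f 150 * h⁻¹ = (F.f 150)⁻¹ := by
    rw [← F.f_cjH (by norm_num) (by norm_num), v3, ← F.f_iH (by norm_num), show iH 150 = 225 by decide +kernel]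
  have az : h * z * h⁻¹ = z := by rw [(F.comm 288 (by norm_num)).eq, mul_inv_cancel_right]
  have b1 : h' * z * h'⁻¹ = F.f 588 := by
    have e := Ft.f_cjH (g := 288) (x := 576) (by norm_num) (by norm_num)
    rw [v1, Ft.f588.2, h1] at e
    rw [F.f588.1]
    exact e.symm
  have b2 : h' * F.f 576 * h'⁻¹ = F.f 576 := by rw [(Ft.comm 288 (by norm_num)).eq, mul_inv_cancel_right]
  have b3 : h' * F.f 150 * h'⁻¹ = (F.f 150)⁻¹ := by
    have e : h' * Ft.f 150 * h'⁻¹ = (Ft.f 150)⁻¹ := by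
      rw [← Ft.f_cjH (by norm_num) (by norm_num), v3, ← Ft.f_iH (by norm_num), show iH 150 = 225 by decide +kernel]
    rcases h2 with h2 | h2
    · rwa [h2] at e
    · rw [h2, ← conj_inv] at e
      exact inv_injective e
  refine ⟨⟨Ft, h1, h2, h * h', ?_, ?_, ?_, ?_⟩⟩
  · rw [show h * h' * z * (h * h')⁻¹ = h * (h' * z * h'⁻¹) * h⁻¹ by group, b1, a2]
  · rw [show h * h' * F.f 576 * (h * h')⁻¹ = h * (h' * F.f 576 * h'⁻¹) * h⁻¹ by group, b2, a1]
  · rw [F.f588.1, show h * h' * (z * F.f 576) * (h * h')⁻¹ =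
      h * (h' * z * h'⁻¹) * h⁻¹ * (h * (h' * F.f 576 * h'⁻¹) * h⁻¹) by group, b1, b2, a2, a1, F.f588.2,
      ← mul_assoc, ht2, one_mul]
  · refine conj_eq_iff_commute.1 ?_
    rw [show h * h' * F.f 150 * (h * h')⁻¹ = h * (h' * F.f 150 * h'⁻¹) * h⁻¹ by group, b3, ← conj_inv, a3, inv_inv]

namespace Cycle

variable {F : Frame z} (C : Cycle F)

theorem t_u : Commute (F.f 576) (F.f 150) := (F.commute_iff (by norm_num) (by norm_num)).2 (by decide +kernel)

theorem u_mem_ft : F.f 150 ∈ C.Ft.psub := by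
  rcases C.ft150 with e | e
  · exact e ▸ ⟨150, by decide, rfl⟩
  · have : C.Ft.f 150 ∈ C.Ft.psub := ⟨150, by decide, rfl⟩
    rw [e] at this
    simpa using inv_mem this

theorem mem_ft_psub {x : G} (ht : Commute x (F.f 576)) (hu : Commute x (F.f 150)) (h3 : x * x * x = 1) :
    x ∈ C.Ft.psub := by
  obtain ⟨a, ha, rfl⟩ := C.Ft.surj x ht
  refine ⟨a, cent_u_cube ⟨a, ha⟩ ((C.Ft.commute_iff ha (by norm_num)).1 ?_) ((C.Ft.cube_eq_one_iff ha).1 h3), rfl⟩
  rcases C.ft150 with e | e <;> rw [e]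
  · exact hu
  · exact hu.inv_right

theorem conj_psub {x : G} (hx : x ∈ F.psub) : C.n * x * C.n⁻¹ ∈ C.Ft.psub := by
  obtain ⟨a, ha, rfl⟩ := hx
  have ha' := pList_lt a ha
  refine C.mem_ft_psub ?_ ?_ ?_
  · rw [← C.nz]
    show C.n * F.f a * C.n⁻¹ * (C.n * z * C.n⁻¹) = C.n * z * C.n⁻¹ * (C.n * F.f a * C.n⁻¹)
    rw [conj_mul, conj_mul, (F.comm a ha').eq]
  · have e : C.n * F.f 150 * C.n⁻¹ = F.f 150 := conj_eq_iff_commute.2 C.nu
    rw [← e]
    show C.n * F.f a * C.n⁻¹ * (C.n * F.f 150 * C.n⁻¹) = C.n * F.f 150 * C.n⁻¹ * (C.n * F.f a * C.n⁻¹)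
    rw [conj_mul, conj_mul, (F.psub_comm ⟨a, ha, rfl⟩ ⟨150, by decide, rfl⟩).eq]
  · have h3 : F.f a * F.f a * F.f a = 1 :=
      F.cube_of_code ha' ((show ∀ a ∈ pList, mulH (mulH a a) a = 0 by decide +kernel) a ha)
    rw [conj_mul, conj_mul, h3, mul_one, mul_inv_cancel]

theorem map_psub : F.psub.map (MulAut.conj C.n).toMonoidHom = C.Ft.psub := by
  refine eq_of_le_of_card_ge ?_ ?_
  · rintro _ ⟨x, hx, rfl⟩
    exact C.conj_psub hx
  · rw [card_map_of_injective (MulEquiv.injective _), F.card_psub, C.Ft.card_psub]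

theorem tau_psub {x : G} (hx : x ∈ F.psub) : F.f 576 * x * (F.f 576)⁻¹ ∈ F.psub ∧
    F.f 288 * x * (F.f 288)⁻¹ ∈ F.psub := by
  obtain ⟨a, ha, rfl⟩ := hx
  have : ∀ a ∈ pList, cjH 576 a ∈ pList ∧ cjH 288 a ∈ pList := by decide +kernel
  constructor
  · exact ⟨_, (this a ha).1, F.f_cjH (by norm_num) (pList_lt a ha)⟩
  · exact ⟨_, (this a ha).2, F.f_cjH (by norm_num) (pList_lt a ha)⟩

theorem esub_fix_t {x : G} (hx : x ∈ F.esub) (ht : Commute x (F.f 576)) : x ∈ C.Ft.psub := by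
  obtain ⟨h1, h2⟩ := F.mem_esub.1 hx
  have hxu : Commute x (F.f 150) := F.cp_comm_psub h1 ⟨150, by decide, rfl⟩
  obtain ⟨a, ha, rfl⟩ := C.Ft.surj x ht
  refine C.mem_ft_psub ht hxu ?_
  rw [C.Ft.cube_eq_one_iff ha]
  have key : ∀ g : Fin 1152, mulH (mulH g g) g ≠ 0 →
      sqH (sqH (mulH (sqH g) g)) = 0 ∨ sqH (sqH (sqH (mulH (sqH g) g))) = 0 := by decide +kernel
  by_contra hne
  have hodd := h2
  have h24 : orderOf (C.Ft.f a) ∣ 24 := by
    have e : C.Ft.f (sqH (sqH (sqH (mulH (sqH a) a)))) = (C.Ft.f a) ^ 24 := by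
      simp only [sqH, C.Ft.mul _ _ (mulH_lt _ _) (mulH_lt _ _), C.Ft.mul _ _ (mulH_lt _ _) ha, C.Ft.mul _ _ ha ha]
      simp [pow_succ, mul_assoc]
    refine orderOf_dvd_of_pow_eq_one ?_
    rcases key ⟨a, ha⟩ hne with h | h
    · rw [← e, show sqH (sqH (sqH (mulH (sqH a) a))) = sqH 0 from congrArg sqH h,
        show sqH 0 = 0 by decide +kernel, C.Ft.f0]
    · rw [← e, h, C.Ft.f0]
  have h3 : orderOf (C.Ft.f a) ∣ 3 := by
    have hc : Nat.Coprime (orderOf (C.Ft.f a)) 8 :=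
      Nat.Coprime.pow_right 3 (Nat.coprime_two_right.2 hodd)
    exact hc.dvd_of_dvd_mul_right h24
  refine hne ((C.Ft.cube_eq_one_iff ha).1 ?_)
  have := orderOf_dvd_iff_pow_eq_one.1 h3
  rw [pow_succ, pow_two] at this
  exact this

theorem esub_fix_s {x : G} (hx : x ∈ F.esub) (hs : Commute x (F.f 588)) :
    (F.f 288)⁻¹ * x * F.f 288 ∈ C.Ft.psub ∧ (F.f 288)⁻¹ * x * F.f 288 ∈ F.esub := by
  have hE : (F.f 288)⁻¹ * x * F.f 288 ∈ F.esub := by
    have e : (F.f 288)⁻¹ = F.f (iH 288) := (F.f_iH (by norm_num)).symm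
    have := F.esub_conj (a := F.f (iH 288)) (fun p hp => by
      obtain ⟨a, ha, rfl⟩ := hp
      exact ⟨_, (show ∀ a ∈ pList, cjH (iH 288) a ∈ pList by decide +kernel) a ha,
        F.f_cjH (iH_lt _) (pList_lt a ha)⟩) hx
    rwa [← e, inv_inv] at this
  refine ⟨C.esub_fix_t hE ?_, hE⟩
  have e : F.f 288 * F.f 576 * (F.f 288)⁻¹ = F.f 588 := by
    rw [← F.f_cjH (by norm_num) (by norm_num), tau_vals.1]
  rw [← e] at hs
  show (F.f 288)⁻¹ * x * F.f 288 * F.f 576 = F.f 576 * ((F.f 288)⁻¹ * x * F.f 288)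
  calc _ = (F.f 288)⁻¹ * (x * (F.f 288 * F.f 576 * (F.f 288)⁻¹)) * F.f 288 := by group
    _ = _ := by rw [hs.eq]; group

theorem inter_psub {x : G} (h : x ∈ F.psub) (ht : Commute x (F.f 576)) :
    x = 1 ∨ x = F.f 150 ∨ x = (F.f 150)⁻¹ := by
  obtain ⟨a, ha, rfl⟩ := h
  have := pList_fix a ha ((F.commute_iff (pList_lt a ha) (by norm_num)).1 ht)
  simp only [List.mem_cons, List.not_mem_nil, or_false] at this
  rcases this with rfl | rfl | rfl
  · exact Or.inl F.f0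
  · exact Or.inr (Or.inl rfl)
  · refine Or.inr (Or.inr ?_)
    rw [← F.f_iH (by norm_num), show iH 150 = 225 by decide +kernel]

theorem u_zpowers {x : G} (h : x = 1 ∨ x = F.f 150 ∨ x = (F.f 150)⁻¹) : x ∈ zpowers (F.f 150) := by
  rcases h with rfl | rfl | rfl
  · exact one_mem _
  · exact mem_zpowers _
  · exact inv_mem (mem_zpowers _)

end Cycle

end Cfsg.Agent.U43T
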