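import Cfsg.Agent.Lib.U43T.Normal

/-!
The second extraspecial group through a conjugate of `z` in the quaternion part.
-/

set_option autoImplicit false
set_option linter.unusedSectionVars false

namespace Cfsg.Agent.U43T

open Subgroup

variable {G : Type*} [Group G] [Finite G] {z : G}

theorem vList_lt : ∀ v ∈ vList, v < 288 ∧ v ∈ qList := by decide +kernel

theorem vList_of_no : ∀ v ∈ qList, mulK v 25 = mulK 25 v → v ∈ cqList := by decide +kernel

theorem cq_in : ∀ v ∈ cqList, v ∈ qList ∧ mulK v 25 = mulK 25 v := by decide +kernel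

/-- A conjugate of `z` equal to the coded involution `25`. -/
structure PairD (K : KData z) where
  g : G
  hg : g * z * g⁻¹ = K.ι 25

namespace KData

variable (K : KData z)

theorem z_mem_qsub : z ∈ K.qsub := ⟨12, by decide, K.ι_z⟩

theorem conj_qsub {h x : G} (hh : Commute h z) (hx : x ∈ K.qsub) : h * x * h⁻¹ ∈ K.qsub := by
  obtain ⟨a, ha, rfl⟩ := hx
  obtain ⟨l, hl, e⟩ := K.conj_q hh ha
  exact ⟨l, hl, e.symm⟩

theorem nonempty_pair : Nonempty (PairD K) := by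
  obtain ⟨g, q, hq, e, hne⟩ := K.nwc
  have hq' := CP.qList_lt q hq
  have hz2 := K.z_mul_z
  have hqq : mulK q q = 0 := by
    refine K.ι_inj (mulK_lt hq' hq') (by norm_num) ?_
    rw [K.ι_mul hq' hq', ← e, K.ι_zero, conj_mul, hz2, mul_one, mul_inv_cancel]
  have h0 : q ≠ 0 := by
    intro h
    rw [h, K.ι_zero, conj_eq_one_iff] at e
    exact hne (by rw [e]; group)
  have h12 : q ≠ 12 := fun h => hne (by rw [e, h, K.ι_z])
  obtain ⟨k, hk⟩ := q_orbit q hq hqq h0 h12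
  refine ⟨⟨K.ι k * g, ?_⟩⟩
  rw [← hk, K.ι_cj k.2 hq', ← e]
  group

end KData

namespace PairD

variable {K : KData z} (P : PairD K)

/-- The conjugate extraspecial group. -/
def qg : Subgroup G := K.qsub.map (MulAut.conj P.g).toMonoidHom

theorem mem_qg {x : G} : x ∈ P.qg ↔ P.g⁻¹ * x * P.g ∈ K.qsub := by
  unfold qg
  rw [Subgroup.mem_map_equiv]
  show (MulAut.conj P.g).symm x ∈ K.qsub ↔ _
  rw [MulAut.conj_symm_apply]

theorem s_mem_qg : K.ι 25 ∈ P.qg := by
  rw [P.mem_qg, ← P.hg, show P.g⁻¹ * (P.g * z * P.g⁻¹) * P.g = z by group]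
  exact K.z_mem_qsub

theorem comm_s_iff {c : G} : Commute c (K.ι 25) ↔ Commute (P.g⁻¹ * c * P.g) z := by
  rw [← P.hg]
  constructor
  · intro h
    show P.g⁻¹ * c * P.g * z = z * (P.g⁻¹ * c * P.g)
    calc P.g⁻¹ * c * P.g * z = P.g⁻¹ * (c * (P.g * z * P.g⁻¹)) * P.g := by group
      _ = z * (P.g⁻¹ * c * P.g) := by rw [h.eq]; group
  · intro h
    show c * (P.g * z * P.g⁻¹) = P.g * z * P.g⁻¹ * c
    calc c * (P.g * z * P.g⁻¹) = P.g * (P.g⁻¹ * c * P.g * z) * P.g⁻¹ := by group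
      _ = P.g * z * P.g⁻¹ * c := by rw [h.eq]; group

theorem conj_qg {c x : G} (hc : Commute c (K.ι 25)) (hx : x ∈ P.qg) : c * x * c⁻¹ ∈ P.qg := by
  rw [P.mem_qg] at hx ⊢
  have := K.conj_qsub (P.comm_s_iff.1 hc) hx
  convert this using 1
  group

theorem qg_comm_s {x : G} (hx : x ∈ P.qg) : Commute x (K.ι 25) := by
  obtain ⟨a, ha, e⟩ := P.mem_qg.1 hx
  exact P.comm_s_iff.2 (e ▸ K.k_cent a (CP.qList_lt a ha))

theorem qg_sq {x : G} (hx : x ∈ P.qg) : x * x = 1 ∨ x * x = K.ι 25 := by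
  obtain ⟨a, ha, e⟩ := P.mem_qg.1 hx
  have ha' := CP.qList_lt a ha
  have hx' : x * x = P.g * K.ι (mulK a a) * P.g⁻¹ := by rw [K.ι_mul ha' ha', e]; group
  rcases q_sq a ha with h | h <;> rw [hx', h]
  · left; rw [K.ι_zero]; group
  · right; rw [K.ι_z, P.hg]

theorem qg_commutator {x y : G} (hx : x ∈ P.qg) (hy : y ∈ P.qg) :
    x⁻¹ * y⁻¹ * (x * y) = 1 ∨ x⁻¹ * y⁻¹ * (x * y) = K.ι 25 := by
  obtain ⟨a, ha, e⟩ := P.mem_qg.1 hx
  obtain ⟨b, hb, e'⟩ := P.mem_qg.1 hy
  have ha' := CP.qList_lt a ha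
  have hb' := CP.qList_lt b hb
  have ia := (iK_spec ⟨a, ha'⟩).2
  have ib := (iK_spec ⟨b, hb'⟩).2
  have hc : x⁻¹ * y⁻¹ * (x * y) = P.g * K.ι (mulK (mulK (iK a) (iK b)) (mulK a b)) * P.g⁻¹ := by
    rw [K.ι_mul (mulK_lt ia ib) (mulK_lt ha' hb'), K.ι_mul ia ib, K.ι_mul ha' hb', K.ι_iK ha', K.ι_iK hb',
      e, e']
    group
  rcases q_comm a ha b hb with h | h <;> rw [hc, h]
  · left; rw [K.ι_zero]; group
  · right; rw [K.ι_z, P.hg]

theorem inter_card : Nat.card ↥(K.qsub ⊓ P.qg) = 4 := by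
  refine K.meet4 P.g ?_ ?_
  · rw [P.hg]; exact ⟨25, by decide, rfl⟩
  · rw [P.hg]
    intro h
    exact absurd (K.ι_inj (by norm_num) (by norm_num) (h.trans K.ι_z.symm)) (by norm_num)

theorem z_mem_qg : z ∈ P.qg := by
  classical
  have hsV : K.ι 25 ∈ K.qsub ⊓ P.qg := ⟨⟨25, by decide, rfl⟩, P.s_mem_qg⟩
  have hex : ∃ v ∈ K.qsub ⊓ P.qg, v ≠ 1 ∧ v ≠ K.ι 25 := by
    by_contra hc
    push Not at hc
    have hsub : ((K.qsub ⊓ P.qg : Subgroup G) : Set G) ⊆ {1, K.ι 25} := fun v hv => by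
      by_cases h : v = 1
      · exact Or.inl h
      · exact Or.inr (hc v hv h)
    have h2 := Set.ncard_le_ncard hsub
    rw [← Nat.card_coe_set_eq] at h2
    have h3 : ({1, K.ι 25} : Set G).ncard ≤ 2 := by
      refine (Set.ncard_insert_le _ _).trans ?_
      rw [Set.ncard_singleton]
    have h4 := P.inter_card
    change Nat.card ↥((K.qsub ⊓ P.qg : Subgroup G) : Set G) = 4 at h4
    omega
  obtain ⟨v, ⟨⟨a, ha, rfl⟩, hvg⟩, h1, h25⟩ := hex
  have ha' := CP.qList_lt a ha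
  have hcq : a ∈ cqList := vList_of_no a ha ((K.commute_iff ha' (by norm_num)).1 (P.qg_comm_s hvg))
  by_cases hV : a ∈ vList
  · simp only [vList, List.mem_cons, List.not_mem_nil, or_false] at hV
    rcases hV with rfl | rfl | rfl | rfl
    · exact absurd K.ι_zero h1
    · rwa [K.ι_z] at hvg
    · exact absurd rfl h25
    · have e := congrArg K.ι (show mulK 37 25 = 12 by decide +kernel)
      rw [K.ι_mul (by norm_num) (by norm_num), K.ι_z] at e
      have := mul_mem hvg P.s_mem_qg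
      rwa [e] at this
  · obtain ⟨c, hc, e⟩ := four_normal a hcq hV
    obtain ⟨hcQ, hcs⟩ := cq_in c hc
    have hc' := CP.qList_lt c hcQ
    have := P.conj_qg ((K.commute_iff hc' (by norm_num)).2 hcs) hvg
    rw [← K.ι_cj hc' ha', e, K.ι_mul (by norm_num) ha', K.ι_z] at this
    simpa using mul_mem this (inv_mem hvg)

theorem inter_eq {x : G} : x ∈ K.qsub ∧ x ∈ P.qg ↔ ∃ v ∈ vList, K.ι v = x := by
  classical
  have hle : ∀ v ∈ vList, K.ι v ∈ K.qsub ⊓ P.qg := by
    intro v hv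
    refine ⟨⟨v, (vList_lt v hv).2, rfl⟩, ?_⟩
    simp only [vList, List.mem_cons, List.not_mem_nil, or_false] at hv
    rcases hv with rfl | rfl | rfl | rfl
    · rw [K.ι_zero]; exact one_mem _
    · rw [K.ι_z]; exact P.z_mem_qg
    · exact P.s_mem_qg
    · rw [show (37 : ℕ) = mulK 12 25 by decide +kernel, K.ι_mul (by norm_num) (by norm_num), K.ι_z]
      exact mul_mem P.z_mem_qg P.s_mem_qg
  have heq : ((vList.toFinset.image K.ι : Finset G) : Set G) = ((K.qsub ⊓ P.qg : Subgroup G) : Set G) := by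
    refine Set.eq_of_subset_of_ncard_le ?_ ?_
    · intro y hy
      simp only [Finset.coe_image, Set.mem_image, List.coe_toFinset, Set.mem_ofPred_eq] at hy
      obtain ⟨v, hv, rfl⟩ := hy
      exact hle v hv
    · rw [← Nat.card_coe_set_eq, Set.ncard_coe_finset, Finset.card_image_of_injOn]
      · exact P.inter_card.le.trans (by decide +kernel)
      · intro a ha b hb h
        simp only [List.coe_toFinset, Set.mem_ofPred_eq] at ha hb
        exact K.ι_inj (vList_lt a ha).1 (vList_lt b hb).1 h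
  constructor
  · intro h
    have : x ∈ ((vList.toFinset.image K.ι : Finset G) : Set G) := by rw [heq]; exact h
    simpa using this
  · rintro ⟨v, hv, rfl⟩; exact hle v hv

/-- The part of the conjugate group commuting with `z`. -/
def bsub : Subgroup G := P.qg ⊓ centralizer {z}

theorem mem_bsub {x : G} : x ∈ P.bsub ↔ x ∈ P.qg ∧ Commute x z := by
  unfold bsub
  rw [Subgroup.mem_inf, mem_centralizer_singleton_iff]
  exact Iff.rfl

theorem card_bsub : Nat.card P.bsub = 16 := by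
  classical
  obtain ⟨q, hq, e⟩ := P.mem_qg.1 P.z_mem_qg
  have hq' := CP.qList_lt q hq
  have hq0 : q ≠ 0 := by
    intro h
    rw [h, K.ι_zero] at e
    have hz : z = 1 := by
      calc z = P.g * (P.g⁻¹ * z * P.g) * P.g⁻¹ := by group
        _ = 1 := by rw [← e]; group
    exact absurd (K.ι_inj (g := 12) (h := 0) (by norm_num) (by norm_num) (by rw [K.ι_z, K.ι_zero, hz]))
      (by norm_num)
  have hq12 : q ≠ 12 := by
    intro h
    rw [h, K.ι_z] at e
    have hz : P.g * z * P.g⁻¹ = z := by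
      calc P.g * z * P.g⁻¹ = P.g * (P.g⁻¹ * z * P.g) * P.g⁻¹ := by rw [← e]
        _ = z := by group
    rw [P.hg] at hz
    exact absurd (K.ι_inj (by norm_num) (by norm_num) (hz.trans K.ι_z.symm)) (by norm_num)
  have hset : (P.bsub : Set G) =
      ↑(((qList.filter fun a => mulK a q == mulK q a).toFinset).image fun a => P.g * K.ι a * P.g⁻¹) := by
    ext x
    simp only [SetLike.mem_coe, P.mem_bsub, Finset.coe_image, Set.mem_image, List.coe_toFinset,
      List.mem_filter, beq_iff_eq, Set.mem_ofPred_eq]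
    constructor
    · rintro ⟨hx, hxz⟩
      obtain ⟨a, ha, ea⟩ := P.mem_qg.1 hx
      refine ⟨a, ⟨ha, (K.commute_iff (CP.qList_lt a ha) hq').1 ?_⟩, by rw [ea]; group⟩
      rw [e, ea]
      show P.g⁻¹ * x * P.g * (P.g⁻¹ * z * P.g) = P.g⁻¹ * z * P.g * (P.g⁻¹ * x * P.g)
      calc _ = P.g⁻¹ * (x * z) * P.g := by group
        _ = _ := by rw [hxz.eq]; group
    · rintro ⟨a, ⟨ha, hc⟩, rfl⟩
      refine ⟨P.mem_qg.2 ⟨a, ha, by group⟩, ?_⟩
      have := (K.commute_iff (CP.qList_lt a ha) hq').2 hc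
      rw [e] at this
      show P.g * K.ι a * P.g⁻¹ * z = z * (P.g * K.ι a * P.g⁻¹)
      calc _ = P.g * (K.ι a * (P.g⁻¹ * z * P.g)) * P.g⁻¹ := by group
        _ = _ := by rw [this.eq]; group
  rw [show Nat.card P.bsub = (P.bsub : Set G).ncard from Nat.card_coe_set_eq _, hset, Set.ncard_coe_finset,
    Finset.card_image_of_injOn, List.toFinset_card_of_nodup]
  · exact q_cent_card q hq hq0 hq12
  · exact List.Nodup.filter _ (by decide +kernel)
  · intro a ha b hb h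
    simp only [List.coe_toFinset, List.mem_filter, Set.mem_ofPred_eq] at ha hb
    exact K.ι_inj (CP.qList_lt a ha.1) (CP.qList_lt b hb.1) (mul_left_cancel (mul_right_cancel h))

theorem bsub_inter {k : ℕ} (hk : k < 288) (h : K.ι k ∈ P.bsub) : k ∈ vList := by
  have hg := (P.mem_bsub.1 h).1
  have hcs := cent_s ⟨k, hk⟩ ((K.commute_iff hk (by norm_num)).1 (P.qg_comm_s hg))
  obtain ⟨v, hv, e⟩ := P.inter_eq.1 ⟨⟨k, (cq_in k hcs).1, rfl⟩, hg⟩
  exact K.ι_inj (vList_lt v hv).1 hk e ▸ hv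

theorem exists_b {h : G} (hh : Commute h z) : ∃ k, k < 288 ∧ ∃ x ∈ P.bsub, h = K.ι k * x := by
  classical
  set X := centralizer ({z} : Set G) with hX
  have hKX : K.sub ≤ X := by
    rintro _ ⟨k, hk, rfl⟩
    exact mem_centralizer_singleton_iff.2 (K.k_cent k hk)
  have hN : (K.sub.subgroupOf X).Normal := ⟨fun n hn g => by
    obtain ⟨k, hk, e⟩ := hn
    obtain ⟨l, hl, e'⟩ := K.normal (g : G) (mem_centralizer_singleton_iff.1 g.2) k hk
    refine ⟨l, hl, ?_⟩
    rw [← e', e]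
    simp⟩
  let φ : P.bsub →* X ⧸ K.sub.subgroupOf X := (QuotientGroup.mk' _).comp
    (Subgroup.inclusion (show P.bsub ≤ X from inf_le_right))
  have hker : Nat.card φ.ker = 4 := by
    have hv : ∀ v ∈ vList, K.ι v ∈ P.bsub := fun v hv =>
      P.mem_bsub.2 ⟨(P.inter_eq.2 ⟨v, hv, rfl⟩).2, K.k_cent v (vList_lt v hv).1⟩
    have e : ((φ.ker.map P.bsub.subtype : Subgroup G) : Set G) = ↑(vList.toFinset.image K.ι) := by
      ext x
      simp only [coe_map, coe_subtype, Set.mem_image, SetLike.mem_coe, MonoidHom.mem_ker, Finset.coe_image,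
        List.coe_toFinset, Set.mem_ofPred_eq]
      constructor
      · rintro ⟨w, hw, rfl⟩
        obtain ⟨k, hk, hke⟩ := (QuotientGroup.eq_one_iff _).1 hw
        have hke' : K.ι k = (w : G) := hke
        exact ⟨k, P.bsub_inter hk (hke' ▸ w.2), hke'⟩
      · rintro ⟨v, hv', rfl⟩
        exact ⟨⟨_, hv v hv'⟩, (QuotientGroup.eq_one_iff _).2 ⟨v, (vList_lt v hv').1, rfl⟩, rfl⟩
    rw [← card_map_of_injective P.bsub.subtype_injective,
      show Nat.card ↥(φ.ker.map P.bsub.subtype) = ((φ.ker.map P.bsub.subtype : Subgroup G) : Set G).ncard from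
        Nat.card_coe_set_eq _, e, Set.ncard_coe_finset, Finset.card_image_of_injOn]
    · decide +kernel
    · intro a ha b hb h
      simp only [List.coe_toFinset, Set.mem_ofPred_eq] at ha hb
      exact K.ι_inj (vList_lt a ha).1 (vList_lt b hb).1 h
  have hq : Nat.card (X ⧸ K.sub.subgroupOf X) = 4 := by
    have := card_eq_card_quotient_mul_card_subgroup (K.sub.subgroupOf X)
    rw [K.card_cent, Nat.card_congr (subgroupOfEquivOfLe hKX).toEquiv, K.card_sub] at this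
    omega
  have hr : Nat.card φ.range = 4 := by
    have := card_eq_card_quotient_mul_card_subgroup φ.ker
    rw [P.card_bsub, hker, Nat.card_congr (QuotientGroup.quotientKerEquivRange φ).toEquiv] at this
    omega
  have htop : φ.range = ⊤ := eq_top_of_card_eq _ (hr.trans hq.symm)
  obtain ⟨x, hx⟩ : (QuotientGroup.mk ⟨h, mem_centralizer_singleton_iff.2 hh⟩ : X ⧸ K.sub.subgroupOf X) ∈
      φ.range := htop ▸ mem_top _
  have hx' := QuotientGroup.eq.1 hx
  obtain ⟨k, hk, hke⟩ := hx'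
  have hke' : K.ι k = (x : G)⁻¹ * h := by
    rw [hke]; rfl
  obtain ⟨l, hl, hle⟩ := K.normal (x : G) (P.mem_bsub.1 x.2).2 k hk
  exact ⟨l, hl, x, x.2, by rw [← hle, hke']; group⟩

theorem sq_mem_sub (P : PairD K) {h : G} (hh : Commute h z) : ∃ l, l < 288 ∧ h * h = K.ι l := by
  obtain ⟨k, hk, x, hx, rfl⟩ := P.exists_b hh
  obtain ⟨l, hl, e⟩ := K.normal x (P.mem_bsub.1 hx).2 k hk
  have hxx : ∃ m, m < 288 ∧ x * x = K.ι m := by
    rcases P.qg_sq (P.mem_bsub.1 hx).1 with e' | e'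
    · exact ⟨0, by norm_num, by rw [e', K.ι_zero]⟩
    · exact ⟨25, by norm_num, e'⟩
  obtain ⟨m, hm, hme⟩ := hxx
  refine ⟨mulK (mulK k l) m, mulK_lt (mulK_lt hk hl) hm, ?_⟩
  rw [K.ι_mul (mulK_lt hk hl) hm, K.ι_mul hk hl, ← e, ← hme]
  group

theorem cq_commutator {x : G} (hx : x ∈ P.bsub) {c : ℕ} (hc : c ∈ cqList) :
    ∃ v ∈ vList, K.ι v = x * K.ι c * x⁻¹ * (K.ι c)⁻¹ := by
  obtain ⟨hxg, hxz⟩ := P.mem_bsub.1 hx
  obtain ⟨hcQ, hcs⟩ := cq_in c hc
  have hc' := CP.qList_lt c hcQ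
  refine P.inter_eq.1 ⟨mul_mem (K.conj_qsub hxz ⟨c, hcQ, rfl⟩) (inv_mem ⟨c, hcQ, rfl⟩), ?_⟩
  have := P.conj_qg ((K.commute_iff hc' (by norm_num)).2 hcs) (inv_mem hxg)
  rw [show x * K.ι c * x⁻¹ * (K.ι c)⁻¹ = x * (K.ι c * x⁻¹ * (K.ι c)⁻¹) by group]
  exact mul_mem hxg this

end PairD

end Cfsg.Agent.U43T
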