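import Cfsg.Agent.Lib.U43T.PFrame

/-!
Only one of the eight extensions admits the second extraspecial group.
-/

set_option autoImplicit false
set_option linter.unusedSectionVars false

namespace Cfsg.Agent.U43T

/-- The automorphism of the four group induced by the conjugate extraspecial group. -/
def th (v : ℕ) : ℕ := if v = 12 then 37 else if v = 37 then 12 else v

/-- `x * y = y * x * v`. -/
def relP (a b c x y v : ℕ) : Bool := mulP a b c x y == mulP a b c (mulP a b c y x) v

/-- A candidate outer element of the conjugate extraspecial group. -/
def candP (a b c x : ℕ) : Bool :=
  mulP a b c x 25 == mulP a b c 25 x && [0, 25].any (fun v => mulP a b c x x == v) &&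
    vList.any (relP a b c x 1) && vList.any (relP a b c x 175)

/-- The candidate images. -/
def dList (a b c x y : ℕ) : List ℕ :=
  vList.flatMap fun v => [0, x, y, mulP a b c x y].map fun r =>
    mulP a b c (mulP a b c 7 (mulP a b c v r)) (iK 7)

/-- `d` can be the image of `q`. -/
def imgP (a b c x y q d : ℕ) : Bool :=
  vList.any (fun v => mulP a b c q q == v && mulP a b c d d == th v) &&
    vList.any (fun v => relP a b c q x v && relP a b c d x (th v)) &&
    vList.any (fun v => relP a b c q y v && relP a b c d y (th v))

/-- The necessary condition. -/
def condP (a b c : ℕ) : Bool :=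
  (((List.range 288).map (· + 288)).filter (candP a b c)).any fun x =>
    (((List.range 288).map (· + 576)).filter (candP a b c)).any fun y =>
      (relP a b c x y 0 || relP a b c x y 25) &&
        (dList a b c x y).any fun d => imgP a b c x y 1 d && (dList a b c x y).any fun d' =>
          imgP a b c x y 175 d' && vList.any fun v => relP a b c 1 175 v && relP a b c d d' (th v)

theorem cond_unique : ∀ a b c : Fin 2, condP a b c = true → (a = 1 ∧ b = 1 ∧ c = 0) := by decide +kernel

end Cfsg.Agent.U43T
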