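import Cfsg.Agent.Lib.U43T.PairData

/-!
The two outer generators of the involution centraliser.
-/

set_option autoImplicit false
set_option linter.unusedSectionVars false

namespace Cfsg.Agent.U43T

open Subgroup

variable {G : Type*} [Group G] [Finite G] {z : G}

namespace KData

variable (K : KData z)

/-- `h` maps the four generators as prescribed. -/
def Maps (h : G) (a b c d : ℕ) : Prop :=
  h * K.ι 144 * h⁻¹ = K.ι a ∧ h * K.ι 6 * h⁻¹ = K.ι b ∧ h * K.ι 24 * h⁻¹ = K.ι c ∧ h * K.ι 1 * h⁻¹ = K.ι d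

theorem central_of_maps {h : G} (hh : Commute h z) (hm : K.Maps h 144 6 24 1) : h = 1 ∨ h = z := by
  have hc : ∀ a, h * K.ι a * h⁻¹ = K.ι a → Commute h (K.ι a) := fun a e => mul_inv_eq_iff_eq_mul.1 e
  have hall := K.gen_comm (hc _ hm.1) (hc _ hm.2.1) (hc _ hm.2.2.1) (hc _ hm.2.2.2)
  obtain ⟨q, hq, rfl⟩ := K.selfc h hh fun q hq => hall q (CP.qList_lt q hq)
  rcases cent_pair_q q hq ((K.commute_iff (CP.qList_lt q hq) (by norm_num)).1 (hall 144 (by norm_num)))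
    ((K.commute_iff (CP.qList_lt q hq) (by norm_num)).1 (hall 6 (by norm_num))) with rfl | rfl
  · left; exact K.ι_zero
  · right; exact K.ι_z

theorem conj_cj {h : G} {a b a' b' : ℕ} (ha : a < 288) (hb : b < 288) (ha' : a' < 288) (hb' : b' < 288)
    (e : h * K.ι a * h⁻¹ = K.ι a') (f : h * K.ι b * h⁻¹ = K.ι b') :
    h * K.ι (cj a b) * h⁻¹ = K.ι (cj a' b') := by
  rw [K.ι_cj ha hb, K.ι_cj ha' hb', ← e, ← f]
  group

theorem conj_mulK {h : G} {a b a' b' : ℕ} (ha : a < 288) (hb : b < 288) (ha' : a' < 288) (hb' : b' < 288)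
    (e : h * K.ι a * h⁻¹ = K.ι a') (f : h * K.ι b * h⁻¹ = K.ι b') :
    h * K.ι (mulK a b) * h⁻¹ = K.ι (mulK a' b') := by
  rw [K.ι_mul ha hb, K.ι_mul ha' hb', ← e, ← f, conj_mul]

/-- The image of a quaternion generator under an element sending the generator `u` to `w`. -/
theorem image_rel {h : G} (hh : Commute h z) {i u u' w w' : ℕ} (hi : i ∈ qList) (hu : u < 288) (hu' : u' < 288)
    (hw : w < 288) (hw' : w' < 288) (e1 : h * K.ι u * h⁻¹ = K.ι w) (e2 : h * K.ι u' * h⁻¹ = K.ι w')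
    (hc : mulK i u' = mulK u' i) (hrel : mulK i (cj u i) = cj u (cj u i)) (h0 : i ≠ 0) (h12 : i ≠ 12) :
    ∃ q ∈ qList, h * K.ι i * h⁻¹ = K.ι q ∧ mulK q w' = mulK w' q ∧ q ≠ 0 ∧ q ≠ 12 ∧
      mulK q (cj w q) = cj w (cj w q) := by
  have hi' := CP.qList_lt i hi
  obtain ⟨q, hq, e⟩ := K.conj_q hh hi
  have hq' := CP.qList_lt q hq
  refine ⟨q, hq, e, ?_, ?_, ?_, ?_⟩
  · refine K.ι_inj (mulK_lt hq' hw') (mulK_lt hw' hq') ?_
    rw [← K.conj_mulK hi' hu' hq' hw' e e2, ← K.conj_mulK hu' hi' hw' hq' e2 e, hc]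
  · intro e0
    rw [e0, K.ι_zero, conj_eq_one_iff, ← K.ι_zero] at e
    exact h0 (K.ι_inj hi' (by norm_num) e)
  · intro e0
    rw [e0, K.ι_z] at e
    have : K.ι i = K.ι 12 := by
      rw [K.ι_z]
      exact conj_inj (h := h) (by rw [e, hh.eq, mul_inv_cancel_right])
    exact h12 (K.ι_inj hi' (by norm_num) this)
  · refine K.ι_inj (mulK_lt hq' (CP.cj_lt hw hq')) (CP.cj_lt hw (CP.cj_lt hw hq')) ?_
    have f := K.conj_cj hu hi' hw hq' e1 e
    rw [← K.conj_mulK hi' (CP.cj_lt hu hi') hq' (CP.cj_lt hw hq') e f,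
      ← K.conj_cj hu (CP.cj_lt hu hi') hw (CP.cj_lt hw hq') e1 f, hrel]

theorem adjust {h : G} (hh : Commute h z) {w₁ w₂ q₁ q₂ t₁ t₂ k : ℕ} (hk : k < 288) (hw₁ : w₁ < 288)
    (hw₂ : w₂ < 288) (ht₁ : t₁ < 288) (ht₂ : t₂ < 288) (e1 : h * K.ι 144 * h⁻¹ = K.ι w₁)
    (e2 : h * K.ι 6 * h⁻¹ = K.ι w₂) (e3 : h * K.ι 24 * h⁻¹ = K.ι q₁) (e4 : h * K.ι 1 * h⁻¹ = K.ι q₂)
    (c1 : cj k w₁ = w₁) (c2 : cj k w₂ = w₂) (c3 : cj k t₁ = q₁) (c4 : cj k t₂ = q₂) :
    Commute ((K.ι k)⁻¹ * h) z ∧ K.Maps ((K.ι k)⁻¹ * h) w₁ w₂ t₁ t₂ := by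
  refine ⟨(K.k_cent k hk).inv_left.mul_left hh, ?_⟩
  have key : ∀ a t q, t < 288 → cj k t = q → h * K.ι a * h⁻¹ = K.ι q →
      ((K.ι k)⁻¹ * h) * K.ι a * ((K.ι k)⁻¹ * h)⁻¹ = K.ι t := by
    intro a t q ht he hq
    calc _ = (K.ι k)⁻¹ * (h * K.ι a * h⁻¹) * K.ι k := by group
      _ = K.ι t := by rw [hq, ← he, K.ι_cj hk ht]; group
  exact ⟨key _ _ _ hw₁ c1 e1, key _ _ _ hw₂ c2 e2, key _ _ _ ht₁ c3 e3, key _ _ _ ht₂ c4 e4⟩

theorem exists_swap_maps {h : G} (hh : Commute h z) (ha : K.ActsAs h (6, 144)) :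
    ∃ s, Commute s z ∧ K.Maps s 6 144 1 24 := by
  obtain ⟨q₁, hq₁, e₁, c₁, n₁, m₁, r₁⟩ := K.image_rel hh (i := 24) (by decide) (by norm_num) (by norm_num)
    (by norm_num) (by norm_num) ha.1 ha.2 (by decide +kernel) rel₁ (by decide) (by decide)
  obtain ⟨q₂, hq₂, e₂, c₂, n₂, m₂, r₂⟩ := K.image_rel hh (i := 1) (by decide) (by norm_num) (by norm_num)
    (by norm_num) (by norm_num) ha.2 ha.1 (by decide +kernel) rel₂ (by decide) (by decide)
  obtain ⟨b, hb, hbe⟩ := img_fix₂ q₁ hq₁ c₁ n₁ m₁ r₁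
  obtain ⟨a, ha', hae⟩ := img_fix₁ q₂ hq₂ c₂ n₂ m₂ r₂
  have hk : mulK a b < 288 := by fin_cases ha' <;> fin_cases hb <;> decide +kernel
  obtain ⟨h1, h2⟩ := K.adjust hh (k := mulK a b) (t₁ := 1) (t₂ := 24) hk (by norm_num) (by norm_num) (by norm_num)
    (by norm_num) ha.1 ha.2 e₁ e₂ (by fin_cases ha' <;> fin_cases hb <;> decide +kernel)
    (by fin_cases ha' <;> fin_cases hb <;> decide +kernel)
    (by rw [← hbe]; fin_cases ha' <;> fin_cases hb <;> decide +kernel)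
    (by rw [← hae]; fin_cases ha' <;> fin_cases hb <;> decide +kernel)
  exact ⟨_, h1, h2⟩

theorem exists_invert_maps {h : G} (hh : Commute h z) (ha : K.ActsAs h (216, 9)) :
    ∃ t, Commute t z ∧ K.Maps t 216 9 36 13 := by
  obtain ⟨q₁, hq₁, e₁, c₁, n₁, m₁, r₁⟩ := K.image_rel hh (i := 24) (by decide) (by norm_num) (by norm_num)
    (by norm_num) (by norm_num) ha.1 ha.2 (by decide +kernel) rel₁ (by decide) (by decide)
  obtain ⟨q₂, hq₂, e₂, c₂, n₂, m₂, r₂⟩ := K.image_rel hh (i := 1) (by decide) (by norm_num) (by norm_num)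
    (by norm_num) (by norm_num) ha.2 ha.1 (by decide +kernel) rel₂ (by decide) (by decide)
  have cc₁ : mulK q₁ 6 = mulK 6 q₁ := by
    have : ∀ q ∈ qList, mulK q 9 = mulK 9 q → mulK q 6 = mulK 6 q := by decide +kernel
    exact this q₁ hq₁ c₁
  have cc₂ : mulK q₂ 144 = mulK 144 q₂ := by
    have : ∀ q ∈ qList, mulK q 216 = mulK 216 q → mulK q 144 = mulK 144 q := by decide +kernel
    exact this q₂ hq₂ c₂
  obtain ⟨a, ha', hae⟩ := img_inv₁ q₁ hq₁ cc₁ n₁ m₁ r₁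
  obtain ⟨b, hb, hbe⟩ := img_inv₂ q₂ hq₂ cc₂ n₂ m₂ r₂
  have hk : mulK a b < 288 := by fin_cases ha' <;> fin_cases hb <;> decide +kernel
  obtain ⟨h1, h2⟩ := K.adjust hh (k := mulK a b) (t₁ := 36) (t₂ := 13) hk (by norm_num) (by norm_num)
    (by norm_num) (by norm_num) ha.1 ha.2 e₁ e₂ (by fin_cases ha' <;> fin_cases hb <;> decide +kernel)
    (by fin_cases ha' <;> fin_cases hb <;> decide +kernel)
    (by rw [← hae]; fin_cases ha' <;> fin_cases hb <;> decide +kernel)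
    (by rw [← hbe]; fin_cases ha' <;> fin_cases hb <;> decide +kernel)
  exact ⟨_, h1, h2⟩

theorem no_diag_aux (P : PairD K) {h : G} (hh : Commute h z) {p₁ p₂ p₂₅ : ℕ} (h₁ : p₁ < 288) (h₂ : p₂ < 288)
    (h₂₅ : p₂₅ < 288) (e₁ : h * K.ι 1 * h⁻¹ = K.ι p₁) (e₂ : h * K.ι 175 * h⁻¹ = K.ι p₂)
    (e₂₅ : h * K.ι 25 * h⁻¹ = K.ι p₂₅) :
    ∃ k : Fin 288, cj k p₂₅ = 25 ∧ mulK (cj k p₁) (iK 1) ∈ vList ∧ mulK (cj k p₂) (iK 175) ∈ vList := by
  obtain ⟨k, hk, x, hx, hkx⟩ := P.exists_b hh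
  have hik := (iK_spec ⟨k, hk⟩).2
  have hxe : x = K.ι (iK k) * h := by rw [K.ι_iK hk, hkx]; group
  have key : ∀ c p, c < 288 → p < 288 → h * K.ι c * h⁻¹ = K.ι p → x * K.ι c * x⁻¹ = K.ι (cj (iK k) p) := by
    intro c p hc hp e
    rw [K.ι_cj hik hp, hxe, ← e]
    group
  refine ⟨⟨iK k, hik⟩, ?_, ?_, ?_⟩
  · refine K.ι_inj (CP.cj_lt hik h₂₅) (by norm_num) ?_
    rw [← key 25 p₂₅ (by norm_num) h₂₅ e₂₅,
      (P.qg_comm_s (P.mem_bsub.1 hx).1).eq, mul_inv_cancel_right]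
  · obtain ⟨v, hv, e⟩ := P.cq_commutator hx (c := 1) (by decide)
    rw [key 1 p₁ (by norm_num) h₁ e₁, ← K.ι_iK (by norm_num),
      ← K.ι_mul (CP.cj_lt hik h₁) (iK_spec ⟨1, by norm_num⟩).2] at e
    exact K.ι_inj (mulK_lt (CP.cj_lt hik h₁) (iK_spec ⟨1, by norm_num⟩).2) (vList_lt v hv).1 e.symm ▸ hv
  · obtain ⟨v, hv, e⟩ := P.cq_commutator hx (c := 175) (by decide)
    rw [key 175 p₂ (by norm_num) h₂ e₂, ← K.ι_iK (by norm_num),
      ← K.ι_mul (CP.cj_lt hik h₂) (iK_spec ⟨175, by norm_num⟩).2] at e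
    exact K.ι_inj (mulK_lt (CP.cj_lt hik h₂) (iK_spec ⟨175, by norm_num⟩).2) (vList_lt v hv).1 e.symm ▸ hv

theorem no_half_inverter₁ (P : PairD K) {h : G} (hh : Commute h z) (ha : K.ActsAs h (216, 6)) : False := by
  obtain ⟨q₁, hq₁, e₁, c₁, n₁, m₁, r₁⟩ := K.image_rel hh (i := 24) (by decide) (by norm_num) (by norm_num)
    (by norm_num) (by norm_num) ha.1 ha.2 (by decide +kernel) rel₁ (by decide) (by decide)
  obtain ⟨q₂, hq₂, e₂, c₂, n₂, m₂, r₂⟩ := K.image_rel hh (i := 1) (by decide) (by norm_num) (by norm_num)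
    (by norm_num) (by norm_num) ha.2 ha.1 (by decide +kernel) rel₂ (by decide) (by decide)
  have cc₂ : mulK q₂ 144 = mulK 144 q₂ := by
    have : ∀ q ∈ qList, mulK q 216 = mulK 216 q → mulK q 144 = mulK 144 q := by decide +kernel
    exact this q₂ hq₂ c₂
  obtain ⟨a, ha', hae⟩ := img_inv₁ q₁ hq₁ c₁ n₁ m₁ r₁
  obtain ⟨b, hb, hbe⟩ := img_fix₂ q₂ hq₂ cc₂ n₂ m₂ r₂
  have hk : mulK a b < 288 := by fin_cases ha' <;> fin_cases hb <;> decide +kernel
  obtain ⟨h1, f144, f6, f24, f1⟩ := K.adjust hh (k := mulK a b) (t₁ := 36) (t₂ := 1) hk (by norm_num) (by norm_num)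
    (by norm_num) (by norm_num) ha.1 ha.2 e₁ e₂ (by fin_cases ha' <;> fin_cases hb <;> decide +kernel)
    (by fin_cases ha' <;> fin_cases hb <;> decide +kernel)
    (by rw [← hae]; fin_cases ha' <;> fin_cases hb <;> decide +kernel)
    (by rw [← hbe]; fin_cases ha' <;> fin_cases hb <;> decide +kernel)
  obtain ⟨k, x1, x2, x3⟩ := K.no_diag_aux P h1 (p₁ := 1) (p₂ := mulK (cj 216 36) (cj 6 1))
    (p₂₅ := mulK 36 1) (by norm_num) (by decide +kernel) (by decide +kernel) f1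
    (by
      rw [show (175 : ℕ) = mulK (cj 144 24) (cj 6 1) by decide +kernel]
      exact K.conj_mulK (by decide +kernel) (by decide +kernel) (by decide +kernel) (by decide +kernel)
        (K.conj_cj (by norm_num) (by norm_num) (by norm_num) (by norm_num) f144 f24)
        (K.conj_cj (by norm_num) (by norm_num) (by norm_num) (by norm_num) f6 f1))
    (by
      rw [show (25 : ℕ) = mulK 24 1 by decide +kernel]
      exact K.conj_mulK (by norm_num) (by norm_num) (by norm_num) (by norm_num) f24 f1)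
  exact no_diag₁ k (by rw [show pk (sRef 1) 1 = mulK 36 1 by decide +kernel]; exact x1)
    (by rw [show sRef 0 * 24 + 1 = 1 by decide +kernel]; exact x2)
    (by rw [show pk (sRef 7) 7 = mulK (cj 216 36) (cj 6 1) by decide +kernel]; exact x3)

theorem no_half_inverter₂ (P : PairD K) {h : G} (hh : Commute h z) (ha : K.ActsAs h (144, 9)) : False := by
  obtain ⟨q₁, hq₁, e₁, c₁, n₁, m₁, r₁⟩ := K.image_rel hh (i := 24) (by decide) (by norm_num) (by norm_num)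
    (by norm_num) (by norm_num) ha.1 ha.2 (by decide +kernel) rel₁ (by decide) (by decide)
  obtain ⟨q₂, hq₂, e₂, c₂, n₂, m₂, r₂⟩ := K.image_rel hh (i := 1) (by decide) (by norm_num) (by norm_num)
    (by norm_num) (by norm_num) ha.2 ha.1 (by decide +kernel) rel₂ (by decide) (by decide)
  have cc₁ : mulK q₁ 6 = mulK 6 q₁ := by
    have : ∀ q ∈ qList, mulK q 9 = mulK 9 q → mulK q 6 = mulK 6 q := by decide +kernel
    exact this q₁ hq₁ c₁
  obtain ⟨a, ha', hae⟩ := img_fix₁ q₁ hq₁ cc₁ n₁ m₁ r₁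
  obtain ⟨b, hb, hbe⟩ := img_inv₂ q₂ hq₂ c₂ n₂ m₂ r₂
  have hk : mulK a b < 288 := by fin_cases ha' <;> fin_cases hb <;> decide +kernel
  obtain ⟨h1, f144, f6, f24, f1⟩ := K.adjust hh (k := mulK a b) (t₁ := 24) (t₂ := 13) hk (by norm_num)
    (by norm_num) (by norm_num) (by norm_num) ha.1 ha.2 e₁ e₂
    (by fin_cases ha' <;> fin_cases hb <;> decide +kernel)
    (by fin_cases ha' <;> fin_cases hb <;> decide +kernel)
    (by rw [← hae]; fin_cases ha' <;> fin_cases hb <;> decide +kernel)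
    (by rw [← hbe]; fin_cases ha' <;> fin_cases hb <;> decide +kernel)
  obtain ⟨k, x1, x2, x3⟩ := K.no_diag_aux P h1 (p₁ := 13) (p₂ := mulK (cj 144 24) (cj 9 13))
    (p₂₅ := mulK 24 13) (by norm_num) (by decide +kernel) (by decide +kernel) f1
    (by
      rw [show (175 : ℕ) = mulK (cj 144 24) (cj 6 1) by decide +kernel]
      exact K.conj_mulK (by decide +kernel) (by decide +kernel) (by decide +kernel) (by decide +kernel)
        (K.conj_cj (by norm_num) (by norm_num) (by norm_num) (by norm_num) f144 f24)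
        (K.conj_cj (by norm_num) (by norm_num) (by norm_num) (by norm_num) f6 f1))
    (by
      rw [show (25 : ℕ) = mulK 24 1 by decide +kernel]
      exact K.conj_mulK (by norm_num) (by norm_num) (by norm_num) (by norm_num) f24 f1)
  exact no_diag₂ k (by rw [show pk 1 (sRef 1) = mulK 24 13 by decide +kernel]; exact x1)
    (by rw [show pk 0 (sRef 1) = 13 by decide +kernel]; exact x2)
    (by rw [show pk 7 (sRef 7) = mulK (cj 144 24) (cj 9 13) by decide +kernel]; exact x3)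

theorem no_rotation (P : PairD K) {h : G} (hh : Commute h z) {p : ℕ × ℕ} (ha : K.ActsAs h p)
    (hp : p = (6, 216) ∨ p = (9, 144)) : False := by
  obtain ⟨l, hl, e⟩ := P.sq_mem_sub hh
  have e' : (h * h) * K.ι 144 * (h * h)⁻¹ = K.ι 216 := by
    obtain ⟨a1, a2⟩ := ha
    rcases hp with rfl | rfl
    · calc _ = h * (h * K.ι 144 * h⁻¹) * h⁻¹ := by group
        _ = K.ι 216 := by rw [a1]; exact a2
    · calc _ = h * (h * K.ι 144 * h⁻¹) * h⁻¹ := by group
        _ = h * K.ι (mulK 6 6) * h⁻¹ := by rw [a1, show mulK 6 6 = 9 by decide +kernel]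
        _ = K.ι (mulK 144 144) := K.conj_mulK (by norm_num) (by norm_num) (by norm_num) (by norm_num) a2 a2
        _ = K.ι 216 := by rw [show mulK 144 144 = 216 by decide +kernel]
  rw [e, ← K.ι_cj hl (by norm_num)] at e'
  exact no_inverter ⟨l, hl⟩ (Or.inl (K.ι_inj (CP.cj_lt hl (by norm_num)) (by norm_num) e'))

theorem four_types (P : PairD K) {h : G} (hh : Commute h z) :
    ∃ k, k < 288 ∧ ∃ p ∈ [((144 : ℕ), (6 : ℕ)), (216, 9), (6, 144), (9, 216)], K.ActsAs (K.ι k * h) p := by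
  obtain ⟨k, hk, p, hp, ha⟩ := K.exists_mono hh
  have hh' : Commute (K.ι k * h) z := (K.k_cent k hk).mul_left hh
  refine ⟨k, hk, p, ?_, ha⟩
  fin_cases hp
  · simp
  · simp
  · simp
  · simp
  · exact absurd (K.no_half_inverter₁ P hh' ha) id
  · exact absurd (K.no_half_inverter₂ P hh' ha) id
  · exact absurd (K.no_rotation P hh' ha (Or.inl rfl)) id
  · exact absurd (K.no_rotation P hh' ha (Or.inr rfl)) id

theorem not_two_cosets {h₀ : G} : ∃ h, Commute h z ∧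
    ∀ k, k < 288 → h ≠ K.ι k ∧ h ≠ K.ι k * h₀ := by
  classical
  by_contra hc
  push Not at hc
  set S := (Finset.range 288).image K.ι ∪ (Finset.range 288).image (fun k => K.ι k * h₀)
  have hsub : ((centralizer ({z} : Set G) : Subgroup G) : Set G) ⊆ ↑S := by
    intro h hh
    obtain ⟨k, hk, hne⟩ := hc h (mem_centralizer_singleton_iff.1 hh)
    simp only [S, Finset.coe_union, Finset.coe_image, Finset.coe_range, Set.mem_union, Set.mem_image, Set.mem_Iio]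
    by_cases h1 : h = K.ι k
    · exact Or.inl ⟨k, hk, h1.symm⟩
    · exact Or.inr ⟨k, hk, (hne h1).symm⟩
  have h1 := Set.ncard_le_ncard hsub
  rw [Set.ncard_coe_finset, ← Nat.card_coe_set_eq] at h1
  have h2 : S.card ≤ 576 := (Finset.card_union_le _ _).trans
    (Nat.add_le_add (Finset.card_image_le.trans (le_of_eq (Finset.card_range _)))
      (Finset.card_image_le.trans (le_of_eq (Finset.card_range _))))
  have h3 := K.card_cent
  change Nat.card ↥((centralizer ({z} : Set G) : Subgroup G) : Set G) = 1152 at h3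
  omega

theorem ActsAs.comp {h h' : G} {p : ℕ × ℕ} (ha : K.ActsAs h p) (ha' : K.ActsAs h' p) (hh : Commute h z)
    (hh' : Commute h' z) : ∃ k, k < 288 ∧ h' = K.ι k * h := by
  have hid : K.ActsAs (h⁻¹ * h') (144, 6) := by
    obtain ⟨a1, a2⟩ := ha
    obtain ⟨b1, b2⟩ := ha'
    constructor
    · calc h⁻¹ * h' * K.ι 144 * (h⁻¹ * h')⁻¹ = h⁻¹ * (h' * K.ι 144 * h'⁻¹) * h := by group
        _ = K.ι 144 := by rw [b1, ← a1]; group
    · calc h⁻¹ * h' * K.ι 6 * (h⁻¹ * h')⁻¹ = h⁻¹ * (h' * K.ι 6 * h'⁻¹) * h := by group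
        _ = K.ι 6 := by rw [b2, ← a2]; group
  obtain ⟨k, hk, e⟩ := K.fix_acts (hh.inv_left.mul_left hh') hid
  obtain ⟨l, hl, e'⟩ := K.normal h hh k hk
  exact ⟨l, hl, by rw [← e', ← e]; group⟩

theorem exists_outer (P : PairD K) :
    (∃ t, Commute t z ∧ K.Maps t 216 9 36 13) ∧ ∃ s, Commute s z ∧ K.Maps s 6 144 1 24 := by
  have typeOf : ∀ h₀ : G, Commute h₀ z → ∀ p₀, K.ActsAs h₀ p₀ → ∃ h, Commute h z ∧
      ∃ p ∈ [((216 : ℕ), (9 : ℕ)), (6, 144), (9, 216)], p ≠ p₀ ∧ K.ActsAs h p := by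
    intro h₀ hh₀ p₀ ha₀
    obtain ⟨h, hh, hne⟩ := K.not_two_cosets (h₀ := h₀)
    obtain ⟨k, hk, p, hp, ha⟩ := K.four_types P hh
    have hh' : Commute (K.ι k * h) z := (K.k_cent k hk).mul_left hh
    refine ⟨_, hh', p, ?_, ?_, ha⟩
    · simp only [List.mem_cons, List.not_mem_nil, or_false] at hp ⊢
      rcases hp with rfl | hp
      · obtain ⟨l, hl, e⟩ := K.fix_acts hh' ha
        refine absurd ?_ (hne (mulK (iK k) l) (mulK_lt (iK_spec ⟨k, hk⟩).2 hl)).1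
        rw [K.ι_mul (iK_spec ⟨k, hk⟩).2 hl, K.ι_iK hk, ← e]; group
      · exact hp
    · rintro rfl
      obtain ⟨l, hl, e⟩ := ActsAs.comp K ha₀ ha hh₀ hh'
      refine hne (mulK (iK k) l) (mulK_lt (iK_spec ⟨k, hk⟩).2 hl) |>.2 ?_
      rw [K.ι_mul (iK_spec ⟨k, hk⟩).2 hl, K.ι_iK hk, mul_assoc, ← e]; group
  have hid : K.ActsAs (1 : G) (144, 6) := ⟨by group, by group⟩
  obtain ⟨a, ha, p, hp, -, hap⟩ := typeOf 1 (Commute.one_left z) _ hid
  obtain ⟨b, hb, q, hq, hqp, hbq⟩ := typeOf a ha p hap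
  -- products
  have comp : ∀ {x y : G} {p q r : ℕ × ℕ}, K.ActsAs x p → K.ActsAs y q →
      x * K.ι q.1 * x⁻¹ = K.ι r.1 → x * K.ι q.2 * x⁻¹ = K.ι r.2 → K.ActsAs (x * y) r := by
    intro x y p q r _ hy e1 e2
    exact ⟨by rw [← e1, ← hy.1]; group, by rw [← e2, ← hy.2]; group⟩
  have sq : ∀ {x : G} {u v : ℕ}, u < 288 → v < 288 → x * K.ι u * x⁻¹ = K.ι v →
      x * K.ι (mulK u u) * x⁻¹ = K.ι (mulK v v) := fun hu hv e => K.conj_mulK hu hu hv hv e e
  have s144 : mulK 144 144 = 216 := by decide +kernel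
  have s216 : mulK 216 216 = 144 := by decide +kernel
  have s6 : mulK 6 6 = 9 := by decide +kernel
  have s9 : mulK 9 9 = 6 := by decide +kernel
  have hT : ∀ {x y : G}, K.ActsAs x (6, 144) → K.ActsAs y (9, 216) → K.ActsAs (x * y) (216, 9) := by
    intro x y hx hy
    refine comp hx hy ?_ ?_
    · have := sq (x := x) (by norm_num) (by norm_num) hx.2; rwa [s6, s144] at this
    · have := sq (x := x) (by norm_num) (by norm_num) hx.1; rwa [s144, s6] at this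
  have hS : ∀ {x y : G}, K.ActsAs x (216, 9) → K.ActsAs y (9, 216) → K.ActsAs (x * y) (6, 144) := by
    intro x y hx hy
    refine comp hx hy ?_ ?_
    · have := sq (x := x) (by norm_num) (by norm_num) hx.2; rwa [s6, s9] at this
    · have := sq (x := x) (by norm_num) (by norm_num) hx.1; rwa [s144, s216] at this
  simp only [List.mem_cons, List.not_mem_nil, or_false] at hp hq
  rcases hp with rfl | rfl | rfl <;> rcases hq with rfl | rfl | rfl
  all_goals first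
    | exact absurd rfl hqp
    | exact ⟨K.exists_invert_maps ha hap, K.exists_swap_maps hb hbq⟩
    | exact ⟨K.exists_invert_maps hb hbq, K.exists_swap_maps ha hap⟩
    | exact ⟨K.exists_invert_maps ha hap, K.exists_swap_maps (ha.mul_left hb) (hS hap hbq)⟩
    | exact ⟨K.exists_invert_maps hb hbq, K.exists_swap_maps (hb.mul_left ha) (hS hbq hap)⟩
    | exact ⟨K.exists_invert_maps (ha.mul_left hb) (hT hap hbq), K.exists_swap_maps ha hap⟩
    | exact ⟨K.exists_invert_maps (hb.mul_left ha) (hT hbq hap), K.exists_swap_maps hb hbq⟩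

end KData

end Cfsg.Agent.U43T
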