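import Cfsg.Agent.Lib.U43T.UFour

/-!
The count giving the order of the centraliser of `150`.
-/

set_option autoImplicit false
set_option linter.unusedSectionVars false

namespace Cfsg.Agent.U43T

open Subgroup

variable {G : Type*} [Group G] [Finite G] {z z₀ : G}

namespace Cycle

variable {F : Frame z} (C : Cycle F)

/-- The inverted part of `esub` as a subgroup. -/
def einv (S : Setting z₀) : Subgroup G where
  carrier := {e | e ∈ F.esub ∧ z * e * z⁻¹ = e⁻¹}
  one_mem' := ⟨one_mem _, by simp⟩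
  mul_mem' := fun {x y} ⟨hx, hxi⟩ ⟨hy, hyi⟩ => ⟨mul_mem hx hy, by
    rw [← conj_mul, hxi, hyi, mul_inv_rev, (C.esub_comm S (inv_mem hy) (inv_mem hx)).eq]⟩
  inv_mem' := fun {x} ⟨hx, hxi⟩ => ⟨inv_mem hx, by rw [← conj_inv, hxi]⟩

theorem card_einv (S : Setting z₀) : Nat.card (C.einv S) = 9 :=
  ((Nat.card_coe_set_eq _).trans (C.ncard_inverted S) :)

theorem axis_cent (S : Setting z₀) {x : G} (hx : x ∈ F.cu) (ho : Odd (orderOf x)) (hc : Commute x C.xt) :
    x ∈ F.esub := by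
  have h : Commute (C.n⁻¹ * x * C.n) (F.f 153) := by
    show _ = _
    calc C.n⁻¹ * x * C.n * F.f 153 = C.n⁻¹ * (x * C.xt) * C.n := by rw [xt]; group
      _ = _ := by rw [hc.eq, xt]; group
  have hm : C.n⁻¹ * x * C.n ∈ F.cu := mul_mem (mul_mem (inv_mem C.n_mem_cu) hx) C.n_mem_cu
  have ho' : Odd (orderOf (C.n⁻¹ * x * C.n)) := by
    have e := orderOf_conj' C.n⁻¹ x
    rw [inv_inv] at e
    rw [e]; exact ho
  have := C.n_esub S (F.mem_esub.2 ⟨F.psub_cent x_mem x153_not_u (F.mem_cu.1 hm) h, ho'⟩)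
  simpa [mul_assoc] using this

include C in
theorem card_jset (S : Setting z₀) {a : G} (ha : a ∈ F.regSet) :
    {j | j ∈ F.tor a ∧ z * j * z⁻¹ = j⁻¹ ∧ j ^ 243 = 1}.ncard ≤ 3 := by
  have hsub : {j | j ∈ F.tor a ∧ z * j * z⁻¹ = j⁻¹ ∧ j ^ 243 = 1} ⊆
      ((C.einv S ⊓ centralizer ({a} : Set G) : Subgroup G) : Set G) := by
    rintro j ⟨hj, hji, hj3⟩
    refine ⟨⟨C.three_inv S ⟨(F.mem_tor.1 hj).1, RankOne.odd_orderOf (C.tor_odd S ha) hj, hji⟩ (k := 5)
      (by simpa using hj3), hji⟩, mem_centralizer_singleton_iff.2 (F.mem_tor.1 hj).2⟩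
  refine (Set.ncard_le_ncard hsub (Set.toFinite _)).trans ?_
  rw [← Nat.card_coe_set_eq]
  have hdvd : Nat.card ↥(C.einv S ⊓ centralizer ({a} : Set G)) ∣ 3 ^ 2 := by
    have := card_dvd_of_le (inf_le_left : C.einv S ⊓ centralizer ({a} : Set G) ≤ C.einv S)
    rw [C.card_einv S] at this
    simpa using this
  obtain ⟨i, hi, e⟩ := (Nat.dvd_prime_pow Nat.prime_three).1 hdvd
  show Nat.card ↥(C.einv S ⊓ centralizer ({a} : Set G)) ≤ 3
  rw [e]
  interval_cases i
  · norm_num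
  · norm_num
  · exfalso
    have heq := eq_of_le_of_card_ge (inf_le_left : C.einv S ⊓ centralizer ({a} : Set G) ≤ C.einv S)
      (by rw [e, C.card_einv S]; norm_num)
    have hxt : C.xt ∈ C.einv S := ⟨C.xt_mem_esub S, C.xt_rel.2.1⟩
    rw [← heq] at hxt
    exact C.reg_not_esub S ha (C.axis_cent S ha.1.1 ha.1.2.1
      (show Commute C.xt a from mem_centralizer_singleton_iff.1 hxt.2).symm)

include C in
/-- The order of the centraliser of `150`. -/
theorem card_cu_eq (S : Setting z₀) : Nat.card F.cu = 972 := by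
  classical
  haveI := Fintype.ofFinite G
  haveI := Fintype.ofFinite (Subgroup G)
  obtain ⟨T0⟩ := C.exists_sylU S
  set E9 := {e | e ∈ F.esub ∧ z * e * z⁻¹ = e⁻¹} with hE9
  set rest := invSet F.cu z \ E9 with hrest
  -- the order
  have h36 := C.card_in le_rfl (fun _ h _ => h) C.n_mem_cu
  rw [C.ncard_invol_in S le_rfl F.lu_le_cu] at h36
  obtain ⟨r, hr⟩ : 972 ∣ Nat.card F.cu := C.card_lu S ▸ card_dvd_of_le F.lu_le_cu
  -- parts of order prime to three
  have hreg : ∀ w ∈ rest, w ^ 243 ∈ F.regSet ∧ w ∈ F.tor (w ^ 243) := by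
    rintro w ⟨hw, hwE⟩
    have hwE' : w ∉ F.esub := fun h => hwE ⟨h, hw.2.2⟩
    refine ⟨⟨pow_mem_invSet hw 243, fun e => hwE' (C.three_inv S hw (k := 5) (by simpa using e)), ?_⟩,
      F.mem_tor.2 ⟨hw.1, Commute.self_pow w 243⟩⟩
    refine Nat.coprime_comm.1 (Nat.prime_three.coprime_iff_not_dvd.2 fun h3 => T0.not729 ?_)
    have h1 : orderOf w ∣ Nat.card F.cu := by
      rw [← Subgroup.orderOf_mk w hw.1]; exact orderOf_dvd_natCard _
    refine dvd_trans ?_ h1
    rw [orderOf_pow] at h3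
    obtain ⟨q, hq⟩ := h3
    have hg : Nat.gcd (orderOf w) 243 ∣ 3 ^ 5 := Nat.gcd_dvd_right _ _
    obtain ⟨i, hi, ei⟩ := (Nat.dvd_prime_pow Nat.prime_three).1 hg
    have e : orderOf w = Nat.gcd (orderOf w) 243 * (3 * q) := by
      rw [← hq, Nat.mul_div_cancel' (Nat.gcd_dvd_left _ _)]
    by_cases hi5 : i = 5
    · rw [e, ei, hi5, show (729 : ℕ) = 3 ^ 5 * 3 by norm_num]
      exact Nat.mul_dvd_mul_left _ (dvd_mul_right 3 q)
    · exfalso
      have h3' : 3 ^ (i + 1) ∣ Nat.gcd (orderOf w) 243 := by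
        refine Nat.dvd_gcd ?_ (show 3 ^ (i + 1) ∣ 3 ^ 5 from pow_dvd_pow 3 (by omega))
        rw [e, ei, pow_succ]
        exact Nat.mul_dvd_mul_left _ (dvd_mul_right 3 q)
      rw [ei] at h3'
      exact absurd (Nat.le_of_dvd (by positivity) h3') (by simp [pow_succ])
  set τ : G → Subgroup G := fun w => F.tor (w ^ 243) with hτ
  set Q := F.cu ⊓ centralizer ({z} : Set G) with hQ
  set orb : Subgroup G → Finset (Subgroup G) := fun T =>
    (Q : Set G).toFinite.toFinset.image (fun g => T.map (MulAut.conj g).toMonoidHom) with horb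
  set RF := rest.toFinite.toFinset with hRF
  set TT := RF.image τ with hTT
  set OO := TT.image orb with hOO
  have hmem_orb : ∀ T, T ∈ orb T := fun T =>
    Finset.mem_image.2 ⟨1, by simp [hQ], by ext x; simp⟩
  have horb_eq : ∀ {T : Subgroup G} {g : G}, g ∈ Q → orb (T.map (MulAut.conj g).toMonoidHom) = orb T := by
    intro T g hg
    have comp : ∀ g h : G, (T.map (MulAut.conj g).toMonoidHom).map (MulAut.conj h).toMonoidHom =
        T.map (MulAut.conj (h * g)).toMonoidHom := fun g h => by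
      rw [Subgroup.map_map]
      congr 1
      ext x; simp [MulAut.conj_apply, mul_assoc]
    ext U
    simp only [horb, Finset.mem_image, Set.Finite.mem_toFinset, SetLike.mem_coe]
    constructor
    · rintro ⟨h, hh, rfl⟩
      exact ⟨h * g, mul_mem hh hg, (comp g h).symm⟩
    · rintro ⟨h, hh, rfl⟩
      exact ⟨h * g⁻¹, mul_mem hh (inv_mem hg), by rw [comp, inv_mul_cancel_right]⟩
  -- representatives
  have hrep : ∀ O ∈ OO, ∃ a : G, a ∈ F.regSet ∧ O = orb (F.tor a) := by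
    intro O hO
    simp only [hOO, hTT, Finset.mem_image] at hO
    obtain ⟨T, ⟨w, hw, rfl⟩, rfl⟩ := hO
    exact ⟨w ^ 243, (hreg w (by simpa [hRF] using hw)).1, rfl⟩
  choose! rep hrep1 hrep2 using hrep
  set q : Finset (Subgroup G) → ℕ := fun O => (F.qSet (F.tor (rep O))).ncard with hq
  -- products
  have hcop : ∀ O₁ ∈ OO, ∀ O₂ ∈ OO, O₁ ≠ O₂ → Nat.Coprime (q O₁) (q O₂) := by
    intro O₁ h₁ O₂ h₂ hne
    by_contra hnc
    obtain ⟨p, hp, hp1, hp2⟩ := Nat.Prime.not_coprime_iff_dvd.1 hnc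
    haveI : Fact p.Prime := ⟨hp⟩
    obtain ⟨g, hg, e⟩ := C.tor_conj S (hrep1 _ h₁) (hrep1 _ h₂) hp1 hp2
    exact hne (by rw [hrep2 _ h₁, hrep2 _ h₂, ← e, horb_eq hg])
  obtain ⟨hprod, hsum⟩ := prod_dvd_and_sum_le OO q r (fun O hO => (C.qSet_dvd S (hrep1 O hO)).1) (fun O hO => by
    obtain ⟨-, h2, hodd, hc3⟩ := C.qSet_dvd S (hrep1 O hO)
    rw [hr] at h2
    refine Nat.Coprime.dvd_of_dvd_mul_left ?_ h2
    rw [show (972 : ℕ) = 2 ^ 2 * 3 ^ 5 by norm_num]
    exact Nat.Coprime.mul_right ((Nat.coprime_two_right.2 hodd).pow_right 2) (hc3.pow_right 5)) hcop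
  -- fibres
  have hfib : ∀ T ∈ TT, ∀ a ∈ F.regSet, F.tor a = T →
      (RF.filter fun w => τ w = T).card ≤ 3 * ((F.qSet T).ncard - 1) := by
    intro T _ a ha haT
    subst haT
    have hqd := (C.qSet_dvd S ha)
    set J := {j | j ∈ F.tor a ∧ z * j * z⁻¹ = j⁻¹ ∧ j ^ 243 = 1} with hJ
    obtain ⟨k, hk⟩ : ∃ k : G → ℕ, ∀ x : G, Nat.Coprime (orderOf x) 3 → x ^ (243 * k x) = x := by
      refine ⟨fun x => if h : Nat.Coprime (orderOf x) 3 ∧ 1 < orderOf x then
        (Nat.exists_mul_mod_eq_one_of_coprime (h.1.symm.pow_left 5) h.2).choose else 0, fun x hx => ?_⟩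
      by_cases h1 : 1 < orderOf x
      · dsimp only
        rw [dif_pos ⟨hx, h1⟩]
        obtain ⟨-, h2⟩ := (Nat.exists_mul_mod_eq_one_of_coprime (hx.symm.pow_left 5) h1).choose_spec
        rw [← pow_mod_orderOf, show (243 : ℕ) = 3 ^ 5 by norm_num, h2, pow_one]
      · have := orderOf_pos x
        rw [orderOf_eq_one_iff.1 (show orderOf x = 1 by omega), one_pow]
    set φ : G → G × G := fun w => (w ^ 243, ((w ^ 243) ^ k (w ^ 243))⁻¹ * w) with hφ
    have hinj : Set.InjOn φ ↑(RF.filter fun w => τ w = F.tor a) := by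
      intro w _ w' _ e
      simp only [hφ, Prod.mk.injEq] at e
      rw [e.1] at e
      exact mul_left_cancel e.2
    have hmap : ∀ w ∈ RF.filter (fun w => τ w = F.tor a), φ w ∈ ((F.qSet (F.tor a)) \ {1}) ×ˢ J := by
      intro w hw
      simp only [Finset.mem_filter, hRF, Set.Finite.mem_toFinset] at hw
      obtain ⟨hw, hwT⟩ := hw
      obtain ⟨hr1, hwt⟩ := hreg w hw
      simp only [hτ] at hwT
      rw [hwT] at hwt
      have ha243 : w ^ 243 ∈ F.tor a := pow_mem hwt 243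
      refine ⟨⟨⟨ha243, hr1.1.2.2, hr1.2.2⟩, hr1.2.1⟩, mul_mem (inv_mem (pow_mem ha243 _)) hwt, ?_, ?_⟩
      · rw [← conj_mul, hw.1.2.2, show z * ((w ^ 243) ^ k (w ^ 243))⁻¹ * z⁻¹ = ((w ^ 243) ^ k (w ^ 243)) by
          rw [← conj_inv, ← conj_pow, hr1.1.2.2, inv_pow, inv_inv]]
        rw [mul_inv_rev, inv_inv]
        exact (((Commute.self_pow w 243).pow_right (k (w ^ 243))).inv_left).eq.symm
      · rw [(((Commute.self_pow w 243).pow_right (k (w ^ 243))).inv_right).symm.mul_pow, inv_pow,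
          ← pow_mul, mul_comm, hk _ hr1.2.2, inv_mul_cancel]
    have hle := Finset.card_le_card_of_injOn φ (t := (((F.qSet (F.tor a)) \ {1}) ×ˢ J).toFinite.toFinset)
      (fun w hw => by simpa using hmap w hw) hinj
    rw [← Set.ncard_eq_toFinset_card, Set.ncard_prod,
      Set.ncard_sdiff_singleton_of_mem (show (1 : G) ∈ F.qSet (F.tor a) from ⟨one_mem _, by simp, by simp⟩)] at hle
    exact hle.trans ((Nat.mul_le_mul_left _ (C.card_jset S ha)).trans_eq (mul_comm _ _))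
  -- invariance of `q`
  have hqinv : ∀ O ∈ OO, ∀ T ∈ O, ∃ a ∈ F.regSet, F.tor a = T ∧ (F.qSet T).ncard = q O := by
    intro O hO T hT
    rw [hrep2 O hO] at hT
    simp only [horb, Finset.mem_image, Set.Finite.mem_toFinset, SetLike.mem_coe] at hT
    obtain ⟨g, hg, rfl⟩ := hT
    have hgz : Commute g z := mem_centralizer_singleton_iff.1 hg.2
    obtain ⟨hainv, ha1, hac⟩ := hrep1 O hO
    have hi : ∀ {x : G}, z * x * z⁻¹ = x⁻¹ → z * (g * x * g⁻¹) * z⁻¹ = (g * x * g⁻¹)⁻¹ := by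
      intro x hx
      rw [show z * (g * x * g⁻¹) * z⁻¹ = (z * g) * x * (z * g)⁻¹ by group, ← hgz.eq,
        show g * z * x * (g * z)⁻¹ = g * (z * x * z⁻¹) * g⁻¹ by group, hx, conj_inv]
    refine ⟨g * rep O * g⁻¹, ⟨⟨mul_mem (mul_mem hg.1 hainv.1) (inv_mem hg.1), by rw [orderOf_conj']; exact hainv.2.1,
      hi hainv.2.2⟩, fun e => ha1 (conj_eq_one_iff.1 e), by rwa [orderOf_conj']⟩, (map_tor hg.1).symm, ?_⟩
    rw [hq]
    refine (Set.ncard_congr (fun x _ => g * x * g⁻¹) ?_ (fun a b _ _ h => mul_left_cancel (mul_right_cancel h)) ?_).symm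
    · rintro x ⟨hx, hxi, hxc⟩
      exact ⟨⟨x, hx, rfl⟩, hi hxi, by rwa [orderOf_conj']⟩
    · rintro _ ⟨⟨x, hx, rfl⟩, hxi, hxc⟩
      simp only [MulEquiv.coe_toMonoidHom, MulAut.conj_apply] at hxi hxc ⊢
      rw [orderOf_conj'] at hxc
      refine ⟨x, ⟨hx, ?_, hxc⟩, rfl⟩
      calc z * x * z⁻¹ = g⁻¹ * (z * (g * x * g⁻¹) * z⁻¹) * g := by
            rw [show z * (g * x * g⁻¹) * z⁻¹ = (z * g) * x * (z * g)⁻¹ by group, ← hgz.eq]; group
        _ = x⁻¹ := by rw [hxi]; group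
  -- orbits have at most six members
  have horb6 : ∀ O ∈ OO, O.card ≤ 6 := by
    intro O hO
    obtain ⟨hainv, ha1, hac⟩ := hrep1 O hO
    rw [hrep2 O hO, horb]
    dsimp only
    set a := rep O with hadef
    have hu : F.f 150 ∈ F.tor a := F.mem_tor.2 ⟨F.psub_le_cu u_mem, (F.mem_cu.1 hainv.1).symm⟩
    have hfix : ∀ v ∈ zpowers (F.f 150 * z), (F.tor a).map (MulAut.conj v).toMonoidHom = F.tor a := by
      intro v hv
      have hN : F.f 150 * z ∈ normalizer (F.tor a : Set G) := by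
        refine mul_mem (le_normalizer hu) (mem_normalizer_iff.2 fun x => ⟨fun hx => tor_norm ⟨hainv, ha1, hac⟩ hx,
          fun hx => ?_⟩)
        have := tor_norm ⟨hainv, ha1, hac⟩ hx
        rwa [show z * (z * x * z⁻¹) * z⁻¹ = x by
          calc z * (z * x * z⁻¹) * z⁻¹ = (z * z) * x * (z * z)⁻¹ := by group
            _ = x := by rw [F.centre_sq]; group] at this
      have hv' := (zpowers_le.2 hN) hv
      ext x
      constructor
      · rintro ⟨y, hy, rfl⟩
        exact (mem_normalizer_iff.1 hv' y).1 hy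
      · intro hx
        exact ⟨v⁻¹ * x * v, (mem_normalizer_iff.1 hv' _).2 (by simpa [mul_assoc] using hx), by simp [mul_assoc]⟩
    have hle : zpowers (F.f 150 * z) ≤ Q := zpowers_le.2 (mul_mem
      (mem_inf.2 ⟨F.psub_le_cu u_mem, mem_centralizer_singleton_iff.2 (F.psub_z u_mem)⟩)
      (mem_inf.2 ⟨F.z_mem_cu, mem_centralizer_singleton_iff.2 rfl⟩))
    have h6 : Nat.card (zpowers (F.f 150 * z)) = 6 := by
      rw [Nat.card_zpowers, (F.psub_z u_mem).orderOf_mul_eq_mul_orderOf_of_coprime (by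
        rw [orderOf_cube F.u_code.1 F.u_code.2, F.orderOf_centre]; decide),
        orderOf_cube F.u_code.1 F.u_code.2, F.orderOf_centre]
    have hmul : ∀ O' ∈ (Q : Set G).toFinite.toFinset.image (fun g => (F.tor a).map (MulAut.conj g).toMonoidHom),
        6 ≤ ((Q : Set G).toFinite.toFinset.filter fun g => (F.tor a).map (MulAut.conj g).toMonoidHom = O').card := by
      intro O' hO'
      obtain ⟨g, hg, rfl⟩ := Finset.mem_image.1 hO'
      simp only [Set.Finite.mem_toFinset, SetLike.mem_coe] at hg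
      refine le_trans ?_ (Finset.card_le_card_of_injOn (fun v => g * v) ?_
        (fun x _ y _ h => mul_left_cancel h) (s := (zpowers (F.f 150 * z) : Set G).toFinite.toFinset))
      · rw [← Set.ncard_eq_toFinset_card, ← Nat.card_coe_set_eq]; exact h6.ge
      · intro v hv
        simp only [Finset.coe_filter, Set.Finite.coe_toFinset, Set.Finite.mem_toFinset, SetLike.mem_coe,
          Set.mem_ofPred_eq] at hv ⊢
        refine ⟨mul_mem hg (hle hv), ?_⟩
        rw [show (MulAut.conj (g * v)).toMonoidHom =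
          (MulAut.conj g).toMonoidHom.comp (MulAut.conj v).toMonoidHom by ext x; simp [mul_assoc], ← Subgroup.map_map,
          hfix v hv]
    have := Finset.mul_card_image_le_card_of_maps_to (s := (Q : Set G).toFinite.toFinset)
      (t := (Q : Set G).toFinite.toFinset.image (fun g => (F.tor a).map (MulAut.conj g).toMonoidHom))
      (f := fun g => (F.tor a).map (MulAut.conj g).toMonoidHom) (fun g hg => Finset.mem_image_of_mem _ hg) 6 hmul
    rw [← Set.ncard_eq_toFinset_card, ← Nat.card_coe_set_eq] at this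
    have h36' : Nat.card ↥Q = 36 := F.card_cu_centre
    change 6 * _ ≤ Nat.card ↥Q at this
    omega
  -- the sum
  have hR : RF.card ≤ 18 * ∑ O ∈ OO, (q O - 1) := by
    rw [Finset.card_eq_sum_card_fiberwise (f := fun w => orb (τ w)) (t := OO)
      (fun w hw => Finset.mem_image_of_mem _ (Finset.mem_image_of_mem _ hw)), Finset.mul_sum]
    refine Finset.sum_le_sum fun O hO => ?_
    rw [Finset.card_eq_sum_card_fiberwise (f := τ) (t := O.filter (· ∈ TT)) (fun w hw => by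
      simp only [Finset.coe_filter, Set.mem_ofPred_eq] at hw ⊢
      exact ⟨hw.2 ▸ hmem_orb (τ w), Finset.mem_image_of_mem τ hw.1⟩)]
    refine le_trans (Finset.sum_le_card_nsmul _ _ (3 * (q O - 1)) fun T hT => ?_) ?_
    · obtain ⟨hTO, hTT'⟩ := Finset.mem_filter.1 hT
      obtain ⟨a, ha, e, eq⟩ := hqinv O hO T hTO
      rw [← eq]
      refine le_trans (Finset.card_le_card ?_) (hfib T hTT' a ha e)
      intro w hw
      simp only [Finset.mem_filter] at hw ⊢
      exact ⟨hw.1.1, hw.2⟩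
    · rw [smul_eq_mul]
      have := Nat.mul_le_mul_right (3 * (q O - 1)) ((Finset.card_filter_le O (· ∈ TT)).trans (horb6 O hO))
      linarith
  have hrest' : RF.card = rest.ncard := (Set.ncard_eq_toFinset_card _ _).symm
  rw [← hrest, hr] at h36
  have hr0 : 1 ≤ r := by omega
  have hle := Nat.le_of_dvd hr0 hprod
  omega

end Cycle

end Cfsg.Agent.U43T
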