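import Cfsg.Agent.Lib.U43T.UThree

/-!
The centraliser of an element of order three commuting with a four group has order 972.
-/

set_option autoImplicit false
set_option linter.unusedSectionVars false

namespace Cfsg.Agent.U43T

open Subgroup

variable {G : Type*} [Group G] [Finite G] {z z₀ : G}

/-- Coprime factors dividing a number. -/
theorem prod_dvd_and_sum_le {ι : Type*} (s : Finset ι) (f : ι → ℕ) (r : ℕ) (h1 : ∀ i ∈ s, 1 ≤ f i)
    (h : ∀ i ∈ s, f i ∣ r) (hc : ∀ i ∈ s, ∀ j ∈ s, i ≠ j → Nat.Coprime (f i) (f j)) :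
    (∏ i ∈ s, f i) ∣ r ∧ ∑ i ∈ s, (f i - 1) + 1 ≤ ∏ i ∈ s, f i := by
  classical
  induction s using Finset.induction with
  | empty => simp
  | insert a s ha ih =>
    obtain ⟨d, hd⟩ := ih (fun i hi => h1 i (Finset.mem_insert_of_mem hi)) (fun i hi => h i (Finset.mem_insert_of_mem hi))
      (fun i hi j hj => hc i (Finset.mem_insert_of_mem hi) j (Finset.mem_insert_of_mem hj))
    rw [Finset.prod_insert ha, Finset.sum_insert ha]
    refine ⟨Nat.Coprime.mul_dvd_of_dvd_of_dvd ?_ (h a (Finset.mem_insert_self a s)) d, ?_⟩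
    · exact Nat.Coprime.prod_right fun j hj => hc a (Finset.mem_insert_self a s) j (Finset.mem_insert_of_mem hj)
        (fun e => ha (e ▸ hj))
    · have ha1 := h1 a (Finset.mem_insert_self a s)
      have h2 : 1 ≤ ∏ i ∈ s, f i := le_trans (Nat.le_add_left 1 _) hd
      obtain ⟨p, hp⟩ := Nat.exists_eq_add_of_le h2
      obtain ⟨q, hq⟩ := Nat.exists_eq_add_of_le ha1
      rw [hq, hp, Nat.add_sub_cancel_left]
      rw [hp] at hd
      nlinarith

namespace Frame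

variable (F : Frame z)

/-- The centraliser of an element inside the centraliser of `150`. -/
def tor (a : G) : Subgroup G := F.cu ⊓ centralizer ({a} : Set G)

theorem mem_tor {a x : G} : x ∈ F.tor a ↔ x ∈ F.cu ∧ Commute x a := by
  rw [tor, mem_inf, mem_centralizer_singleton_iff]; rfl

/-- The inverted elements of order prime to three. -/
def regSet : Set G := {a | a ∈ invSet F.cu z ∧ a ≠ 1 ∧ Nat.Coprime (orderOf a) 3}

/-- The inverted part of order prime to three of a subgroup. -/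
def qSet (_F : Frame z) (T : Subgroup G) : Set G :=
  {x | x ∈ T ∧ z * x * z⁻¹ = x⁻¹ ∧ Nat.Coprime (orderOf x) 3}

end Frame

theorem coprime_three_pow {x : G} (hc : Nat.Coprime (orderOf x) 3) {k : ℕ} (h : x ^ 3 ^ k = 1) : x = 1 :=
  orderOf_eq_one_iff.1 (Nat.Coprime.eq_one_of_dvd (hc.pow_right k) (orderOf_dvd_of_pow_eq_one h))

theorem orderOf_conj' (g x : G) : orderOf (g * x * g⁻¹) = orderOf x := by
  simpa using orderOf_injective (MulAut.conj g).toMonoidHom (MulEquiv.injective _) x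

namespace Cycle

variable {F : Frame z} (C : Cycle F)

theorem u_pow_fix (i : ℤ) : z * F.f 150 ^ i * z⁻¹ = F.f 150 ^ i :=
  conj_eq_iff_commute.2 ((F.comm 150 (by norm_num)).symm.zpow_right i)

include C in
theorem reg_not_esub (S : Setting z₀) {a : G} (ha : a ∈ F.regSet) : a ∉ F.esub := fun h =>
  ha.2.1 (coprime_three_pow ha.2.2 (k := 1) (by rw [pow_one, pow_succ, pow_two]; exact C.esub_cube S h))

include C in
theorem tor_odd (S : Setting z₀) {a : G} (ha : a ∈ F.regSet) : Odd (Nat.card (F.tor a)) :=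
  C.cent_odd S ha.1 (C.reg_not_esub S ha)

theorem tor_norm {a : G} (ha : a ∈ F.regSet) {x : G} (hx : x ∈ F.tor a) : z * x * z⁻¹ ∈ F.tor a := by
  obtain ⟨h1, h2⟩ := F.mem_tor.1 hx
  refine F.mem_tor.2 ⟨mul_mem (mul_mem F.z_mem_cu h1) (inv_mem F.z_mem_cu), ?_⟩
  have h3 : Commute (z * x * z⁻¹) (z * a * z⁻¹) := by show _ = _; rw [conj_mul, conj_mul, h2.eq]
  rw [ha.1.2.2] at h3
  exact Commute.inv_right_iff.1 h3

include C in
theorem tor_fix (S : Setting z₀) {a x : G} (ha : a ∈ F.regSet) (hx : x ∈ F.tor a) (hz : z * x * z⁻¹ = x) :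
    x ∈ zpowers (F.f 150) := by
  have hle : zpowers (F.f 150) ≤ (F.cu ⊓ centralizer ({z} : Set G)) ⊓ centralizer ({a} : Set G) :=
    zpowers_le.2 ⟨⟨F.psub_le_cu u_mem, mem_centralizer_singleton_iff.2 (F.psub_z u_mem)⟩,
      mem_centralizer_singleton_iff.2 (F.mem_cu.1 ha.1.1).symm⟩
  rw [eq_of_le_of_card_ge hle (by rw [C.stab_three S ha.1 (C.reg_not_esub S ha), Nat.card_zpowers,
    orderOf_cube F.u_code.1 F.u_code.2])]
  exact ⟨⟨(F.mem_tor.1 hx).1, RankOne.mem_centralizer_iff_conj.2 hz⟩,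
    mem_centralizer_singleton_iff.2 (F.mem_tor.1 hx).2⟩

include C in
theorem tor_split (S : Setting z₀) {a x : G} (ha : a ∈ F.regSet) (hx : x ∈ F.tor a) :
    ∃ i : ℤ, ∃ w : G, w ∈ F.tor a ∧ z * w * z⁻¹ = w⁻¹ ∧ x = F.f 150 ^ i * w := by
  obtain ⟨y, w, hy, hyz, ⟨hw, hwi⟩, rfl⟩ :=
    RankOne.exists_decomp F.centre_sq (C.tor_odd S ha) (fun _ h => tor_norm ha h) hx
  obtain ⟨i, hi⟩ := C.tor_fix S ha hy hyz
  exact ⟨i, w, hw, hwi, by rw [← hi]⟩

include C in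
theorem tor_commute (S : Setting z₀) {a₀ a b : G} (h₀ : a₀ ∈ F.regSet) (ha : a ∈ F.tor a₀)
    (hai : z * a * z⁻¹ = a⁻¹) (hac : Nat.Coprime (orderOf a) 3) (hb : b ∈ F.tor a₀) (hbi : z * b * z⁻¹ = b⁻¹) :
    Commute a b := by
  obtain ⟨i, w, hw, hwi, e⟩ := C.tor_split S h₀ (mul_mem ha hb)
  have hu : ∀ x ∈ F.tor a₀, Commute x (F.f 150) := fun x hx => F.mem_cu.1 (F.mem_tor.1 hx).1
  have e2 : a⁻¹ * b⁻¹ = F.f 150 ^ i * w⁻¹ := by
    rw [← hai, ← hbi, ← hwi, conj_mul, e, ← conj_mul, u_pow_fix (F := F)]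
  have hc : a * b * a⁻¹ * b⁻¹ = F.f 150 ^ (2 * i) := by
    rw [mul_assoc (a * b), e2, e, mul_assoc, ← mul_assoc w, ((hu w hw).zpow_right i).eq,
      mul_assoc (F.f 150 ^ i) w, mul_inv_cancel, mul_one, ← zpow_add]
    congr 1; omega
  -- the commutator is central of order dividing three and prime to three
  set c := F.f 150 ^ (2 * i) with hcdef
  have hconj : a * b * a⁻¹ = c * b := by rw [← hc]; group
  have hca : Commute a c := (hu a ha).zpow_right _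
  have hn : ∀ n : ℕ, a ^ n * b * (a ^ n)⁻¹ = c ^ n * b := by
    intro n
    induction n with
    | zero => simp
    | succ n ih =>
      rw [show a ^ (n + 1) * b * (a ^ (n + 1))⁻¹ = a * (a ^ n * b * (a ^ n)⁻¹) * a⁻¹ by rw [pow_succ']; group, ih,
        ← conj_mul, conj_eq_iff_commute.2 (hca.pow_right n), hconj, pow_succ, mul_assoc]
  have h := hn (orderOf a)
  rw [pow_orderOf_eq_one, one_mul, inv_one, mul_one] at h
  have hco : orderOf c ∣ orderOf a := orderOf_dvd_of_pow_eq_one (right_eq_mul.1 h)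
  have hc1 : c = 1 := by
    refine coprime_three_pow (Nat.Coprime.coprime_dvd_left hco hac) (k := 1) ?_
    rw [pow_one, hcdef, ← zpow_natCast, ← zpow_mul, mul_comm, zpow_mul, zpow_natCast, pow_succ, pow_two,
      F.u_code.1, one_zpow]
  rw [hc1, one_mul] at hconj
  exact conj_eq_iff_commute.1 hconj

include C in
theorem tor_eq (S : Setting z₀) {a a' : G} (ha : a ∈ F.regSet) (ha' : a' ∈ F.regSet) (hm : a' ∈ F.tor a) :
    F.tor a' = F.tor a := by
  have key : ∀ {a a' : G}, a ∈ F.regSet → a' ∈ F.regSet → a' ∈ F.tor a → F.tor a ≤ F.tor a' := by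
    intro a a' ha ha' hm x hx
    obtain ⟨i, w, hw, hwi, rfl⟩ := C.tor_split S ha hx
    refine F.mem_tor.2 ⟨(F.mem_tor.1 hx).1, ?_⟩
    exact ((F.mem_cu.1 ha'.1.1).symm.zpow_left i).mul_left (C.tor_commute S ha hm ha'.1.2.2 ha'.2.2 hw hwi).symm
  exact le_antisymm (key ha' ha (F.mem_tor.2 ⟨ha.1.1, (F.mem_tor.1 hm).2.symm⟩)) (key ha ha' hm)

include C in
/-- Elements of order prime to three are inverted. -/
theorem tor_inverted (S : Setting z₀) {a x : G} (ha : a ∈ F.regSet) (hx : x ∈ F.tor a)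
    (hc : Nat.Coprime (orderOf x) 3) : z * x * z⁻¹ = x⁻¹ := by
  obtain ⟨i, w, hw, hwi, e⟩ := C.tor_split S ha hx
  obtain ⟨k, hk3, hxk⟩ : ∃ k, 3 ∣ k ∧ x ^ k = x := by
    by_cases h1 : orderOf x = 1
    · exact ⟨0, dvd_zero 3, by rw [orderOf_eq_one_iff.1 h1, one_pow]⟩
    obtain ⟨m, hm⟩ := Nat.exists_mul_mod_eq_one_of_coprime hc.symm (by have := orderOf_pos x; omega)
    exact ⟨3 * m, dvd_mul_right 3 m, by rw [← pow_mod_orderOf, hm.2, pow_one]⟩
  have hcuw : Commute (F.f 150 ^ i) w := ((F.mem_cu.1 (F.mem_tor.1 hw).1).zpow_right i).symm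
  have huk : (F.f 150 ^ i) ^ k = 1 := by
    obtain ⟨q, rfl⟩ := hk3
    rw [pow_mul, ← zpow_natCast (F.f 150 ^ i), ← zpow_mul, mul_comm, zpow_mul, zpow_natCast,
      show F.f 150 ^ 3 = 1 by rw [pow_succ, pow_two]; exact F.u_code.1, one_zpow, one_pow]
  rw [← hxk, e, hcuw.mul_pow, huk, one_mul, ← conj_pow, hwi, inv_pow]

include C in
theorem tor_reg (S : Setting z₀) {a x : G} (ha : a ∈ F.regSet) (hx : x ∈ F.tor a)
    (hc : Nat.Coprime (orderOf x) 3) (h1 : x ≠ 1) : x ∈ F.regSet ∧ F.tor x = F.tor a := by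
  have hr : x ∈ F.regSet :=
    ⟨⟨(F.mem_tor.1 hx).1, RankOne.odd_orderOf (C.tor_odd S ha) hx, C.tor_inverted S ha hx hc⟩, h1, hc⟩
  exact ⟨hr, C.tor_eq S ha hr hx⟩

/-- The subgroup underlying `qSet`. -/
def qSub (S : Setting z₀) {a : G} (ha : a ∈ F.regSet) : Subgroup G where
  carrier := F.qSet (F.tor a)
  one_mem' := ⟨one_mem _, by simp, by simp⟩
  mul_mem' := by
    rintro x y ⟨hx, hxi, hxc⟩ ⟨hy, hyi, hyc⟩
    have hxy := C.tor_commute S ha hx hxi hxc hy hyi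
    refine ⟨mul_mem hx hy, ?_, ?_⟩
    · rw [← conj_mul, hxi, hyi, hxy.eq, mul_inv_rev]
    · exact Nat.Coprime.coprime_dvd_left hxy.orderOf_mul_dvd_mul_orderOf (hxc.mul_left hyc)
  inv_mem' := fun {x} ⟨hx, hxi, hxc⟩ => ⟨inv_mem hx, by rw [← conj_inv, hxi], by rwa [orderOf_inv]⟩

theorem qSub_le (S : Setting z₀) {a : G} (ha : a ∈ F.regSet) : C.qSub S ha ≤ F.tor a := fun _ hx => hx.1

theorem card_qSub (S : Setting z₀) {a : G} (ha : a ∈ F.regSet) :
    Nat.card (C.qSub S ha) = (F.qSet (F.tor a)).ncard := Nat.card_coe_set_eq _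

include C in
theorem qSet_dvd (S : Setting z₀) {a : G} (ha : a ∈ F.regSet) :
    1 ≤ (F.qSet (F.tor a)).ncard ∧ (F.qSet (F.tor a)).ncard ∣ Nat.card F.cu ∧
      Odd (F.qSet (F.tor a)).ncard ∧ Nat.Coprime (F.qSet (F.tor a)).ncard 3 := by
  rw [← C.card_qSub S ha]
  refine ⟨Nat.card_pos, card_dvd_of_le ((C.qSub_le S ha).trans inf_le_left),
    (C.tor_odd S ha).of_dvd_nat (card_dvd_of_le (C.qSub_le S ha)), ?_⟩
  refine Nat.coprime_comm.1 (Nat.prime_three.coprime_iff_not_dvd.2 fun h3 => ?_)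
  haveI : Fact (Nat.Prime 3) := ⟨Nat.prime_three⟩
  obtain ⟨⟨x, hx⟩, ho⟩ := exists_prime_orderOf_dvd_card' 3 h3
  replace ho : orderOf x = 3 := (Subgroup.orderOf_coe ⟨x, hx⟩).trans ho
  have h := hx.2.2
  rw [ho] at h
  exact absurd h (by decide)

include C in
/-- A full Sylow subgroup lies in the centraliser of an element of `regSet`. -/
theorem sylow_tor (S : Setting z₀) {a : G} (ha : a ∈ F.regSet) {p : ℕ} [hp : Fact p.Prime]
    (hpd : p ∣ (F.qSet (F.tor a)).ncard) :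
    Nat.Coprime p 3 ∧ ∃ (P : Sylow p F.cu) (c : G), orderOf c = p ∧ c ∈ F.regSet ∧ F.tor c = F.tor a ∧
      (∀ x : F.cu, x ∈ (P : Subgroup F.cu) → Commute (x : G) c) ∧ ∃ x : F.cu, x ∈ (P : Subgroup F.cu) ∧ (x : G) = c := by
  classical
  have h3 : Nat.Coprime p 3 := Nat.Coprime.coprime_dvd_left hpd (C.qSet_dvd S ha).2.2.2
  rw [← C.card_qSub S ha] at hpd
  obtain ⟨⟨a1, ha1'⟩, ho⟩ := exists_prime_orderOf_dvd_card' p hpd
  replace ho : orderOf a1 = p := (Subgroup.orderOf_coe ⟨a1, ha1'⟩).trans ho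
  have ha1 : a1 ∈ F.tor a := ha1'.1
  have hne : ∀ {x : G}, orderOf x = p → x ≠ 1 := fun h e => hp.out.one_lt.ne' (by rw [← h, e, orderOf_one])
  have h1u := (F.mem_tor.1 ha1).1
  obtain ⟨hr1, ht1⟩ := C.tor_reg S ha ha1 (by rwa [ho]) (hne ho)
  have hP0 : IsPGroup p (zpowers (⟨a1, h1u⟩ : F.cu)) := by
    refine IsPGroup.of_card (n := 1) ?_
    rw [Nat.card_zpowers, Subgroup.orderOf_mk, ho, pow_one]
  obtain ⟨P, hP⟩ := hP0.exists_le_sylow
  haveI : Nontrivial (P : Subgroup F.cu) := ⟨⟨⟨_, hP (mem_zpowers _)⟩, 1, fun e => hne ho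
    (congrArg (fun x : (P : Subgroup F.cu) => ((x : F.cu) : G)) e)⟩⟩
  haveI := P.2.center_nontrivial
  have hzc : p ∣ Nat.card (center (P : Subgroup F.cu)) := by
    obtain ⟨n, hn, e⟩ := (P.2.to_subgroup (center (P : Subgroup F.cu))).nontrivial_iff_card.1 inferInstance
    rw [e]; exact dvd_pow_self p hn.ne'
  obtain ⟨⟨⟨⟨c, hcu⟩, hcP⟩, hcZ⟩, hco⟩ := exists_prime_orderOf_dvd_card' p hzc
  replace hco : orderOf c = p := by rw [← hco]; simp only [Subgroup.orderOf_mk]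
  have hcomm : ∀ x : F.cu, x ∈ (P : Subgroup F.cu) → Commute (x : G) c := fun x hx =>
    congrArg (fun y : (P : Subgroup F.cu) => ((y : F.cu) : G)) (mem_center_iff.1 hcZ ⟨x, hx⟩)
  have hcT : c ∈ F.tor a1 := F.mem_tor.2 ⟨hcu, (hcomm _ (hP (mem_zpowers _))).symm⟩
  obtain ⟨hrc, htc⟩ := C.tor_reg S hr1 hcT (by rwa [hco]) (hne hco)
  exact ⟨h3, P, c, hco, hrc, htc.trans ht1, hcomm, ⟨⟨c, hcu⟩, hcP, rfl⟩⟩

theorem map_tor {g a : G} (hg : g ∈ F.cu) :
    (F.tor a).map (MulAut.conj g).toMonoidHom = F.tor (g * a * g⁻¹) := by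
  ext x
  constructor
  · rintro ⟨y, hy, rfl⟩
    obtain ⟨h1, h2⟩ := F.mem_tor.1 hy
    refine F.mem_tor.2 ⟨mul_mem (mul_mem hg h1) (inv_mem hg), ?_⟩
    exact h2.map (MulAut.conj g).toMonoidHom
  · intro hx
    obtain ⟨h1, h2⟩ := F.mem_tor.1 hx
    refine ⟨g⁻¹ * x * g, F.mem_tor.2 ⟨mul_mem (mul_mem (inv_mem hg) h1) hg, ?_⟩, by simp [mul_assoc]⟩
    show _ = _
    calc g⁻¹ * x * g * a = g⁻¹ * (x * (g * a * g⁻¹)) * g := by group
      _ = _ := by rw [h2.eq]; group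

include C in
/-- Centralisers meeting a common prime are conjugate under the centraliser of `z`. -/
theorem tor_conj (S : Setting z₀) {a b : G} (ha : a ∈ F.regSet) (hb : b ∈ F.regSet) {p : ℕ} [hp : Fact p.Prime]
    (hpa : p ∣ (F.qSet (F.tor a)).ncard) (hpb : p ∣ (F.qSet (F.tor b)).ncard) :
    ∃ g ∈ F.cu ⊓ centralizer ({z} : Set G), (F.tor a).map (MulAut.conj g).toMonoidHom = F.tor b := by
  obtain ⟨h3, P1, c1, ho1, hr1, ht1, -, x1, hx1, hx1e⟩ := C.sylow_tor S ha hpa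
  obtain ⟨-, P2, c2, ho2, hr2, ht2, hc2, -⟩ := C.sylow_tor S hb hpb
  obtain ⟨g, hg⟩ := MulAction.exists_smul_eq F.cu P1 P2
  have hg2 : g * x1 * g⁻¹ ∈ (P2 : Subgroup F.cu) := by
    rw [← hg, Sylow.coe_subgroup_smul]
    exact ⟨x1, hx1, by simp [MulAut.conj_apply]⟩
  set d : G := (g : G) * c1 * (g : G)⁻¹ with hd
  have hdc : Commute d c2 := by
    have := hc2 _ hg2
    rw [show (((g * x1 * g⁻¹ : F.cu)) : G) = d by rw [hd, ← hx1e]; rfl] at this
    exact this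
  have hdo : orderOf d = p := by rw [hd, orderOf_conj', ho1]
  have hdT : d ∈ F.tor c2 := F.mem_tor.2 ⟨mul_mem (mul_mem g.2 hr1.1.1) (inv_mem g.2), hdc⟩
  obtain ⟨hrd, htd⟩ := C.tor_reg S hr2 hdT (by rwa [hdo]) (fun e => hp.out.one_lt.ne' (by rw [← hdo, e, orderOf_one]))
  have hdi := hrd.1.2.2
  -- both `z` and its conjugate invert `d`
  set t := (g : G) * z * (g : G)⁻¹ * z with ht
  have htT : t ∈ F.tor d := by
    refine F.mem_tor.2 ⟨mul_mem (mul_mem (mul_mem g.2 F.z_mem_cu) (inv_mem g.2)) F.z_mem_cu, conj_eq_iff_commute.1 ?_⟩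
    have h1 : (g : G) * z * (g : G)⁻¹ * d * ((g : G) * z * (g : G)⁻¹)⁻¹ = d⁻¹ := by
      rw [hd, show (g : G) * z * (g : G)⁻¹ * ((g : G) * c1 * (g : G)⁻¹) * ((g : G) * z * (g : G)⁻¹)⁻¹ =
        (g : G) * (z * c1 * z⁻¹) * (g : G)⁻¹ by group, hr1.1.2.2, conj_inv]
    rw [ht, show ∀ y : G, y * z * d * (y * z)⁻¹ = y * (z * d * z⁻¹) * y⁻¹ from fun y => by group, hdi, ← conj_inv,
      h1, inv_inv]
  have hti : z * t * z⁻¹ = t⁻¹ := by
    refine eq_inv_of_mul_eq_one_left ?_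
    calc z * t * z⁻¹ * t = z * (g : G) * z * ((g : G)⁻¹ * (z * z⁻¹) * (g : G)) * z * (g : G)⁻¹ * z := by rw [ht]; group
      _ = z * (g : G) * (z * z) * (g : G)⁻¹ * z := by group
      _ = 1 := by rw [F.centre_sq]; group; exact F.centre_sq
  obtain ⟨m, hm⟩ := RankOne.exists_sqrt (RankOne.odd_orderOf (C.tor_odd S hrd) htT)
  set s := t ^ m with hs
  have hsT : s ∈ F.tor d := pow_mem htT m
  have hsu : s ∈ F.cu := (F.mem_tor.1 hsT).1
  have hsi : z * s * z⁻¹ = s⁻¹ := by rw [hs, ← conj_pow, hti, inv_pow]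
  have hgz : (g : G) * z * (g : G)⁻¹ = t * z := by rw [ht, mul_assoc _ z z, F.centre_sq, mul_one]
  have hcz : Commute (s⁻¹ * g) z := by
    refine conj_eq_iff_commute.1 ?_
    have hzs : z * s = s⁻¹ * z := by rw [← hsi]; group
    calc s⁻¹ * g * z * (s⁻¹ * g)⁻¹ = s⁻¹ * ((g : G) * z * (g : G)⁻¹) * s := by group
      _ = s⁻¹ * t * (z * s) := by rw [hgz]; group
      _ = z := by rw [hzs, ← hm]; group
  refine ⟨s⁻¹ * g, mem_inf.2 ⟨mul_mem (inv_mem hsu) g.2, mem_centralizer_singleton_iff.2 hcz⟩, ?_⟩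
  rw [← ht1, map_tor (mul_mem (inv_mem hsu) g.2), ← ht2, ← htd]
  congr 1
  have h1 : Commute s⁻¹ d := (F.mem_tor.1 hsT).2.inv_left
  calc s⁻¹ * (g : G) * c1 * (s⁻¹ * g)⁻¹ = s⁻¹ * d * s⁻¹⁻¹ := by rw [hd]; group
    _ = d := conj_eq_iff_commute.2 h1

end Cycle

end Cfsg.Agent.U43T
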