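import Cfsg.Agent.Lib.U43T.PE
import Cfsg.Agent.Lib.U43T.General2

/-!
The centraliser of an element of order three commuting with a four group: first counts.
-/

set_option autoImplicit false
set_option linter.unusedSectionVars false

namespace Cfsg.Agent.U43T

open Subgroup

variable {G : Type*} [Group G] [Finite G] {z z₀ : G}

/-- Membership of a code in the centraliser of the code `150`. -/
def inU (g : ℕ) : Bool := mulH g 150 == mulH 150 g

theorem inU_facts : ((List.range 1152).filter inU).length = 36 ∧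
    ((List.range 1152).filter fun g => inU g && sqH g == 0 && g != 0 && g != 12).length = 6 ∧
    inU 12 = true ∧ inU 576 = true := by decide +kernel

theorem inU_exp : ∀ g : Fin 1152, mulH g 150 = mulH 150 g →
    mulH (mulH (mulH (mulH (mulH g g) g) g) g) g = 0 := by decide +kernel

theorem inU_axes : ∀ g : Fin 1152, mulH g 150 = mulH 150 g → sqH g = 0 → (g : ℕ) ≠ 0 → (g : ℕ) ≠ 12 →
    (pList.any fun p => cjH p 576 == g || cjH p 588 == g) = true := by decide +kernel

/-- The codes giving a slice. -/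
def sliceU (s g : ℕ) : Bool :=
  inU g && sqH g == 0 && g != 0 &&
    (let h := mulH s g
     h == 12 || mulH h h == 12 || mulH (mulH h h) h == 12 || mulH (mulH (mulH h h) h) h == 12 ||
      mulH (mulH (mulH (mulH h h) h) h) h == 12)

theorem sliceU_count : ((List.range 1152).filter (sliceU 576)).length = 3 ∧
    ((List.range 1152).filter (sliceU 588)).length = 3 := by decide +kernel

theorem psub_span : ∀ p ∈ pList, p = 0 ∨ p = 150 ∨ p = 225 ∨ ∀ q ∈ pList,
    ∃ i ∈ [(0 : ℕ), 150, 225], ∃ j ∈ [(0 : ℕ), p, mulH p p], q = mulH i j := by decide +kernel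

namespace Frame

variable (F : Frame z)

/-- The centraliser of the element `150`. -/
def cu : Subgroup G := centralizer ({F.f 150} : Set G)

theorem mem_cu {x : G} : x ∈ F.cu ↔ Commute x (F.f 150) := mem_centralizer_singleton_iff

theorem inU_iff {g : ℕ} (hg : g < 1152) : inU g = true ↔ F.f g ∈ F.cu := by
  rw [F.mem_cu, F.commute_iff hg (by norm_num), inU, beq_iff_eq]

theorem z_mem_cu : z ∈ F.cu := F.mem_cu.2 (F.comm 150 (by norm_num)).symm

theorem t_mem_cu : F.f 576 ∈ F.cu := (F.inU_iff (by norm_num)).1 inU_facts.2.2.2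

theorem psub_le_cu : F.psub ≤ F.cu := fun _ hx => F.mem_cu.2 (F.psub_comm hx Cycle.u_mem)

theorem card_cu_centre : Nat.card ↥(F.cu ⊓ centralizer ({z} : Set G)) = 36 := by
  rw [show Nat.card ↥(F.cu ⊓ centralizer ({z} : Set G)) =
    ((F.cu ⊓ centralizer ({z} : Set G) : Subgroup G) : Set G).ncard from Nat.card_coe_set_eq _,
    F.ncard_codes inU _ (fun x hx => mem_centralizer_singleton_iff.1 hx.2) ?_, inU_facts.1]
  intro g hg
  rw [F.inU_iff hg]
  exact ⟨fun h => h.1, fun h => ⟨h, mem_centralizer_singleton_iff.2 (F.comm g hg)⟩⟩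

theorem cu_six {x : G} (hx : x ∈ F.cu) (hz : Commute x z) : x ^ 6 = 1 := by
  obtain ⟨g, hg, rfl⟩ := F.surj x hz
  have h := inU_exp ⟨g, hg⟩ (by simpa [inU] using (F.inU_iff hg).2 hx)
  simp only [pow_succ, pow_zero, one_mul]
  rw [← F.mul _ _ hg hg, ← F.mul _ _ (mulH_lt _ _) hg, ← F.mul _ _ (mulH_lt _ _) hg,
    ← F.mul _ _ (mulH_lt _ _) hg, ← F.mul _ _ (mulH_lt _ _) hg, h, F.f0]

theorem cu_odd_fix {x : G} (hx : x ∈ F.cu) (hz : Commute x z) (ho : Odd (orderOf x)) : x ∈ F.psub := by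
  obtain ⟨g, hg, rfl⟩ := F.surj x hz
  have h6 : orderOf (F.f g) ∣ 3 * 2 := orderOf_dvd_of_pow_eq_one (F.cu_six hx hz)
  have h3 : orderOf (F.f g) ∣ 3 := (Nat.Coprime.dvd_of_dvd_mul_right (Nat.coprime_two_right.2 ho)) h6
  have h : F.f g * F.f g * F.f g = 1 := by
    have := orderOf_dvd_iff_pow_eq_one.1 h3
    simpa only [pow_succ, pow_zero, one_mul] using this
  exact ⟨g, cent_u_cube ⟨g, hg⟩ (by simpa [inU] using (F.inU_iff hg).2 hx) ((F.cube_eq_one_iff hg).1 h), rfl⟩

theorem axes_repr {c : G} (hc : c ∈ axesSet F.cu z) :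
    ∃ p ∈ F.psub, c = p * F.f 576 * p⁻¹ ∨ c = p * F.f 588 * p⁻¹ := by
  obtain ⟨⟨hcu, hc2, hc1⟩, hcz, hne⟩ := hc
  obtain ⟨g, hg, rfl⟩ := F.surj c hcz
  have h := inU_axes ⟨g, hg⟩ (by simpa [inU] using (F.inU_iff hg).2 hcu) ((F.sq_eq_one_iff hg).1 hc2)
    (fun e => hc1 ((F.eq_one_iff hg).2 e)) (fun e => hne (by simp only at e; rw [e, F.fz]))
  simp only [List.any_eq_true, Bool.or_eq_true, beq_iff_eq] at h
  obtain ⟨p, hp, e⟩ := h
  refine ⟨F.f p, ⟨p, hp, rfl⟩, ?_⟩
  rcases e with e | e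
  · exact Or.inl (by rw [← e, F.f_cjH (pList_lt p hp) (by norm_num)])
  · exact Or.inr (by rw [← e, F.f_cjH (pList_lt p hp) (by norm_num)])

theorem card_axes : (axesSet F.cu z).ncard = 6 := by
  rw [F.ncard_codes _ _ (fun x hx => hx.2.1) ?_, inU_facts.2.1]
  intro g hg
  simp only [Bool.and_eq_true, beq_iff_eq, bne_iff_ne]
  rw [F.inU_iff hg, ← F.sq_eq_one_iff hg]
  constructor
  · rintro ⟨⟨h1, h2, h3⟩, -, h5⟩
    exact ⟨⟨⟨h1, h2⟩, fun e => h3 ((F.eq_one_iff hg).2 e)⟩, fun e => h5 (by rw [e, F.fz])⟩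
  · rintro ⟨⟨⟨h1, h2⟩, h3⟩, h4⟩
    exact ⟨⟨h1, h2, fun e => h3 ((F.eq_one_iff hg).1 e)⟩, F.comm g hg,
      fun e => h4 (F.inj g 12 hg (by norm_num) (e.trans F.fz.symm))⟩

theorem psub_cent {x p : G} (hp : p ∈ F.psub) (hp' : p ∉ zpowers (F.f 150)) (hu : Commute x (F.f 150))
    (hx : Commute x p) : x ∈ F.cp := by
  obtain ⟨a, ha, rfl⟩ := hp
  have key : ∀ q ∈ pList, Commute x (F.f q) := by
    intro q hq
    rcases psub_span a ha with rfl | rfl | rfl | h
    · exact absurd (by rw [F.f0]; exact one_mem _) hp'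
    · exact absurd (mem_zpowers _) hp'
    · refine absurd ?_ hp'
      rw [show (225 : ℕ) = iH 150 by decide +kernel, F.f_iH (by norm_num)]
      exact inv_mem (mem_zpowers _)
    obtain ⟨i, hi, j, hj, rfl⟩ := h q hq
    have ha' := pList_lt a ha
    have hi' : i < 1152 := by simp only [List.mem_cons, List.not_mem_nil, or_false] at hi; omega
    have hj' : j < 1152 := by
      simp only [List.mem_cons, List.not_mem_nil, or_false] at hj
      rcases hj with rfl | rfl | rfl
      exacts [by norm_num, ha', mulH_lt _ _]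
    rw [F.mul _ _ hi' hj']
    refine Commute.mul_right ?_ ?_
    · simp only [List.mem_cons, List.not_mem_nil, or_false] at hi
      rcases hi with rfl | rfl | rfl
      · rw [F.f0]; exact Commute.one_right x
      · exact hu
      · rw [show (225 : ℕ) = iH 150 by decide +kernel, F.f_iH (by norm_num)]; exact hu.inv_right
    · simp only [List.mem_cons, List.not_mem_nil, or_false] at hj
      rcases hj with rfl | rfl | rfl
      · rw [F.f0]; exact Commute.one_right x
      · exact hx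
      · rw [F.mul _ _ ha' ha']; exact hx.mul_right hx
  exact F.mem_cp.2 ⟨key 144 (by decide), key 6 (by decide)⟩

end Frame

namespace Cycle

variable {F : Frame z} (C : Cycle F)

theorem n_mem_cu : C.n ∈ F.cu := F.mem_cu.2 C.nu

theorem f588_mem_cu : F.f 588 ∈ F.cu := by
  rw [F.f588.1]; exact mul_mem F.z_mem_cu F.t_mem_cu

include C in
theorem esub_le_cu (S : Setting z₀) : F.esub ≤ F.cu := fun _ hx =>
  F.mem_cu.2 (C.esub_comm S hx (F.psub_le_esub u_mem))

theorem n_esub (S : Setting z₀) {e : G} (he : e ∈ F.esub) : C.n * e * C.n⁻¹ ∈ F.esub := by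
  rw [C.esub_eq S] at he
  induction he using closure_induction with
  | mem a ha =>
    simp only [gens, Set.mem_insert_iff, Set.mem_singleton_iff] at ha
    rcases ha with rfl | rfl | rfl | rfl
    · rw [conj_eq_iff_commute.2 C.nu]; exact F.psub_le_esub u_mem
    · exact C.xt_mem_esub S
    · exact C.xs_mem_esub S
    · refine F.psub_le_esub ?_
      have e3 : C.n * C.xs * C.n⁻¹ = (C.n * C.n * C.n) * F.f 153 * (C.n * C.n * C.n)⁻¹ := by
        rw [xs, xt]; group
      have h3 : C.n * C.n * C.n * z * (C.n * C.n * C.n)⁻¹ = z := by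
        calc C.n * C.n * C.n * z * (C.n * C.n * C.n)⁻¹ = C.n * (C.n * (C.n * z * C.n⁻¹) * C.n⁻¹) * C.n⁻¹ := by group
          _ = z := by rw [C.nz, C.nt, C.ns]
      have hz : Commute (C.n * C.xs * C.n⁻¹) z := by
        rw [e3]
        suffices h : Commute (C.n * C.n * C.n * F.f 153 * (C.n * C.n * C.n)⁻¹)
            (C.n * C.n * C.n * z * (C.n * C.n * C.n)⁻¹) by rwa [h3] at h
        exact (show ∀ g : G, ∀ {a b : G}, Commute a b → Commute (g * a * g⁻¹) (g * b * g⁻¹) from
          fun g a b h => by show _ = _; rw [conj_mul, conj_mul, h.eq]) _ (F.comm 153 (by norm_num))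
      refine F.cu_odd_fix (mul_mem (mul_mem C.n_mem_cu (C.esub_le_cu S (C.xs_mem_esub S))) (inv_mem C.n_mem_cu)) hz ?_
      have hord : orderOf (C.n * C.xs * C.n⁻¹) ∣ 3 := by
        refine orderOf_dvd_of_pow_eq_one ?_
        rw [conj_pow, pow_succ, pow_two, C.uty_xs.1, mul_one, mul_inv_cancel]
      exact (show Odd 3 by decide).of_dvd_nat hord
  | one => simp
  | mul x y _ _ h1 h2 => rw [← conj_mul]; exact mul_mem h1 h2
  | inv x _ h1 => rw [← conj_inv]; exact inv_mem h1

include C in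
theorem psub_conj_esub (S : Setting z₀) {p e : G} (hp : p ∈ F.psub) (he : e ∈ F.esub) : p * e * p⁻¹ ∈ F.esub :=
  mul_mem (mul_mem (F.psub_le_esub hp) he) (inv_mem (F.psub_le_esub hp))

include C in
/-- Elements of odd order fixing an axis lie in `esub`. -/
theorem odd_fix_axis (S : Setting z₀) {c w : G} (hc : c ∈ axesSet F.cu z) (hw : w ∈ F.cu)
    (ho : Odd (orderOf w)) (hcw : Commute w c) : w ∈ F.esub := by
  obtain ⟨p, hp, hc'⟩ := F.axes_repr hc
  have h0 : ∀ v ∈ F.cu, Odd (orderOf v) → Commute v (F.f 576) → v ∈ F.esub := by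
    intro v hv hvo hvt
    have hz : Commute (C.n⁻¹ * v * C.n) z := by
      show _ = _
      calc C.n⁻¹ * v * C.n * z = C.n⁻¹ * (v * (C.n * z * C.n⁻¹)) * C.n := by group
        _ = C.n⁻¹ * ((C.n * z * C.n⁻¹) * v) * C.n := by rw [C.nz, hvt.eq]
        _ = _ := by group
    have hm : C.n⁻¹ * v * C.n ∈ F.psub := by
      refine F.cu_odd_fix (mul_mem (mul_mem (inv_mem C.n_mem_cu) hv) C.n_mem_cu) hz ?_
      exact orderOf_injective (MulAut.conj C.n⁻¹).toMonoidHom (MulEquiv.injective _) v ▸ hvo |>.of_dvd_nat (by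
        simp [MulAut.conj_apply])
    have := C.n_esub S (F.psub_le_esub hm)
    simpa [mul_assoc] using this
  have hp' : p⁻¹ * w * p ∈ F.cu := mul_mem (mul_mem (inv_mem (F.psub_le_cu hp)) hw) (F.psub_le_cu hp)
  have hpo : Odd (orderOf (p⁻¹ * w * p)) := by
    have e := orderOf_injective (MulAut.conj p⁻¹).toMonoidHom (MulEquiv.injective _) w
    simp only [MulEquiv.coe_toMonoidHom, MulAut.conj_apply, inv_inv] at e
    rw [e]; exact ho
  suffices h : p⁻¹ * w * p ∈ F.esub by
    have := C.psub_conj_esub S hp h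
    simpa [mul_assoc] using this
  rcases hc' with rfl | rfl
  · refine h0 _ hp' hpo ?_
    show _ = _
    calc p⁻¹ * w * p * F.f 576 = p⁻¹ * (w * (p * F.f 576 * p⁻¹)) * p := by group
      _ = _ := by rw [hcw.eq]; group
  · have hq : Commute (C.n⁻¹ * (p⁻¹ * w * p) * C.n) (F.f 576) := by
      have h588 : Commute (p⁻¹ * w * p) (F.f 588) := by
        show _ = _
        calc p⁻¹ * w * p * F.f 588 = p⁻¹ * (w * (p * F.f 588 * p⁻¹)) * p := by group
          _ = _ := by rw [hcw.eq]; group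
      rw [← C.nt] at h588
      show _ = _
      calc C.n⁻¹ * (p⁻¹ * w * p) * C.n * F.f 576 = C.n⁻¹ * ((p⁻¹ * w * p) * (C.n * F.f 576 * C.n⁻¹)) * C.n := by group
        _ = _ := by rw [h588.eq]; group
    have e := orderOf_injective (MulAut.conj C.n⁻¹).toMonoidHom (MulEquiv.injective _) (p⁻¹ * w * p)
    simp only [MulEquiv.coe_toMonoidHom, MulAut.conj_apply, inv_inv] at e
    have := C.n_esub S (h0 _ (mul_mem (mul_mem (inv_mem C.n_mem_cu) hp') C.n_mem_cu) (by rw [e]; exact hpo) hq)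
    simpa [mul_assoc] using this

include C in
theorem axis_conj_in {X : Subgroup G} (hX : ∀ g ∈ F.cu, Commute g z → g ∈ X) (hn : C.n ∈ X) {c : G}
    (hc : c ∈ axesSet F.cu z) : ∃ k ∈ X, k * z * k⁻¹ = c := by
  obtain ⟨p, hp, h | h⟩ := F.axes_repr hc <;> have hpX : p ∈ X := hX p (F.psub_le_cu hp) (F.psub_z hp)
  · exact ⟨p * C.n, mul_mem hpX hn, by rw [h, ← C.nz]; group⟩
  · refine ⟨p * C.n * C.n, mul_mem (mul_mem hpX hn) hn, ?_⟩
    rw [h, ← C.nt, ← C.nz]; group

include C in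
/-- The involutions of a subgroup containing the centraliser of `z` and the cycle are conjugate in it. -/
theorem conj_in {X : Subgroup G} (hle : X ≤ F.cu) (hX : ∀ g ∈ F.cu, Commute g z → g ∈ X) (hn : C.n ∈ X)
    {y : G} (hy : y ∈ involSet X) : ∃ k ∈ X, k * z * k⁻¹ = y := by
  have hzz := F.centre_sq
  have hzX : z ∈ X := hX z F.z_mem_cu (Commute.refl z)
  -- the involutions commuting with `z`
  have h0 : ∀ {y : G}, y ∈ involSet X → Commute y z → ∃ k ∈ X, k * z * k⁻¹ = y := by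
    intro y hy hz
    by_cases e : y = z
    · exact ⟨1, one_mem _, by simp [e]⟩
    · exact C.axis_conj_in hX hn ⟨⟨hle hy.1, hy.2⟩, hz, e⟩
  obtain ⟨hyu, hy2, hy1⟩ := hy
  by_cases he : Even (orderOf (z * y))
  · obtain ⟨m, m2, m1, mz, my⟩ := half_power hzz hy2 he
    obtain ⟨k, hk, hke⟩ := h0 ⟨pow_mem (mul_mem hzX hyu) m, m2, m1⟩ mz
    have hy' : k⁻¹ * y * k ∈ involSet X :=
      ⟨mul_mem (mul_mem (inv_mem hk) hyu) hk, by
        calc k⁻¹ * y * k * (k⁻¹ * y * k) = k⁻¹ * (y * y) * k := by group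
          _ = 1 := by rw [hy2]; group,
        fun e => hy1 (by
          calc y = k * (k⁻¹ * y * k) * k⁻¹ := by group
            _ = 1 := by rw [e]; group)⟩
    have hz' : Commute (k⁻¹ * y * k) z := by
      have h : Commute y (k * z * k⁻¹) := hke ▸ my.symm
      show _ = _
      calc k⁻¹ * y * k * z = k⁻¹ * (y * (k * z * k⁻¹)) * k := by group
        _ = _ := by rw [h.eq]; group
    obtain ⟨l, hl, hle⟩ := h0 hy' hz'
    refine ⟨k * l, mul_mem hk hl, ?_⟩
    calc k * l * z * (k * l)⁻¹ = k * (l * z * l⁻¹) * k⁻¹ := by group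
      _ = y := by rw [hle]; group
  · obtain ⟨m, hm⟩ := RankOne.exists_sqrt (Nat.not_even_iff_odd.1 he)
    set w := (z * y) ^ m with hw
    have hwz : z * w * z⁻¹ = w⁻¹ := by
      rw [hw, ← conj_pow, show z * (z * y) * z⁻¹ = (z * y)⁻¹ by
        rw [mul_inv_rev, invol_inv hzz, invol_inv hy2, ← mul_assoc, hzz, one_mul], inv_pow]
    refine ⟨w⁻¹, inv_mem (pow_mem (mul_mem hzX hyu) m), ?_⟩
    have hwz' : w⁻¹ * z = z * w := by rw [← hwz]; group
    rw [inv_inv, hwz', mul_assoc, hm, ← mul_assoc, hzz, one_mul]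

include C in
theorem cu_conj {y : G} (hy : y ∈ involSet F.cu) : ∃ k ∈ F.cu, k * z * k⁻¹ = y :=
  C.conj_in le_rfl (fun _ h _ => h) C.n_mem_cu hy

include C in
/-- The order of a subgroup containing the centraliser of `z` and the cycle. -/
theorem card_in {X : Subgroup G} (hle : X ≤ F.cu) (hX : ∀ g ∈ F.cu, Commute g z → g ∈ X) (hn : C.n ∈ X) :
    Nat.card X = 36 * (involSet X).ncard := by
  have hzX : z ∈ X := hX z F.z_mem_cu (Commute.refl z)
  have e : X ⊓ centralizer ({z} : Set G) = F.cu ⊓ centralizer ({z} : Set G) :=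
    le_antisymm (inf_le_inf_right _ hle) fun x hx => ⟨hX x hx.1 (mem_centralizer_singleton_iff.1 hx.2), hx.2⟩
  rw [← F.card_cu_centre, ← e]
  refine card_mul_ncard_conj hzX _ fun y => ⟨fun hy => C.conj_in hle hX hn hy, ?_⟩
  rintro ⟨x, hx, rfl⟩
  exact ⟨mul_mem (mul_mem hx hzX) (inv_mem hx), by rw [conj_mul, F.centre_sq, mul_one, mul_inv_cancel],
    fun e => F.centre_ne (conj_eq_one_iff.1 e)⟩

theorem pow_six_range {x c : G} (h6 : x ^ 6 = 1) (h1 : c ≠ 1) :
    c ∈ zpowers x ↔ x = c ∨ x * x = c ∨ x * x * x = c ∨ x * x * x * x = c ∨ x * x * x * x * x = c := by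
  constructor
  · intro h
    obtain ⟨k, rfl⟩ := mem_powers_iff_mem_zpowers.2 h
    dsimp only at h1 ⊢
    have e : x ^ k = x ^ (k % 6) := by
      conv_lhs => rw [← Nat.div_add_mod k 6, pow_add, pow_mul, h6, one_pow, one_mul]
    rw [e] at h1 ⊢
    have := Nat.mod_lt k (show 0 < 6 by norm_num)
    interval_cases k % 6 <;> simp_all [pow_succ]
  · rintro (rfl | rfl | rfl | rfl | rfl)
    · exact mem_zpowers _
    all_goals first
      | exact mul_mem (mem_zpowers _) (mem_zpowers _)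
      | exact mul_mem (mul_mem (mem_zpowers _) (mem_zpowers _)) (mem_zpowers _)
      | exact mul_mem (mul_mem (mul_mem (mem_zpowers _) (mem_zpowers _)) (mem_zpowers _)) (mem_zpowers _)
      | exact mul_mem (mul_mem (mul_mem (mul_mem (mem_zpowers _) (mem_zpowers _)) (mem_zpowers _)) (mem_zpowers _)) (mem_zpowers _)

include C in
theorem slice_code {s : ℕ} (hs : s = 576 ∨ s = 588) : (sliceSet F.cu (F.f s) z).ncard = 3 := by
  have hs' : s < 1152 := by omega
  have hsu : F.f s ∈ F.cu := by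
    rcases hs with rfl | rfl
    exacts [F.t_mem_cu, f588_mem_cu (F := F)]
  rw [F.ncard_codes (sliceU s) _ ?_ ?_]
  · rcases hs with rfl | rfl
    exacts [sliceU_count.1, sliceU_count.2]
  · rintro y ⟨-, hy⟩
    obtain ⟨n, hn⟩ := hy
    dsimp only at hn
    have h : Commute (F.f s * y) z := by
      have h' := Commute.self_zpow (F.f s * y) n
      rwa [hn] at h'
    have := (F.comm s hs').inv_left.mul_left h
    rwa [inv_mul_cancel_left] at this
  · intro g hg
    simp only [sliceU, Bool.and_eq_true, Bool.or_eq_true, beq_iff_eq, bne_iff_ne]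
    rw [F.inU_iff hg, ← F.sq_eq_one_iff hg]
    have hm : F.f (mulH s g) = F.f s * F.f g := F.mul _ _ hs' hg
    have hmm := mulH_lt s g
    have e12 : ∀ {a : ℕ}, a < 1152 → (F.f a = z ↔ a = 12) := fun ha => by
      constructor
      · intro e; exact F.inj _ 12 ha (by norm_num) (e.trans F.fz.symm)
      · rintro rfl; exact F.fz
    constructor
    · rintro ⟨⟨h1, h2, h3⟩, h4⟩
      refine ⟨⟨⟨h1, h2⟩, fun e => h3 ((F.eq_one_iff hg).2 e)⟩, ?_⟩
      rw [pow_six_range (F.cu_six (mul_mem hsu h1) ((F.comm s hs').mul_left (F.comm g hg))) F.centre_ne] at h4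
      simp only [← hm, ← F.mul _ _ hmm hmm, ← F.mul _ _ (mulH_lt _ _) hmm,
        e12 hmm, e12 (mulH_lt _ _)] at h4
      tauto
    · rintro ⟨⟨⟨h1, h2⟩, h3⟩, h4⟩
      refine ⟨⟨h1, h2, fun e => h3 ((F.eq_one_iff hg).1 e)⟩, ?_⟩
      rw [pow_six_range (F.cu_six (mul_mem hsu h1) ((F.comm s hs').mul_left (F.comm g hg))) F.centre_ne]
      simp only [← hm, ← F.mul _ _ hmm hmm, ← F.mul _ _ (mulH_lt _ _) hmm,
        e12 hmm, e12 (mulH_lt _ _)]
      tauto

include C in
theorem ncard_slice (S : Setting z₀) {c : G} (hc : c ∈ axesSet F.cu z) : (sliceSet F.cu z c).ncard = 3 := by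
  obtain ⟨p, hp, hc'⟩ := F.axes_repr hc
  have hpz : p * z * p⁻¹ = z := conj_eq_iff_commute.2 (F.psub_z hp)
  have hn := C.n_mem_cu
  have e1 : ∀ d, (sliceSet F.cu z (p * d * p⁻¹)).ncard = (sliceSet F.cu z d).ncard := fun d => by
    have h := ncard_sliceSet_conj (F.psub_le_cu hp) z d
    rwa [hpz] at h
  rcases hc' with rfl | rfl
  · rw [e1]
    have := ncard_sliceSet_conj hn (F.f 588) z
    rw [C.ns, C.nz] at this
    rw [this]
    exact C.slice_code (Or.inr rfl)
  · rw [e1]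
    have h1 := ncard_sliceSet_conj hn (F.f 588) (F.f 576)
    have h2 := ncard_sliceSet_conj hn (F.f 576) z
    rw [C.ns, C.nt] at h1
    rw [C.nt, C.nz] at h2
    rw [h1, h2]
    exact C.slice_code (Or.inl rfl)

include C in
theorem card_evenU (S : Setting z₀) : (evenSet F.cu z).ncard = 18 := by
  rw [ncard_evenSet F.z_mem_cu F.centre_sq F.centre_ne,
    Finset.sum_congr rfl (fun c hc => C.ncard_slice S ((Set.Finite.mem_toFinset _).1 hc)), Finset.sum_const,
    ← Set.ncard_eq_toFinset_card, F.card_axes]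
  rfl

end Cycle

end Cfsg.Agent.U43T
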