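import Cfsg.Agent.Lib.U43T.UTwo
import Mathlib.GroupTheory.IndexNormal
import Mathlib.GroupTheory.Perm.Cycle.Type

/-!
No further inverted elements of three-power order in the centraliser of `150`.
-/

set_option autoImplicit false
set_option linter.unusedSectionVars false

namespace Cfsg.Agent.U43T

open Subgroup

variable {G : Type*} [Group G] [Finite G] {z z₀ : G}

/-- Sylow conjugacy inside a subgroup. -/
theorem sylow3_conj {D R : Subgroup G} (hR : R ≤ D) (hc : Nat.card R = 243) (hD : ¬ 729 ∣ Nat.card D)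
    {X : Subgroup G} (hX : X ≤ D) (hXp : IsPGroup 3 X) : ∃ h ∈ D, ∀ x ∈ X, h * x * h⁻¹ ∈ R := by
  haveI : Fact (Nat.Prime 3) := ⟨Nat.prime_three⟩
  have hRp : IsPGroup 3 R := IsPGroup.of_card (n := 5) hc
  obtain ⟨P1, hP1⟩ := (hXp.comap_of_injective D.subtype Subtype.val_injective).exists_le_sylow
  obtain ⟨P2, hP2⟩ := (hRp.comap_of_injective D.subtype Subtype.val_injective).exists_le_sylow
  have hsub : Nat.card ↥(R.comap D.subtype) = 243 := by
    rw [← hc]
    exact Nat.card_congr (subgroupOfEquivOfLe hR).toEquiv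
  have hP2c : Nat.card (P2 : Subgroup D) = 243 := by
    obtain ⟨r, hr⟩ := IsPGroup.iff_card.1 P2.2
    have hge : 243 ≤ Nat.card (P2 : Subgroup D) := hsub ▸ card_le_of_le hP2
    have hdvd : 3 ^ r ∣ Nat.card D := hr ▸ Subgroup.card_subgroup_dvd_card _
    rw [hr] at hge ⊢
    have h1 : 5 ≤ r := by
      by_contra h
      have := Nat.pow_le_pow_right (show 0 < 3 by norm_num) (show r ≤ 4 by omega)
      omega
    have h2 : r < 6 := by
      by_contra h
      exact hD (dvd_trans (pow_dvd_pow 3 (show 6 ≤ r by omega)) hdvd)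
    obtain rfl : r = 5 := by omega
    norm_num
  have heq : R.comap D.subtype = (P2 : Subgroup D) := eq_of_le_of_card_ge hP2 (by rw [hP2c, hsub])
  obtain ⟨h, hh⟩ := MulAction.exists_smul_eq D P1 P2
  refine ⟨h, h.2, fun x hx => ?_⟩
  have hm : h * ⟨x, hX hx⟩ * h⁻¹ ∈ (P2 : Subgroup D) := by
    rw [← hh, Sylow.coe_subgroup_smul]
    exact ⟨⟨x, hX hx⟩, hP1 hx, by simp [MulAut.conj_apply]⟩
  rw [← heq] at hm
  exact hm

theorem conj_pow_mem {R : Subgroup G} {g : G} (hg : ∀ r ∈ R, g * r * g⁻¹ ∈ R) (m : ℕ) :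
    ∀ r ∈ R, g ^ m * r * (g ^ m)⁻¹ ∈ R := by
  induction m with
  | zero => intro r hr; simpa using hr
  | succ q ih =>
    intro r hr
    rw [show g ^ (q + 1) * r * (g ^ (q + 1))⁻¹ = g * (g ^ q * r * (g ^ q)⁻¹) * g⁻¹ by rw [pow_succ']; group]
    exact hg _ (ih r hr)

namespace Cycle

variable {F : Frame z} (C : Cycle F)

include C in
theorem inv_lu (S : Setting z₀) {w : G} (hw : w ∈ invSet F.lu z) : w ∈ F.esub := by
  have h36 := C.card_in F.lu_le_cu F.centre_le_lu (C.n_mem_lu S)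
  rw [C.ncard_invol_in S F.lu_le_cu le_rfl, C.card_lu S] at h36
  by_contra h
  have : 0 < (invSet F.lu z \ {e | e ∈ F.esub ∧ z * e * z⁻¹ = e⁻¹}).ncard :=
    (Set.ncard_pos (Set.toFinite _)).2 ⟨w, hw, fun h' => h h'.1⟩
  omega

include C in
theorem odd_invariant_le (S : Setting z₀) {X : Subgroup G} (hX : X ≤ F.lu) (hodd : Odd (Nat.card X))
    (hz : ∀ x ∈ X, z * x * z⁻¹ ∈ X) : Nat.card X ≤ 81 := by
  rw [RankOne.card_decomp F.centre_sq X hodd hz]
  refine Nat.mul_le_mul (?_ : _ ≤ 9) (?_ : _ ≤ 9)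
  · refine (card_le_of_le (fun x hx => ?_)).trans_eq F.card_psub
    exact F.cu_odd_fix (hX hx.1).1 (mem_centralizer_singleton_iff.1 hx.2) (RankOne.odd_orderOf hodd hx.1)
  · rw [Nat.card_coe_set_eq, ← C.ncard_inverted S]
    refine Set.ncard_le_ncard (fun x hx => ⟨C.inv_lu S ⟨hX hx.1, RankOne.odd_orderOf hodd hx.1, hx.2⟩, hx.2⟩)
      (Set.toFinite _)

include C in
theorem no_invol_norm (S : Setting z₀) {X : Subgroup G} (hX : X ≤ F.lu) (hc : Nat.card X = 243) {y : G}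
    (hy : y ∈ involSet F.lu) (hn : ∀ x ∈ X, y * x * y⁻¹ ∈ X) : False := by
  obtain ⟨k, hk, rfl⟩ := C.conj_in F.lu_le_cu F.centre_le_lu (C.n_mem_lu S) hy
  set X' := X.map (MulAut.conj k⁻¹).toMonoidHom with hX'
  have hc' : Nat.card X' = 243 := by rw [hX', card_map_of_injective (MulEquiv.injective _), hc]
  have h := C.odd_invariant_le S (X := X') ?_ (by rw [hc']; decide) ?_
  · omega
  · rintro _ ⟨x, hx, rfl⟩
    simpa [MulAut.conj_apply] using mul_mem (mul_mem (inv_mem hk) (hX hx)) hk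
  · rintro _ ⟨x, hx, rfl⟩
    refine ⟨_, hn x hx, ?_⟩
    simp only [MulEquiv.coe_toMonoidHom, MulAut.conj_apply]
    group

include C in
theorem conj_xs {a : ℕ} (ha : C.n ^ (3 ^ a) = 1) : C.n * C.xs * C.n⁻¹ = F.f 153 := by
  have e : C.n * C.xs * C.n⁻¹ = C.n ^ 3 * F.f 153 * (C.n ^ 3)⁻¹ := by
    rw [xs, xt, pow_succ, pow_two]; group
  have hz : Commute (C.n ^ 3) z := by
    refine conj_eq_iff_commute.1 ?_
    rw [pow_succ, pow_two]
    calc C.n * C.n * C.n * z * (C.n * C.n * C.n)⁻¹ = C.n * (C.n * (C.n * z * C.n⁻¹) * C.n⁻¹) * C.n⁻¹ := by group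
      _ = z := by rw [C.nz, C.nt, C.ns]
  have ho : Odd (orderOf (C.n ^ 3)) := by
    refine (show Odd (3 ^ a) from Odd.pow (by decide)).of_dvd_nat ?_
    exact (orderOf_pow_dvd 3).trans (orderOf_dvd_of_pow_eq_one ha)
  rw [e, conj_eq_iff_commute.2 (F.psub_comm (F.cu_odd_fix (pow_mem C.n_mem_cu 3) hz ho) x_mem)]

theorem conj_coord_n {a : ℕ} (ha : C.n ^ (3 ^ a) = 1) (S : Setting z₀) (i j k l : Fin 3) :
    C.n * C.coord (i, j, k, l) * C.n⁻¹ = C.coord (i, l, j, k) := by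
  rw [C.conj_coord, conj_eq_iff_commute.2 C.nu, C.conj_xs ha,
    show C.n * F.f 153 * C.n⁻¹ = C.xt from rfl, show C.n * C.xt * C.n⁻¹ = C.xs from rfl]
  simp only [coord]
  have c1 := C.esub_comm S (pow_mem (C.xs_mem_esub S) (k : ℕ)) (pow_mem (F.psub_le_esub x_mem) (l : ℕ))
  have c2 := C.esub_comm S (pow_mem (C.xt_mem_esub S) (j : ℕ)) (pow_mem (F.psub_le_esub x_mem) (l : ℕ))
  rw [c1.eq]
  simp only [mul_assoc]
  congr 1
  rw [← mul_assoc, c2.eq, mul_assoc]

include C in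
theorem card_fix_le {a : ℕ} (ha : C.n ^ (3 ^ a) = 1) (S : Setting z₀) :
    {e | e ∈ F.esub ∧ Commute e C.n}.ncard ≤ 9 := by
  have hsub : {e | e ∈ F.esub ∧ Commute e C.n} ⊆ Set.range (fun v : Fin 3 × Fin 3 => C.coord (v.1, v.2, v.2, v.2)) := by
    rintro e ⟨he, hc⟩
    obtain ⟨⟨i, j, k, l⟩, rfl⟩ := C.exists_coord S he
    have h := conj_eq_iff_commute.2 hc.symm
    rw [C.conj_coord_n ha S] at h
    have e' := C.coord_inj S h
    simp only [Prod.mk.injEq, true_and] at e'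
    obtain ⟨rfl, rfl, -⟩ := e'
    exact ⟨(i, l), rfl⟩
  refine (Set.ncard_le_ncard hsub (Set.toFinite _)).trans ?_
  rw [← Nat.card_coe_set_eq]
  refine (Finite.card_range_le _).trans ?_
  simp [Nat.card_eq_fintype_card]

/-- The data of a Sylow 3-subgroup of the centraliser of `150`. -/
structure SylU (F : Frame z) where
  R : Subgroup G
  c : G
  le : R ≤ F.lu
  card : Nat.card R = 243
  E_le : F.esub ≤ R
  norm : ∀ g ∈ F.cu, (∀ r ∈ R, g * r * g⁻¹ ∈ R) → g ∈ F.lu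
  not729 : ¬ 729 ∣ Nat.card F.cu
  c_mem : c ∈ R
  c_central : ∀ r ∈ R, Commute c r
  c_not_u : c ∉ zpowers (F.f 150)
  fix : ∀ g ∈ R, g ∉ F.esub → {e | e ∈ F.esub ∧ Commute e g}.ncard ≤ 9

include C in
theorem exists_sylU (S : Setting z₀) : Nonempty (SylU F) := by
  haveI : Fact (Nat.Prime 3) := ⟨Nat.prime_three⟩
  obtain ⟨C, a, ha⟩ := C.exists_three
  set R := F.esub ⊔ zpowers C.n with hRdef
  have hRle : R ≤ F.lu := sup_le (C.esub_le_lu S) (zpowers_le.2 (C.n_mem_lu S))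
  have hnR : C.n ∈ R := SetLike.le_def.1 le_sup_right (mem_zpowers C.n)
  have hER : F.esub ≤ R := le_sup_left
  -- overgroups of `esub` inside `lu` of three-power order
  have big : ∀ {X : Subgroup G}, F.esub ≤ X → X ≤ F.lu → IsPGroup 3 X → ∀ g ∈ X, g ∉ F.esub → Nat.card X = 243 := by
    intro X h1 h2 h3 g hg hgE
    obtain ⟨r, hr⟩ := IsPGroup.iff_card.1 h3
    have hlt : 81 < Nat.card X := by
      rw [← C.card_esub S]
      refine lt_of_le_of_ne (card_le_of_le h1) fun e => hgE ?_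
      rw [eq_of_le_of_card_ge h1 e.ge]; exact hg
    have hdvd : 3 ^ r ∣ 972 := hr ▸ C.card_lu S ▸ card_dvd_of_le h2
    rw [hr] at hlt ⊢
    have : r ≤ 972 := by
      by_contra h
      have h' := Nat.le_of_dvd (by norm_num) hdvd
      have := @Nat.lt_pow_self r 3 (by norm_num)
      omega
    have h4 : 5 ≤ r := by
      by_contra h
      have := Nat.pow_le_pow_right (show 0 < 3 by norm_num) (show r ≤ 4 by omega)
      omega
    have h6 : r < 6 := by
      by_contra h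
      exact absurd (dvd_trans (pow_dvd_pow 3 (show 6 ≤ r by omega)) hdvd) (by norm_num)
    obtain rfl : r = 5 := by omega
    norm_num
  have hcR : Nat.card R = 243 := big hER hRle (C.isP_sup S (C.n_mem_lu S) ha) _ hnR C.n_not_esub
  -- centralisers in `esub` of the other elements
  have hfix : ∀ g ∈ R, g ∉ F.esub → {e | e ∈ F.esub ∧ Commute e g}.ncard ≤ 9 := by
    intro g hg hgE
    refine le_trans (Set.ncard_le_ncard ?_ (Set.toFinite _)) (C.card_fix_le ha S)
    rintro e ⟨he, heg⟩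
    refine ⟨he, ?_⟩
    have hP : IsPGroup 3 ↥(F.esub ⊔ zpowers g) :=
      (IsPGroup.of_card (n := 5) hcR).to_le (sup_le hER (zpowers_le.2 hg))
    have hcard := big le_sup_left (sup_le (C.esub_le_lu S) (zpowers_le.2 (hRle hg))) hP g
      (SetLike.le_def.1 le_sup_right (mem_zpowers g)) hgE
    have heq : F.esub ⊔ zpowers g = R := eq_of_le_of_card_ge (sup_le hER (zpowers_le.2 hg)) (by rw [hcard, hcR])
    have hle : R ≤ centralizer ({e} : Set G) := heq ▸ sup_le
      (fun x hx => mem_centralizer_singleton_iff.2 (C.esub_comm S hx he))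
      (zpowers_le.2 (mem_centralizer_singleton_iff.2 heg.symm))
    exact (show Commute C.n e from mem_centralizer_singleton_iff.1 (hle hnR)).symm
  -- `esub` is the only abelian subgroup of order 81
  have huniq : ∀ A : Subgroup G, A ≤ R → Nat.card A = 81 → (∀ x ∈ A, ∀ y ∈ A, Commute x y) → A = F.esub := by
    intro A hA hAc hAab
    by_contra hne
    obtain ⟨g, hgA, hgE⟩ : ∃ g ∈ A, g ∉ F.esub := by
      by_contra h
      push Not at h
      exact hne (eq_of_le_of_card_ge h (by rw [hAc, C.card_esub S]))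
    have h9 : Nat.card ↥(A ⊓ F.esub) ≤ 9 := by
      refine le_trans ?_ (hfix g (hA hgA) hgE)
      rw [show Nat.card ↥(A ⊓ F.esub) = ((A ⊓ F.esub : Subgroup G) : Set G).ncard from Nat.card_coe_set_eq _]
      exact Set.ncard_le_ncard (fun e he => ⟨he.2, hAab e he.1 g hgA⟩) (Set.toFinite _)
    have h1 : F.esub.relIndex A ≤ F.esub.relIndex R :=
      relIndex_le_of_le_right hA (by rw [relIndex]; exact index_ne_zero_of_finite)
    have h2 : Nat.card ↥(F.esub.subgroupOf R) * F.esub.relIndex R = Nat.card R := card_mul_index _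
    have h3 : Nat.card ↥(F.esub.subgroupOf A) * F.esub.relIndex A = Nat.card A := card_mul_index _
    rw [Nat.card_congr (subgroupOfEquivOfLe hER).toEquiv, C.card_esub S, hcR] at h2
    have e4 : Nat.card ↥(F.esub.subgroupOf A) = Nat.card ↥(A ⊓ F.esub) := by
      rw [← inf_subgroupOf_left]
      exact Nat.card_congr (subgroupOfEquivOfLe inf_le_left).toEquiv
    rw [e4, hAc] at h3
    have h4 : F.esub.relIndex R = 3 := by omega
    rw [h4] at h1
    have : Nat.card ↥(A ⊓ F.esub) * F.esub.relIndex A ≤ 9 * 3 := Nat.mul_le_mul h9 h1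
    omega
  have hnorm : ∀ g ∈ F.cu, (∀ r ∈ R, g * r * g⁻¹ ∈ R) → g ∈ F.lu := by
    intro g hg hgn
    refine ⟨hg, fun e he => ?_⟩
    have h := huniq (F.esub.map (MulAut.conj g).toMonoidHom) ?_ ?_ ?_
    · rw [← h]; exact ⟨e, he, rfl⟩
    · rintro _ ⟨x, hx, rfl⟩; exact hgn x (hER hx)
    · rw [card_map_of_injective (MulEquiv.injective _), C.card_esub S]
    · rintro _ ⟨x, hx, rfl⟩ _ ⟨y, hy, rfl⟩
      exact (C.esub_comm S hx hy).map (MulAut.conj g).toMonoidHom
  refine ⟨⟨R, C.coord (0, 1, 1, 1), hRle, hcR, hER, hnorm, ?_, hER (C.coord_mem S _), ?_, ?_, hfix⟩⟩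
  · intro h
    have hcR' : Nat.card ↥(R.subgroupOf F.cu) = 3 ^ 5 := by
      rw [Nat.card_congr (subgroupOfEquivOfLe (hRle.trans F.lu_le_cu)).toEquiv, hcR]; norm_num
    obtain ⟨K, hK, hKle⟩ := Sylow.exists_subgroup_card_pow_succ (by simpa using h) hcR'
    have hnormal : ((R.subgroupOf F.cu).subgroupOf K).Normal := by
      refine normal_of_index_eq_minFac_card ?_
      have h2 := ((R.subgroupOf F.cu).subgroupOf K).card_mul_index
      rw [Nat.card_congr (subgroupOfEquivOfLe hKle).toEquiv, hcR', hK] at h2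
      rw [hK, Nat.pow_minFac (by norm_num), Nat.prime_three.minFac_eq]
      omega
    have hKlu : K.map F.cu.subtype ≤ F.lu := by
      rintro _ ⟨g, hg, rfl⟩
      refine hnorm g g.2 fun r hr => ?_
      have := hnormal.conj_mem ⟨⟨r, (hRle hr).1⟩, hKle (show (⟨r, (hRle hr).1⟩ : F.cu) ∈ R.subgroupOf F.cu from hr)⟩
        (show (⟨r, (hRle hr).1⟩ : F.cu) ∈ R.subgroupOf F.cu from hr) ⟨g, hg⟩
      exact this
    have := card_dvd_of_le hKlu
    rw [card_map_of_injective Subtype.val_injective, hK, C.card_lu S] at this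
    norm_num at this
  · intro r hr
    have hfixn : Commute (C.coord (0, 1, 1, 1)) C.n :=
      (conj_eq_iff_commute.1 (C.conj_coord_n ha S 0 1 1 1)).symm
    have hle : R ≤ centralizer ({C.coord (0, 1, 1, 1)} : Set G) := sup_le
      (fun x hx => mem_centralizer_singleton_iff.2 (C.esub_comm S hx (C.coord_mem S _)))
      (zpowers_le.2 (mem_centralizer_singleton_iff.2 hfixn.symm))
    exact (show Commute r _ from mem_centralizer_singleton_iff.1 (hle hr)).symm
  · intro hmem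
    obtain ⟨k, hk⟩ := mem_powers_iff_mem_zpowers.2 hmem
    dsimp only at hk
    have : C.coord (⟨k % 3, Nat.mod_lt _ (by norm_num)⟩, 0, 0, 0) = C.coord (0, 1, 1, 1) := by
      rw [← hk, pow_mod_three F.u_code.1]
      simp [coord]
    have := C.coord_inj S this
    simp at this

include C in
/-- Centralisers of the remaining inverted elements have odd order. -/
theorem cent_odd (S : Setting z₀) {w : G} (hw : w ∈ invSet F.cu z) (hE : w ∉ F.esub) :
    Odd (Nat.card ↥(F.cu ⊓ centralizer ({w} : Set G))) := by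
  classical
  haveI := Fintype.ofFinite G
  by_contra h
  rw [Nat.not_odd_iff_even, even_iff_two_dvd] at h
  haveI : Fact (Nat.Prime 2) := ⟨Nat.prime_two⟩
  obtain ⟨⟨y, hyuw⟩, hy⟩ := exists_prime_orderOf_dvd_card' (G := ↥(F.cu ⊓ centralizer ({w} : Set G))) 2 h
  replace hy : orderOf y = 2 := (Subgroup.orderOf_coe ⟨y, hyuw⟩).trans hy
  obtain ⟨hyu, hyw⟩ := mem_inf.1 hyuw
  have hy2 : y * y = 1 := by rw [← pow_two, ← hy, pow_orderOf_eq_one]
  have hy1 : y ≠ 1 := fun e => by rw [e, orderOf_one] at hy; omega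
  obtain ⟨k, hk, rfl⟩ := C.cu_conj ⟨hyu, hy2, hy1⟩
  replace hyw : Commute (k * z * k⁻¹) w := mem_centralizer_singleton_iff.1 hyw
  obtain ⟨hwu, hwo, hwi⟩ := hw
  set w' := k⁻¹ * w * k with hw'
  have hwk : w = k * w' * k⁻¹ := by rw [hw']; group
  have hw'z : Commute w' z := by
    show _ = _
    calc k⁻¹ * w * k * z = k⁻¹ * (w * (k * z * k⁻¹)) * k := by group
      _ = k⁻¹ * ((k * z * k⁻¹) * w) * k := by rw [hyw.eq]
      _ = _ := by rw [hw']; group
  have hw'o : Odd (orderOf w') := by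
    have e := orderOf_injective (MulAut.conj k⁻¹).toMonoidHom (MulEquiv.injective _) w
    simp only [MulEquiv.coe_toMonoidHom, MulAut.conj_apply, inv_inv] at e
    rw [hw', e]; exact hwo
  have hw'P : w' ∈ F.psub := F.cu_odd_fix (mul_mem (mul_mem (inv_mem hk) hwu) hk) hw'z hw'o
  have hw'u : w' ∉ zpowers (F.f 150) := by
    intro h'
    refine hE ?_
    obtain ⟨i, hi⟩ := h'
    dsimp only at hi
    rw [hwk, ← hi, conj_eq_iff_commute.2 ((F.mem_cu.1 hk).zpow_right i)]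
    exact zpow_mem (F.psub_le_esub u_mem) i
  have hcent : ∀ g ∈ F.cu, Commute g w' → g ∈ F.cp := fun g hg hgw =>
    F.psub_cent hw'P hw'u (F.mem_cu.1 hg) hgw
  set y := k⁻¹ * z * k with hy'
  have hyy : y * y = 1 := by
    calc k⁻¹ * z * k * (k⁻¹ * z * k) = k⁻¹ * (z * z) * k := by group
      _ = 1 := by rw [F.centre_sq]; group
  have hyu' : y ∈ F.cu := mul_mem (mul_mem (inv_mem hk) F.z_mem_cu) hk
  have hyinv : y * w' * y⁻¹ = w'⁻¹ := by
    calc k⁻¹ * z * k * (k⁻¹ * w * k) * (k⁻¹ * z * k)⁻¹ = k⁻¹ * (z * w * z⁻¹) * k := by group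
      _ = _ := by rw [hwi, hw']; group
  have hyl : y ∈ F.lu := by
    refine ⟨hyu', fun e he => F.mem_esub.2 ⟨hcent _ ?_ ?_, ?_⟩⟩
    · exact mul_mem (mul_mem hyu' (C.esub_le_cu S he)) (inv_mem hyu')
    · have h1 : Commute e w' := C.esub_comm S he (F.psub_le_esub hw'P)
      have h2 : Commute (y * e * y⁻¹) (y * w' * y⁻¹) := by
        show _ = _
        rw [conj_mul, conj_mul, h1.eq]
      rw [hyinv] at h2
      simpa using h2.inv_right
    · have e' := orderOf_injective (MulAut.conj y).toMonoidHom (MulEquiv.injective _) e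
      simp only [MulEquiv.coe_toMonoidHom, MulAut.conj_apply] at e'
      rw [e']; exact (F.mem_esub.1 he).2
  obtain ⟨l, hl, hle⟩ := C.conj_in F.lu_le_cu F.centre_le_lu (C.n_mem_lu S) ⟨hyl, hyy, fun e => F.centre_ne (by
    calc z = k * (k⁻¹ * z * k) * k⁻¹ := by group
      _ = 1 := by rw [← hy', e]; group)⟩
  have hkl : k * l ∈ F.lu := by
    refine F.centre_le_lu _ (mul_mem hk hl.1) (conj_eq_iff_commute.1 ?_)
    rw [show k * l * z * (k * l)⁻¹ = k * (l * z * l⁻¹) * k⁻¹ by group, hle, hy']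
    group
  have hkL : k ∈ F.lu := by simpa using mul_mem hkl (inv_mem hl)
  exact hE (hwk ▸ hkL.2 _ (F.psub_le_esub hw'P))

include C in
/-- Inverted elements of three-power order lie in `esub`. -/
theorem three_inv (S : Setting z₀) {w : G} (hw : w ∈ invSet F.cu z) {k : ℕ} (hk : w ^ (3 ^ k) = 1) :
    w ∈ F.esub := by
  classical
  haveI : Fact (Nat.Prime 3) := ⟨Nat.prime_three⟩
  haveI : Fact (Nat.Prime 2) := ⟨Nat.prime_two⟩
  by_contra hE
  obtain ⟨T⟩ := C.exists_sylU S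
  obtain ⟨hwu, hwo, hwi⟩ := id hw
  have hRcu : T.R ≤ F.cu := T.le.trans F.lu_le_cu
  obtain ⟨g, hg, hgw⟩ := sylow3_conj hRcu T.card T.not729 (zpowers_le.2 hwu) (X := zpowers w) (by
    obtain ⟨m, -, hm⟩ := (Nat.dvd_prime_pow Nat.prime_three).1 (orderOf_dvd_of_pow_eq_one hk)
    exact IsPGroup.of_card (n := m) ((Nat.card_zpowers w).trans hm))
  set D := F.cu ⊓ centralizer ({w} : Set G) with hD
  have hDodd := C.cent_odd S hw hE
  set c := g⁻¹ * T.c * g with hc
  have hcD : c ∈ D := by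
    refine mem_inf.2 ⟨mul_mem (mul_mem (inv_mem hg) (hRcu T.c_mem)) hg, mem_centralizer_singleton_iff.2 ?_⟩
    have h := T.c_central _ (hgw w (mem_zpowers w))
    calc g⁻¹ * T.c * g * w = g⁻¹ * (T.c * (g * w * g⁻¹)) * g := by group
      _ = g⁻¹ * ((g * w * g⁻¹) * T.c) * g := by rw [h.eq]
      _ = _ := by rw [hc]; group
  have hnorm : ∀ x ∈ D, z * x * z⁻¹ ∈ D := by
    intro x hxD
    obtain ⟨hx, hxw⟩ := mem_inf.1 hxD
    refine mem_inf.2 ⟨mul_mem (mul_mem F.z_mem_cu hx) (inv_mem F.z_mem_cu), mem_centralizer_singleton_iff.2 ?_⟩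
    have h1 : Commute x w := mem_centralizer_singleton_iff.1 hxw
    have h2 : Commute (z * x * z⁻¹) (z * w * z⁻¹) := by show _ = _; rw [conj_mul, conj_mul, h1.eq]
    rw [hwi] at h2
    exact (Commute.inv_right_iff.1 h2).eq
  obtain ⟨f, j, hfD, hfz, ⟨hjD, hji⟩, e⟩ := RankOne.exists_decomp F.centre_sq hDodd hnorm hcD
  -- the fixed part is a power of `u`
  have hfu : f ∈ zpowers (F.f 150) := by
    have hle : zpowers (F.f 150) ≤ (F.cu ⊓ centralizer ({z} : Set G)) ⊓ centralizer ({w} : Set G) :=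
      zpowers_le.2 ⟨⟨F.psub_le_cu u_mem, mem_centralizer_singleton_iff.2 (F.psub_z u_mem)⟩,
        mem_centralizer_singleton_iff.2 (F.mem_cu.1 hwu).symm⟩
    rw [eq_of_le_of_card_ge hle (by rw [C.stab_three S hw hE, Nat.card_zpowers,
      orderOf_cube F.u_code.1 F.u_code.2])]
    exact ⟨⟨hfD.1, RankOne.mem_centralizer_iff_conj.2 hfz⟩, hfD.2⟩
  have hj1 : j ≠ 1 := by
    intro hj
    rw [hj, mul_one] at e
    refine T.c_not_u ?_
    obtain ⟨i, hi⟩ := hfu
    dsimp only at hi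
    refine ⟨i, ?_⟩
    show F.f 150 ^ i = T.c
    calc F.f 150 ^ i = g * F.f 150 ^ i * g⁻¹ := (conj_eq_iff_commute.2 ((F.mem_cu.1 hg).zpow_right i)).symm
      _ = T.c := by rw [hi, ← e, hc]; group
  have hjo : Odd (orderOf j) := RankOne.odd_orderOf hDodd hjD
  -- the element `e₁`, central in the Sylow subgroup
  set e₁ := g * j * g⁻¹ with he₁
  set y := g * z * g⁻¹ with hy
  have hR_e : ∀ r ∈ T.R, Commute r e₁ := by
    intro r hr
    obtain ⟨i, hi⟩ := hfu
    dsimp only at hi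
    have hgf : g * f * g⁻¹ = f := by rw [← hi, conj_eq_iff_commute.2 ((F.mem_cu.1 hg).zpow_right i)]
    have e₁' : e₁ = f⁻¹ * T.c := by
      rw [he₁, show j = f⁻¹ * c by rw [e, inv_mul_cancel_left], ← conj_mul, ← conj_inv, hgf, hc]
      group
    rw [e₁']
    exact (hi ▸ ((F.mem_cu.1 (hRcu hr)).zpow_right i)).inv_right.mul_right (T.c_central r hr).symm
  have hyu : y ∈ F.cu := mul_mem (mul_mem hg F.z_mem_cu) (inv_mem hg)
  have hye : y * e₁ * y⁻¹ = e₁⁻¹ := by
    rw [hy, he₁, show g * z * g⁻¹ * (g * j * g⁻¹) * (g * z * g⁻¹)⁻¹ = g * (z * j * z⁻¹) * g⁻¹ by group, hji,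
      conj_inv]
  set D2 := F.cu ⊓ centralizer ({e₁} : Set G) with hD2
  have hRD2 : T.R ≤ D2 := fun r hr => ⟨hRcu hr, mem_centralizer_singleton_iff.2 (hR_e r hr)⟩
  have hyD2 : ∀ x ∈ T.R.map (MulAut.conj y).toMonoidHom, x ∈ D2 := by
    rintro _ ⟨r, hr, rfl⟩
    refine mem_inf.2 ⟨mul_mem (mul_mem hyu (hRcu hr)) (inv_mem hyu), mem_centralizer_singleton_iff.2 ?_⟩
    have h2 : Commute (y * r * y⁻¹) (y * e₁ * y⁻¹) := by show _ = _; rw [conj_mul, conj_mul, (hR_e r hr).eq]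
    rw [hye] at h2
    exact (Commute.inv_right_iff.1 h2).eq
  obtain ⟨h, hh, hhR⟩ := sylow3_conj hRD2 T.card
    (fun hd => T.not729 (hd.trans (card_dvd_of_le inf_le_left))) hyD2
    ((IsPGroup.of_card (n := 5) T.card).map _)
  -- an element normalising `R` and inverting `e₁`
  set g' := h * y with hg'
  have hg'u : g' ∈ F.cu := mul_mem hh.1 hyu
  have hg'R : ∀ r ∈ T.R, g' * r * g'⁻¹ ∈ T.R := by
    intro r hr
    have := hhR _ ⟨r, hr, rfl⟩
    simpa [hg', mul_assoc] using this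
  have hg'e : g' * e₁ * g'⁻¹ = e₁⁻¹ := by
    rw [hg', show h * y * e₁ * (h * y)⁻¹ = h * (y * e₁ * y⁻¹) * h⁻¹ by group, hye,
      conj_eq_iff_commute.2 (show Commute h e₁ from mem_centralizer_singleton_iff.1 (mem_inf.1 hh).2).inv_right]
  obtain ⟨a, m, hm, ea⟩ := Nat.exists_eq_pow_mul_and_not_dvd (orderOf_pos g').ne' 2 (by norm_num)
  set h2 := g' ^ m with hh2
  have hinv : h2 * e₁ * h2⁻¹ = e₁⁻¹ := by
    obtain ⟨q, rfl⟩ : Odd m := Nat.odd_iff.2 (by omega)
    have hcomm : Commute (g' * g') e₁ := by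
      refine conj_eq_iff_commute.1 ?_
      rw [show g' * g' * e₁ * (g' * g')⁻¹ = g' * (g' * e₁ * g'⁻¹) * g'⁻¹ by group, hg'e, ← conj_inv, hg'e, inv_inv]
    rw [hh2, pow_succ', pow_mul, pow_two,
      show g' * (g' * g') ^ q * e₁ * (g' * (g' * g') ^ q)⁻¹ =
        g' * ((g' * g') ^ q * e₁ * ((g' * g') ^ q)⁻¹) * g'⁻¹ by group, conj_eq_iff_commute.2 (hcomm.pow_left q), hg'e]
  have hh2u : h2 ∈ F.cu := pow_mem hg'u m
  have hh2R : ∀ r ∈ T.R, h2 * r * h2⁻¹ ∈ T.R := conj_pow_mem hg'R m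
  have hpow : h2 ^ 2 ^ a = 1 := by rw [hh2, ← pow_mul, mul_comm, ← ea, pow_orderOf_eq_one]
  obtain ⟨b, -, hb⟩ := (Nat.dvd_prime_pow Nat.prime_two).1 (orderOf_dvd_of_pow_eq_one hpow)
  have he1 : e₁ ≠ 1 := fun e' => hj1 (conj_eq_one_iff.1 e')
  have heo : Odd (orderOf e₁) := by
    have e' := orderOf_injective (MulAut.conj g).toMonoidHom (MulEquiv.injective _) j
    simp only [MulEquiv.coe_toMonoidHom, MulAut.conj_apply] at e'
    rw [he₁, e']; exact hjo
  have h21 : h2 ≠ 1 := by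
    intro e'
    rw [e', one_mul, inv_one, mul_one] at hinv
    exact he1 (RankOne.sq_inj heo (by simp) (by rw [mul_one]; exact mul_eq_one_iff_eq_inv.2 hinv))
  have hb1 : 1 ≤ b := by
    by_contra hb'
    rw [show b = 0 by omega, pow_zero, orderOf_eq_one_iff] at hb
    exact h21 hb
  set c2 := h2 ^ 2 ^ (b - 1) with hc2
  have hc22 : c2 * c2 = 1 := by
    rw [hc2, ← pow_add, ← two_mul, ← pow_succ', show b - 1 + 1 = b by omega, ← hb, pow_orderOf_eq_one]
  have hc21 : c2 ≠ 1 := by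
    refine pow_ne_one_of_lt_orderOf (by positivity) ?_
    rw [hb]
    exact Nat.pow_lt_pow_right (by norm_num) (by omega)
  obtain ⟨k2, hk2, hk2e⟩ := C.cu_conj ⟨pow_mem hh2u _, hc22, hc21⟩
  have hh6 : h2 ^ 6 = 1 := by
    have hcz : Commute (k2⁻¹ * h2 * k2) z := by
      have h' : Commute h2 (k2 * z * k2⁻¹) := hk2e ▸ Commute.self_pow h2 _
      show _ = _
      calc k2⁻¹ * h2 * k2 * z = k2⁻¹ * (h2 * (k2 * z * k2⁻¹)) * k2 := by group
        _ = _ := by rw [h'.eq]; group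
    have := F.cu_six (mul_mem (mul_mem (inv_mem hk2) hh2u) hk2) hcz
    rw [show k2⁻¹ * h2 * k2 = k2⁻¹ * h2 * k2⁻¹⁻¹ by rw [inv_inv], conj_pow] at this
    exact conj_eq_one_iff.1 this
  have hsq : h2 * h2 = 1 := by
    have h1 : orderOf h2 ∣ Nat.gcd (2 ^ a) 6 :=
      Nat.dvd_gcd (orderOf_dvd_of_pow_eq_one hpow) (orderOf_dvd_of_pow_eq_one hh6)
    have h2' : Nat.gcd (2 ^ a) 6 ∣ 2 := by
      have hc : Nat.Coprime (Nat.gcd (2 ^ a) 6) 3 :=
        Nat.Coprime.coprime_dvd_left (Nat.gcd_dvd_left _ _) ((show Nat.Coprime 2 3 by decide).pow_left a)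
      exact hc.dvd_of_dvd_mul_right (Nat.gcd_dvd_right (2 ^ a) 6)
    rw [← pow_two]; exact orderOf_dvd_iff_pow_eq_one.1 (h1.trans h2')
  exact C.no_invol_norm S T.le T.card ⟨T.norm h2 hh2u hh2R, hsq, h21⟩ hh2R

end Cycle

end Cfsg.Agent.U43T
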