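import Cfsg.Agent.Lib.U43T.UOne
import Mathlib.GroupTheory.PGroup

/-!
The normaliser of `esub` inside the centraliser of `150`.
-/

set_option autoImplicit false
set_option linter.unusedSectionVars false

namespace Cfsg.Agent.U43T

open Subgroup

variable {G : Type*} [Group G] [Finite G] {z z₀ : G}

theorem inU_psub : ∀ g : Fin 1152, mulH g 150 = mulH 150 g → ∀ a ∈ pList, cjH g a ∈ pList := by decide +kernel

theorem cent_four_three : ∀ g : Fin 1152, mulH g 150 = mulH 150 g → mulH g 576 = mulH 576 g →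
    mulH (mulH g g) g = 0 → mulH g 153 = mulH 153 g := by decide +kernel

theorem u1_cent_invol : ∀ a ∈ [(144 : ℕ), 216, 6, 9], ∀ g : Fin 1152, mulH g a = mulH a g → sqH g = 0 →
    (g : ℕ) = 0 ∨ (g : ℕ) = 12 := by decide +kernel

theorem u1_products : mulH 153 150 ∈ [(144 : ℕ), 216, 6, 9] ∧ mulH 153 225 ∈ [(144 : ℕ), 216, 6, 9] := by
  decide +kernel

namespace Frame

variable (F : Frame z)

/-- Such an element commutes with no four group. -/
theorem not_uty {a : ℕ} (ha : a ∈ [(144 : ℕ), 216, 6, 9]) : ¬ UTy (F.f a) := by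
  have ha' : a < 1152 := by simp only [List.mem_cons, List.not_mem_nil, or_false] at ha; omega
  have honly : ∀ y, Commute y z → Commute y (F.f a) → y * y = 1 → y ≠ 1 → y = z := by
    intro y hyz hya hy2 hy1
    obtain ⟨g, hg, rfl⟩ := F.surj y hyz
    rcases u1_cent_invol a ha ⟨g, hg⟩ ((F.commute_iff hg ha').1 hya) ((F.sq_eq_one_iff hg).1 hy2) with h | h <;>
      simp only at h <;> subst h
    · exact absurd F.f0 hy1
    · exact F.fz
  rintro ⟨-, -, p, q, p2, p1, q2, q1, hpq, cpq, cpx, cqx⟩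
  have hzx : Commute z (F.f a) := (F.comm a ha').symm
  by_cases he : Even (orderOf (z * p))
  · obtain ⟨k, k2, k1, kz, kp⟩ := half_power F.centre_sq p2 he
    have hcz := honly _ kz ((hzx.mul_left cpx).pow_left k) k2 k1
    rw [hcz] at kp
    have := honly p kp.symm cpx p2 p1
    rw [this, F.centre_sq, orderOf_one] at he
    exact absurd he (by decide)
  · obtain ⟨m, hm⟩ := RankOne.exists_sqrt (Nat.not_even_iff_odd.1 he)
    set w := (z * p) ^ m with hw
    have hwx : Commute w (F.f a) := (hzx.mul_left cpx).pow_left m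
    have hwz : z * w * z⁻¹ = w⁻¹ := by
      rw [hw, ← conj_pow, show z * (z * p) * z⁻¹ = (z * p)⁻¹ by
        rw [mul_inv_rev, invol_inv F.centre_sq, invol_inv p2, ← mul_assoc, F.centre_sq, one_mul], inv_pow]
    have hp : p = w⁻¹ * z * w := by
      have hwz' : w⁻¹ * z = z * w := by rw [← hwz]; group
      rw [hwz', mul_assoc, hm, ← mul_assoc, F.centre_sq, one_mul]
    have hq := honly (w * q * w⁻¹) ?_ ((hwx.mul_left cqx).mul_left hwx.inv_left)
      (by rw [conj_mul, q2, mul_one, mul_inv_cancel]) (fun e => q1 (conj_eq_one_iff.1 e))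
    · refine hpq ?_
      calc p = w⁻¹ * (w * q * w⁻¹) * w := by rw [hq]; exact hp
        _ = q := by group
    · rw [hp] at cpq
      show _ = _
      calc w * q * w⁻¹ * z = w * (q * (w⁻¹ * z * w)) * w⁻¹ := by group
        _ = _ := by rw [← cpq.eq]; group

/-- The normaliser of `esub` in the centraliser of `150`. -/
def lu : Subgroup G where
  carrier := {g | g ∈ F.cu ∧ ∀ e ∈ F.esub, g * e * g⁻¹ ∈ F.esub}
  one_mem' := ⟨one_mem _, fun e he => by simpa using he⟩
  mul_mem' := fun {a b} ha hb => ⟨mul_mem ha.1 hb.1, fun e he => by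
    rw [show a * b * e * (a * b)⁻¹ = a * (b * e * b⁻¹) * a⁻¹ by group]; exact ha.2 _ (hb.2 e he)⟩
  inv_mem' := fun {a} ha => by
    have hpow : ∀ k : ℕ, ∀ e ∈ F.esub, a ^ k * e * (a ^ k)⁻¹ ∈ F.esub := by
      intro k
      induction k with
      | zero => intro e he; simpa using he
      | succ k ih =>
        intro e he
        rw [show a ^ (k + 1) * e * (a ^ (k + 1))⁻¹ = a ^ k * (a * e * a⁻¹) * (a ^ k)⁻¹ by rw [pow_succ]; group]
        exact ih _ (ha.2 e he)
    refine ⟨inv_mem ha.1, ?_⟩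
    have e1 : a⁻¹ = a ^ (orderOf a - 1) := by
      refine inv_eq_of_mul_eq_one_right ?_
      rw [← pow_succ', Nat.sub_add_cancel (orderOf_pos a), pow_orderOf_eq_one]
    rw [e1]; exact hpow _

theorem lu_le_cu : F.lu ≤ F.cu := fun _ h => h.1

theorem centre_le_lu : ∀ g ∈ F.cu, Commute g z → g ∈ F.lu := by
  intro g hg hz
  refine ⟨hg, fun e he => F.esub_conj (fun p hp => ?_) he⟩
  obtain ⟨k, hk, rfl⟩ := F.surj g hz
  obtain ⟨a, ha, rfl⟩ := hp
  exact ⟨_, inU_psub ⟨k, hk⟩ (by simpa [inU] using (F.inU_iff hk).2 hg) a ha, F.f_cjH hk (pList_lt a ha)⟩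

theorem z_mem_lu : z ∈ F.lu := F.centre_le_lu z F.z_mem_cu (Commute.refl z)

theorem z_not_esub : z ∉ F.esub := fun h => by
  have := (F.mem_esub.1 h).2
  rw [F.orderOf_centre] at this
  exact absurd this (by decide)

end Frame

namespace Cycle

variable {F : Frame z} (C : Cycle F)

include C in
/-- A cycle of three-power order. -/
theorem exists_three : ∃ C' : Cycle F, ∃ a : ℕ, C'.n ^ (3 ^ a) = 1 := by
  obtain ⟨a, m, hm, e⟩ := Nat.exists_eq_pow_mul_and_not_dvd (orderOf_pos C.n).ne' 3 (by norm_num)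
  obtain ⟨j, hj, hdvd⟩ : ∃ j, j % 3 = 1 ∧ m ∣ j := by
    by_cases h : m % 3 = 1
    · exact ⟨m, h, dvd_rfl⟩
    · exact ⟨2 * m, by omega, dvd_mul_left m 2⟩
  have hc : ∀ {x : G}, C.n * (C.n * (C.n * x * C.n⁻¹) * C.n⁻¹) * C.n⁻¹ = x →
      C.n ^ j * x * (C.n ^ j)⁻¹ = C.n * x * C.n⁻¹ := by
    intro x hx
    have h3 : Commute (C.n ^ 3) x := conj_eq_iff_commute.1 (by
      rw [← hx]; nth_rw 1 [hx]; rw [pow_succ, pow_two]; group)
    rw [show j = 1 + 3 * (j / 3) by omega, pow_add, pow_one, pow_mul, mul_inv_rev,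
      show C.n * (C.n ^ 3) ^ (j / 3) * x * (((C.n ^ 3) ^ (j / 3))⁻¹ * C.n⁻¹) =
        C.n * ((C.n ^ 3) ^ (j / 3) * x * ((C.n ^ 3) ^ (j / 3))⁻¹) * C.n⁻¹ by group,
      conj_eq_iff_commute.2 (h3.pow_left _)]
  refine ⟨⟨C.Ft, C.ft576, C.ft150, C.n ^ j, ?_, ?_, ?_, C.nu.pow_left j⟩, a, ?_⟩
  · rw [hc (by rw [C.nz, C.nt, C.ns]), C.nz]
  · rw [hc (by rw [C.nt, C.ns, C.nz]), C.nt]
  · rw [hc (by rw [C.ns, C.nz, C.nt]), C.ns]
  · obtain ⟨q, rfl⟩ := hdvd
    rw [← pow_mul, show m * q * 3 ^ a = 3 ^ a * m * q by ring, ← e, pow_mul, pow_orderOf_eq_one, one_pow]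

theorem n_mem_lu (S : Setting z₀) : C.n ∈ F.lu := ⟨C.n_mem_cu, fun _ he => C.n_esub S he⟩

include C in
theorem esub_le_lu (S : Setting z₀) : F.esub ≤ F.lu := fun _ hx =>
  ⟨C.esub_le_cu S hx, fun e he => mul_mem (mul_mem hx he) (inv_mem hx)⟩

/-- The inverted part of `esub`. -/
theorem inverted_eq (S : Setting z₀) :
    {e | e ∈ F.esub ∧ z * e * z⁻¹ = e⁻¹} = Set.range (fun v : Fin 3 × Fin 3 => C.coord (0, 0, v.1, v.2)) := by
  ext e
  constructor
  · rintro ⟨he, hi⟩
    obtain ⟨k, l, rfl⟩ := C.inverted_coord S he hi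
    exact ⟨(k, l), by simp [coord]⟩
  · rintro ⟨⟨k, l⟩, rfl⟩
    refine ⟨C.coord_mem S _, ?_⟩
    rw [C.conj_z_coord]
    simp only [coord, Fin.val_zero, pow_zero, one_mul]
    rw [mul_inv_rev, inv_pow, inv_pow]
    exact (C.esub_comm S (inv_mem (pow_mem (C.xt_mem_esub S) _)) (inv_mem (pow_mem (C.xs_mem_esub S) _))).eq

include C in
theorem ncard_inverted (S : Setting z₀) : {e | e ∈ F.esub ∧ z * e * z⁻¹ = e⁻¹}.ncard = 9 := by
  rw [C.inverted_eq S, Set.ncard_range_of_injective, Nat.card_eq_fintype_card]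
  · rfl
  · rintro ⟨k, l⟩ ⟨k', l'⟩ h
    have := C.coord_inj S h
    simpa using this

include C in
theorem inverted_sub (S : Setting z₀) {X : Subgroup G} (hX : F.esub ≤ X) :
    {e | e ∈ F.esub ∧ z * e * z⁻¹ = e⁻¹} ⊆ invSet X z :=
  fun _ he => ⟨hX he.1, (F.mem_esub.1 he.1).2, he.2⟩

include C in
/-- The stabilisers on the remaining inverted elements. -/
theorem stab_three (S : Setting z₀) {w : G} (hw : w ∈ invSet F.cu z) (hE : w ∉ F.esub) :
    Nat.card ↥((F.cu ⊓ centralizer ({z} : Set G)) ⊓ centralizer ({w} : Set G)) = 3 := by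
  obtain ⟨hwu, hwo, hwi⟩ := hw
  have hw1 : w ≠ 1 := fun e => hE (e ▸ one_mem _)
  suffices h : (F.cu ⊓ centralizer ({z} : Set G)) ⊓ centralizer ({w} : Set G) = zpowers (F.f 150) by
    rw [h, Nat.card_zpowers, orderOf_cube F.u_code.1 F.u_code.2]
  refine le_antisymm ?_ (zpowers_le.2 ⟨⟨F.psub_le_cu u_mem, mem_centralizer_singleton_iff.2 (F.psub_z u_mem)⟩,
    mem_centralizer_singleton_iff.2 (F.mem_cu.1 hwu).symm⟩)
  rintro g ⟨⟨hgu, hgz⟩, hgw⟩
  replace hgz : Commute g z := mem_centralizer_singleton_iff.1 hgz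
  replace hgw : Commute g w := mem_centralizer_singleton_iff.1 hgw
  have h6 := F.cu_six hgu hgz
  -- the involution part is trivial
  have h3 : g ^ 3 = 1 := by
    by_contra hne
    by_cases e : g ^ 3 = z
    · have hzw : Commute z w := e ▸ hgw.pow_left 3
      rw [conj_eq_iff_commute.2 hzw] at hwi
      have h2 : w * w = 1 := mul_eq_one_iff_eq_inv.2 hwi
      exact hw1 (RankOne.sq_inj hwo (by simp) (by rw [h2, one_mul]))
    · refine hE (C.odd_fix_axis S (c := g ^ 3) ⟨⟨pow_mem hgu 3, by rw [← pow_add]; exact h6, hne⟩,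
        hgz.pow_left 3, e⟩ hwu hwo (hgw.pow_left 3).symm)
  by_contra hg
  have hgo : Odd (orderOf g) := (show Odd 3 by decide).of_dvd_nat (orderOf_dvd_of_pow_eq_one h3)
  have := F.psub_cent (F.cu_odd_fix hgu hgz hgo) hg (F.mem_cu.1 hwu) hgw.symm
  exact hE (F.mem_esub.2 ⟨this, hwo⟩)

include C in
/-- Free action on the remaining inverted elements. -/
theorem twelve_dvd (S : Setting z₀) {X : Subgroup G} (hle : X ≤ F.cu)
    (hX : ∀ g ∈ F.cu, Commute g z → g ∈ X) : 12 ∣ (invSet X z \ {e | e ∈ F.esub ∧ z * e * z⁻¹ = e⁻¹}).ncard := by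
  have h := index_dvd_ncard (Q := F.cu ⊓ centralizer ({z} : Set G))
    (invSet X z \ {e | e ∈ F.esub ∧ z * e * z⁻¹ = e⁻¹}) 3 ?_ ?_
  · rw [F.card_cu_centre] at h
    omega
  · rintro q ⟨hq, hqz⟩ w ⟨⟨hwX, hwo, hwi⟩, hwE⟩
    replace hqz : Commute q z := mem_centralizer_singleton_iff.1 hqz
    have hqX : q ∈ X := hX q hq hqz
    have hi : z * (q * w * q⁻¹) * z⁻¹ = (q * w * q⁻¹)⁻¹ := by
      rw [show z * (q * w * q⁻¹) * z⁻¹ = (z * q) * w * (z * q)⁻¹ by group, ← hqz.eq,
        show q * z * w * (q * z)⁻¹ = q * (z * w * z⁻¹) * q⁻¹ by group, hwi, conj_inv]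
    refine ⟨⟨mul_mem (mul_mem hqX hwX) (inv_mem hqX), ?_, hi⟩, fun ⟨he, _⟩ => hwE ⟨?_, hwi⟩⟩
    · have e := orderOf_injective (MulAut.conj q).toMonoidHom (MulEquiv.injective _) w
      simp only [MulEquiv.coe_toMonoidHom, MulAut.conj_apply] at e
      rw [e]; exact hwo
    · have := (F.centre_le_lu _ (inv_mem hq) hqz.inv_left).2 _ he
      simpa [mul_assoc] using this
  · rintro w ⟨hw, hwE⟩
    exact C.stab_three S ⟨hle hw.1, hw.2⟩ fun h => hwE ⟨h, hw.2.2⟩

include C in
theorem evenU_le_lu (S : Setting z₀) : evenSet F.cu z ⊆ F.lu := by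
  intro y hy
  obtain ⟨c, hc, hys⟩ := sliceSet_axis F.z_mem_cu F.centre_sq F.centre_ne hy
  obtain ⟨m, m2, m1, -, my⟩ := half_power F.centre_sq hy.1.2.1 hy.2
  rw [invol_zpowers_unique (npow_mem_zpowers _ m) hys.2 m2 m1 hc.1.2.1 hc.1.2.2] at my
  obtain ⟨k, hk, hke⟩ := C.axis_conj_in F.centre_le_lu (C.n_mem_lu S) hc
  have hz : Commute (k⁻¹ * y * k) z := by
    show _ = _
    calc k⁻¹ * y * k * z = k⁻¹ * (y * (k * z * k⁻¹)) * k := by group
      _ = _ := by rw [hke, ← my.eq, ← hke]; group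
  have := mul_mem (mul_mem hk (F.centre_le_lu _ (mul_mem (mul_mem (inv_mem hk.1) hy.1.1) hk.1) hz)) (inv_mem hk)
  simpa [mul_assoc] using this

include C in
/-- Involution counts. -/
theorem ncard_invol_in (S : Setting z₀) {X : Subgroup G} (hle : X ≤ F.cu) (hX : F.lu ≤ X) :
    (involSet X).ncard = 27 + (invSet X z \ {e | e ∈ F.esub ∧ z * e * z⁻¹ = e⁻¹}).ncard := by
  have he : evenSet X z = evenSet F.cu z :=
    Set.Subset.antisymm (fun y hy => ⟨⟨hle hy.1.1, hy.1.2⟩, hy.2⟩)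
      (fun y hy => ⟨⟨hX (C.evenU_le_lu S hy), hy.1.2⟩, hy.2⟩)
  rw [ncard_involSet (hX F.z_mem_lu) F.centre_sq F.centre_ne, he, C.card_evenU S,
    ← Set.ncard_sdiff_add_ncard_of_subset (C.inverted_sub S (fun x hx => hX (C.esub_le_lu S hx))) (Set.toFinite _),
    C.ncard_inverted S]
  omega

include C in
theorem card_cp (S : Setting z₀) : Nat.card F.cp = 162 := by
  have hset : (F.cp : Set G) = (F.esub : Set G) ∪ (fun e => e * z) '' (F.esub : Set G) := by
    ext x
    constructor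
    · intro hx
      rcases F.cp_cases hx with h | h
      · exact Or.inl h
      · exact Or.inr ⟨x * z, h, by simp only; rw [mul_assoc, F.centre_sq, mul_one]⟩
    · rintro (h | ⟨e, he, rfl⟩)
      · exact (F.mem_esub.1 h).1
      · exact mul_mem (F.mem_esub.1 he).1 F.z_mem_cp
  have hd : Disjoint (F.esub : Set G) ((fun e => e * z) '' (F.esub : Set G)) := by
    refine Set.disjoint_left.2 ?_
    rintro x hx ⟨e, he, rfl⟩
    exact F.z_not_esub (by simpa using mul_mem (inv_mem he) hx)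
  have h81 : (F.esub : Set G).ncard = 81 := by
    rw [← Nat.card_coe_set_eq]; exact C.card_esub S
  rw [show Nat.card F.cp = (F.cp : Set G).ncard from Nat.card_coe_set_eq _, hset, Set.ncard_union_eq hd,
    Set.ncard_image_of_injective _ (mul_left_injective z), h81]

theorem x153_not_u : F.f 153 ∉ zpowers (F.f 150) := by
  intro h
  obtain ⟨k, hk⟩ := mem_powers_iff_mem_zpowers.2 h
  dsimp only at hk
  rw [pow_mod_three F.u_code.1] at hk
  have := Nat.mod_lt k (show 0 < 3 by norm_num)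
  interval_cases hk' : k % 3
  · rw [pow_zero, ← F.f0] at hk
    exact absurd (F.inj 0 153 (by norm_num) (by norm_num) hk) (by norm_num)
  · rw [pow_one] at hk
    exact absurd (F.inj 150 153 (by norm_num) (by norm_num) hk) (by norm_num)
  · rw [pow_two, ← F.mul _ _ (by norm_num) (by norm_num), show mulH 150 150 = 225 by decide +kernel] at hk
    exact absurd (F.inj 225 153 (by norm_num) (by norm_num) hk) (by norm_num)

include C in
theorem n_not_esub : C.n ∉ F.esub := by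
  intro h
  have hzE : z * C.n⁻¹ * z⁻¹ ∈ F.esub := F.esub_conj (fun p hp => by
    rw [conj_eq_iff_commute.2 (F.psub_z hp).symm]; exact hp) (inv_mem h)
  have e : C.n * (z * C.n⁻¹ * z⁻¹) = F.f 576 * z := by
    rw [F.centre_inv, ← C.nz]; group
  have ho := (F.mem_esub.1 (e ▸ mul_mem h hzE)).2
  rw [← F.f588.2] at ho
  obtain ⟨h2, h1, -⟩ := F.outer_code (g := 588) (by norm_num) (by decide +kernel) (by norm_num) (by norm_num)
  rw [orderOf_eq_prime (by rw [pow_two, h2]) h1] at ho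
  exact absurd ho (by decide)

include C in
theorem isP_sup (S : Setting z₀) {a : G} (ha : a ∈ F.lu) {k : ℕ} (hk : a ^ (3 ^ k) = 1) :
    IsPGroup 3 ↥(F.esub ⊔ zpowers a) := by
  haveI : Fact (Nat.Prime 3) := ⟨Nat.prime_three⟩
  obtain ⟨m, -, hm⟩ := (Nat.dvd_prime_pow Nat.prime_three).1 (orderOf_dvd_of_pow_eq_one hk)
  refine IsPGroup.to_sup_of_normal_left' (IsPGroup.of_card (n := 4) (C.card_esub S))
    (IsPGroup.of_card (n := m) ((Nat.card_zpowers a).trans hm)) ?_
  · refine zpowers_le.2 (mem_normalizer_iff.2 fun e => ⟨ha.2 e, fun h => ?_⟩)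
    have := (inv_mem ha : a⁻¹ ∈ F.lu).2 _ h
    simpa [mul_assoc] using this

include C in
theorem card_lu (S : Setting z₀) : Nat.card F.lu = 972 := by
  obtain ⟨C', a, ha⟩ := C.exists_three
  haveI : Fact (Nat.Prime 3) := ⟨Nat.prime_three⟩
  -- divisibility by 243
  have hR : F.esub ⊔ zpowers C'.n ≤ F.lu := sup_le (C.esub_le_lu S) (zpowers_le.2 (C'.n_mem_lu S))
  obtain ⟨r, hr⟩ := IsPGroup.iff_card.1 (C'.isP_sup S (C'.n_mem_lu S) ha)
  have hlt : 81 < Nat.card ↥(F.esub ⊔ zpowers C'.n) := by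
    rw [← C.card_esub S]
    refine lt_of_le_of_ne (card_le_of_le le_sup_left) fun e => C'.n_not_esub ?_
    rw [eq_of_le_of_card_ge le_sup_left e.ge]
    exact SetLike.le_def.1 le_sup_right (mem_zpowers C'.n)
  have h243 : 243 ∣ Nat.card F.lu := by
    refine dvd_trans ?_ (card_dvd_of_le hR)
    rw [hr] at hlt ⊢
    have : 5 ≤ r := by
      by_contra h
      have := Nat.pow_le_pow_right (show 0 < 3 by norm_num) (show r ≤ 4 by omega)
      omega
    exact pow_dvd_pow 3 this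
  -- the involution count
  have h36 := C.card_in F.lu_le_cu F.centre_le_lu (C.n_mem_lu S)
  rw [C.ncard_invol_in S F.lu_le_cu le_rfl] at h36
  obtain ⟨j, hj⟩ := C.twelve_dvd S F.lu_le_cu F.centre_le_lu
  rw [hj] at h36
  -- the orbit of `153`
  set O : Set G := {y | ∃ g ∈ F.lu, g * F.f 153 * g⁻¹ = y} with hO
  have hxl : F.f 153 ∈ F.lu := C.esub_le_lu S (F.psub_le_esub x_mem)
  have hst : F.lu ⊓ centralizer ({F.f 153} : Set G) = F.cp := by
    refine le_antisymm ?_ ?_
    · rintro g ⟨hg, hgx⟩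
      exact F.psub_cent x_mem x153_not_u (F.mem_cu.1 hg.1) (mem_centralizer_singleton_iff.1 hgx)
    · intro g hg
      refine ⟨?_, mem_centralizer_singleton_iff.2 (F.cp_comm_psub hg x_mem)⟩
      rcases F.cp_cases hg with h | h
      · exact C.esub_le_lu S h
      · have := mul_mem (C.esub_le_lu S h) F.z_mem_lu
        rwa [mul_assoc, F.centre_sq, mul_one] at this
  have horb := card_mul_ncard_conj hxl O fun y => Iff.rfl
  rw [hst, C.card_cp S] at horb
  have h26 : 3 * O.ncard ≤ 78 := by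
    have hmap : Set.MapsTo (fun p : G × ℕ => p.1 * F.f 150 ^ p.2) (O ×ˢ Set.Iio 3)
        ((F.esub : Set G) \ (zpowers (F.f 150) : Set G)) := by
      rintro ⟨y, i⟩ ⟨⟨g, hg, rfl⟩, -⟩
      refine ⟨mul_mem (hg.2 _ (F.psub_le_esub x_mem)) (pow_mem (F.psub_le_esub u_mem) i), fun h => x153_not_u (F := F) ?_⟩
      have hy : g * F.f 153 * g⁻¹ ∈ zpowers (F.f 150) :=
        (mul_mem_cancel_right (npow_mem_zpowers _ i)).1 h
      obtain ⟨k, hk⟩ := hy
      dsimp only at hk
      refine ⟨k, ?_⟩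
      show F.f 150 ^ k = F.f 153
      calc F.f 150 ^ k = g⁻¹ * (F.f 150 ^ k) * g := by
            rw [mul_assoc, ← ((F.mem_cu.1 hg.1).zpow_right k).eq, inv_mul_cancel_left]
        _ = _ := by rw [hk]; group
    have hinj : Set.InjOn (fun p : G × ℕ => p.1 * F.f 150 ^ p.2) (O ×ˢ Set.Iio 3) := by
      rintro ⟨y, i⟩ ⟨⟨g, hg, rfl⟩, hi⟩ ⟨y', i'⟩ ⟨⟨g', hg', rfl⟩, hi'⟩ e
      simp only [Set.mem_Iio] at hi hi'
      dsimp only at e
      -- the two elements differ by a power of `u`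
      have hu3 : F.f 150 ^ 3 = 1 := by rw [pow_succ, pow_two]; exact F.u_code.1
      set d := (i + 2 * i') % 3 with hd
      have e2 : g' * F.f 153 * g'⁻¹ = g * F.f 153 * g⁻¹ * F.f 150 ^ d := by
        rw [hd, ← pow_mod_three F.u_code.1, pow_add, ← mul_assoc (g * F.f 153 * g⁻¹), e,
          mul_assoc (g' * F.f 153 * g'⁻¹), ← pow_add,
          show i' + 2 * i' = 3 * i' by ring, pow_mul, hu3, one_pow, mul_one]
      have hd0 : d = 0 := by
        have hlt3 : d < 3 := Nat.mod_lt _ (by norm_num)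
        by_contra hne
        have hk : g⁻¹ * g' ∈ F.lu := mul_mem (inv_mem hg) hg'
        have e3 : (g⁻¹ * g') * F.f 153 * (g⁻¹ * g')⁻¹ = F.f 153 * F.f 150 ^ d := by
          calc (g⁻¹ * g') * F.f 153 * (g⁻¹ * g')⁻¹ = g⁻¹ * (g' * F.f 153 * g'⁻¹) * g := by group
            _ = F.f 153 * (g⁻¹ * F.f 150 ^ d * g) := by rw [e2]; group
            _ = _ := by
              congr 1
              rw [mul_assoc, ← ((F.mem_cu.1 hg.1).pow_right d).eq, inv_mul_cancel_left]
        have huty : UTy (F.f 153 * F.f 150 ^ d) := e3 ▸ F.uty_153.map _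
        interval_cases d
        · exact hne rfl
        · rw [pow_one, ← F.mul _ _ (by norm_num) (by norm_num)] at huty
          exact F.not_uty u1_products.1 huty
        · rw [pow_two, ← F.mul _ _ (by norm_num) (by norm_num), show mulH 150 150 = 225 by decide +kernel,
            ← F.mul _ _ (by norm_num) (by norm_num)] at huty
          exact F.not_uty u1_products.2 huty
      obtain rfl : i = i' := by omega
      rw [mul_left_injective _ e]
    have h := Set.ncard_le_ncard_of_injOn _ (fun a ha => hmap ha) hinj (Set.toFinite _)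
    rw [Set.ncard_prod, Set.ncard_sdiff (SetLike.coe_subset_coe.2 (zpowers_le.2 (F.psub_le_esub u_mem))) (Set.toFinite _),
      show (F.esub : Set G).ncard = 81 from (Nat.card_coe_set_eq _).symm.trans (C.card_esub S),
      show (zpowers (F.f 150) : Set G).ncard = 3 from (Nat.card_coe_set_eq _).symm.trans
        ((Nat.card_zpowers _).trans (orderOf_cube F.u_code.1 F.u_code.2)),
      show (Set.Iio 3 : Set ℕ).ncard = 3 by simp [Set.ncard_eq_toFinset_card']] at h
    omega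
  omega

end Cycle

end Cfsg.Agent.U43T
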